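import Cfsg.Agent.Lib.Extraspecial.Basics
import Cfsg.Agent.Lib.Fitting.Basic

/-!
# An extraspecial two-subgroup with centre `⟨z⟩`, normal in the centralizer of `z`

`Setting Q z`: `Q` is extraspecial, `C(Q) = Z(Q) = ⟨z⟩` and `C(z)` normalizes `Q`.
`conj_center_mem`: if a conjugate `g z g⁻¹ ≠ z` lies in `Q` and `Q` has width at least two then `z`
lies in the corresponding conjugate of `Q`.
-/

set_option autoImplicit false
set_option linter.style.haveILetI false
set_option linter.unusedSectionVars false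

open Cfsg
open scoped commutatorElement

namespace CfsgLib.Extraspecial

variable {G : Type*} [Group G] [Finite G]

/-- A criterion for being extraspecial. -/
theorem isExtraspecial_of {Y : Type*} [Group Y] [Finite Y] {p : ℕ} [Fact p.Prime] (hY : IsPGroup p Y)
    (hc : Nat.card (Subgroup.center Y) = p) (hcomm : ∀ a b : Y, ⁅a, b⁆ ∈ Subgroup.center Y)
    (hpow : ∀ a : Y, a ^ p ∈ Subgroup.center Y) (hne : ∃ a b : Y, ⁅a, b⁆ ≠ 1) :
    IsExtraspecial p Y := by
  have hle : commutator Y ≤ Subgroup.center Y := by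
    rw [commutator_def, Subgroup.commutator_le]
    exact fun a _ b _ => hcomm a b
  have heq : commutator Y = Subgroup.center Y := by
    obtain ⟨a, b, hab⟩ := hne
    obtain ⟨k, hk⟩ := IsPGroup.iff_card.mp (hY.to_subgroup (commutator Y))
    refine Subgroup.eq_of_le_of_card_ge hle ?_
    rw [hc, hk]
    refine Nat.le_self_pow (fun h0 => hab ?_) p
    have hb := Subgroup.eq_bot_of_card_eq _ (hk.trans (by rw [h0, pow_zero]))
    rw [← Subgroup.mem_bot, ← hb, commutator_def]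
    exact Subgroup.commutator_mem_commutator (Subgroup.mem_top a) (Subgroup.mem_top b)
  refine ⟨⟨hY, le_antisymm (Critical.frattini_le_of_elementary _ hle hpow) ?_, heq⟩, hc⟩
  exact heq ▸ (PSolvable.commutator_le_frattini hY).1

/-- Being extraspecial is invariant under isomorphisms. -/
theorem isExtraspecial_congr {X Y : Type*} [Group X] [Finite X] [Group Y] [Finite Y] {p : ℕ}
    [Fact p.Prime] (e : X ≃* Y) (h : IsExtraspecial p X) : IsExtraspecial p Y := by
  have hmem : ∀ y : Y, y ∈ Subgroup.center Y ↔ e.symm y ∈ Subgroup.center X := by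
    intro y
    simp only [Subgroup.mem_center_iff]
    refine ⟨fun hy x => e.injective (by simp [hy (e x)]), fun hy x => e.symm.injective (by simp [hy (e.symm x)])⟩
  refine isExtraspecial_of (h.1.1.of_equiv e) ?_ ?_ ?_ ?_
  · rw [← h.2]
    exact Nat.card_congr
      { toFun := fun y => ⟨e.symm y, (hmem y).mp y.2⟩
        invFun := fun x => ⟨e x, (hmem _).mpr (by simp [x.2])⟩
        left_inv := fun y => Subtype.ext (by simp)
        right_inv := fun x => Subtype.ext (by simp) }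
  · intro a b
    rw [hmem, map_commutatorElement]
    exact comm_mem h _ _
  · intro a
    rw [hmem, map_pow]
    exact pow_mem_center h _
  · obtain ⟨x, hx⟩ := exists_not_central h
    rw [Subgroup.mem_center_iff] at hx
    push Not at hx
    obtain ⟨g, hg⟩ := hx
    refine ⟨e g, e x, fun he => hg ?_⟩
    rw [← map_commutatorElement] at he
    exact commutatorElement_eq_one_iff_mul_comm.mp (e.injective (he.trans e.map_one.symm))

/-- `Q` is extraspecial with `C(Q) = Z(Q) = ⟨z⟩` and `C(z) ≤ N(Q)`. -/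
structure Setting (Q : Subgroup G) (z : G) : Prop where
  ex : IsExtraspecial 2 Q
  center : (Subgroup.center Q).map Q.subtype = Subgroup.zpowers z
  ordz : orderOf z = 2
  cQ : Subgroup.centralizer (Q : Set G) = Subgroup.zpowers z
  cz : Subgroup.centralizer ({z} : Set G) ≤ Subgroup.normalizer (Q : Set G)

/-- The generator of the centre. -/
theorem exists_gen {Q : Subgroup G} (h : IsExtraspecial 2 Q) :
    ∃ z : G, (Subgroup.center Q).map Q.subtype = Subgroup.zpowers z ∧ orderOf z = 2 := by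
  haveI := Fact.mk Nat.prime_two
  obtain ⟨z, hz, hz1⟩ := exists_center_ne h
  obtain ⟨he, ho⟩ := center_eq h hz hz1
  refine ⟨z, ?_, by rw [Subgroup.orderOf_coe, ho]⟩
  rw [← he, MonoidHom.map_zpowers]
  rfl

namespace Setting

variable {Q : Subgroup G} {z : G} (s : Setting Q z)
include s

theorem zz : z * z = 1 := by
  rw [← pow_two, ← s.ordz, pow_orderOf_eq_one]

theorem inv_z : z⁻¹ = z := inv_eq_of_mul_eq_one_right s.zz

theorem ne_one : z ≠ 1 := fun h => by
  have := s.ordz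
  rw [h, orderOf_one] at this
  norm_num at this

theorem mem_zpowers {x : G} (hx : x ∈ Subgroup.zpowers z) : x = 1 ∨ x = z := by
  obtain ⟨n, rfl⟩ := Subgroup.mem_zpowers_iff.mp hx
  rcases Int.even_or_odd' n with ⟨m, rfl | rfl⟩
  · exact Or.inl (by rw [zpow_mul, zpow_two, s.zz, one_zpow])
  · exact Or.inr (by rw [zpow_add, zpow_mul, zpow_two, s.zz, one_zpow, one_mul, zpow_one])

theorem center_mem {x : G} (hx : x ∈ Q) (hc : (⟨x, hx⟩ : Q) ∈ Subgroup.center Q) : x = 1 ∨ x = z :=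
  s.mem_zpowers (s.center.le ⟨⟨x, hx⟩, hc, rfl⟩)

theorem z_mem : z ∈ Q := by
  have h : z ∈ (Subgroup.center Q).map Q.subtype := s.center.ge (Subgroup.mem_zpowers z)
  exact Subgroup.map_subtype_le _ h

theorem z_comm {q : G} (hq : q ∈ Q) : q * z = z * q := by
  obtain ⟨w, hw, hwz⟩ := s.center.ge (Subgroup.mem_zpowers z)
  have h1 : (⟨q, hq⟩ : Q) * w = w * ⟨q, hq⟩ := Subgroup.mem_center_iff.mp hw _
  rw [← hwz]
  exact congrArg Subtype.val h1

theorem le_centralizer_z : Q ≤ Subgroup.centralizer ({z} : Set G) := fun _ hq =>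
  Subgroup.mem_centralizer_singleton_iff.mpr (s.z_comm hq)

theorem eq_of_forall {x : G} (hx : x ∈ Q) (h : ∀ q ∈ Q, q * x = x * q) : x = 1 ∨ x = z :=
  s.center_mem hx (Subgroup.mem_center_iff.mpr fun q => Subtype.ext (h q q.2))

theorem comm_cases {a b : G} (ha : a ∈ Q) (hb : b ∈ Q) : a * b * a⁻¹ = b ∨ a * b * a⁻¹ = z * b := by
  rcases s.center_mem (Q.mul_mem (Q.mul_mem (Q.mul_mem ha hb) (Q.inv_mem ha)) (Q.inv_mem hb))
    (comm_mem s.ex ⟨a, ha⟩ ⟨b, hb⟩) with h | h
  · exact Or.inl (mul_inv_eq_one.mp h)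
  · exact Or.inr (mul_inv_eq_iff_eq_mul.mp h)

theorem sq_cases {a : G} (ha : a ∈ Q) : a * a = 1 ∨ a * a = z := by
  haveI := Fact.mk Nat.prime_two
  have h := pow_mem_center s.ex ⟨a, ha⟩
  rw [pow_two] at h
  exact s.center_mem (Q.mul_mem ha ha) h

theorem exists_move {x : G} (hx : x ∈ Q) (h1 : x ≠ 1) (hz : x ≠ z) :
    ∃ u ∈ Q, u * x * u⁻¹ = z * x := by
  by_contra h
  push Not at h
  rcases s.eq_of_forall hx (fun q hq => mul_inv_eq_iff_eq_mul.mp
    ((s.comm_cases hq hx).resolve_right (h q hq))) with e | e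
  · exact h1 e
  · exact hz e

theorem conj (g : G) : Setting (Q.map (MulAut.conj g).toMonoidHom) (g * z * g⁻¹) := by
  haveI := Fact.mk Nat.prime_two
  set f := (MulAut.conj g).toMonoidHom with hf
  have hf' : ∀ x, f x = g * x * g⁻¹ := fun x => MulAut.conj_apply g x
  have hinj : Function.Injective f := (MulAut.conj g).injective
  have hmem : ∀ x : G, x ∈ Q.map f ↔ g⁻¹ * x * g ∈ Q := by
    intro x
    constructor
    · rintro ⟨q, hq, rfl⟩
      simpa [hf', mul_assoc] using hq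
    · exact fun h => ⟨_, h, by rw [hf']; group⟩
  have hcz : ∀ x : G, x ∈ Subgroup.zpowers (g * z * g⁻¹) ↔ g⁻¹ * x * g ∈ Subgroup.zpowers z := by
    intro x
    simp only [Subgroup.mem_zpowers_iff, conj_zpow]
    refine exists_congr fun n => ⟨fun h => by rw [← h]; group, fun h => by rw [h]; group⟩
  constructor
  · exact isExtraspecial_congr (Q.equivMapOfInjective f hinj) s.ex
  · ext x
    rw [hcz, ← s.center]
    constructor
    · rintro ⟨w, hw, rfl⟩
      refine ⟨⟨_, (hmem _).mp w.2⟩, Subgroup.mem_center_iff.mpr fun q => Subtype.ext ?_, rfl⟩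
      have h1 := congrArg Subtype.val (Subgroup.mem_center_iff.mp hw ⟨f q, ⟨q, q.2, rfl⟩⟩)
      simp only [Subgroup.coe_mul, hf'] at h1
      show (q : G) * (g⁻¹ * w * g) = g⁻¹ * w * g * q
      calc (q : G) * (g⁻¹ * w * g) = g⁻¹ * (g * q * g⁻¹ * w) * g := by group
        _ = g⁻¹ * ((w : G) * (g * q * g⁻¹)) * g := by rw [h1]
        _ = _ := by group
    · rintro ⟨w, hw, hwx⟩
      replace hwx : (w : G) = g⁻¹ * x * g := hwx
      refine ⟨⟨x, (hmem x).mpr (hwx ▸ w.2)⟩, Subgroup.mem_center_iff.mpr fun q => Subtype.ext ?_, rfl⟩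
      have h1 := congrArg Subtype.val (Subgroup.mem_center_iff.mp hw ⟨_, (hmem q).mp q.2⟩)
      simp only [Subgroup.coe_mul, hwx] at h1
      show (q : G) * x = x * q
      calc (q : G) * x = g * (g⁻¹ * q * g * (g⁻¹ * x * g)) * g⁻¹ := by group
        _ = g * (g⁻¹ * x * g * (g⁻¹ * q * g)) * g⁻¹ := by rw [h1]
        _ = _ := by group
  · rw [← MulAut.conj_apply, MulEquiv.orderOf_eq, s.ordz]
  · ext x
    rw [hcz, ← s.cQ, Subgroup.mem_centralizer_iff, Subgroup.mem_centralizer_iff]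
    refine ⟨fun h q hq => ?_, fun h q hq => ?_⟩
    · have h1 := h (f q) ⟨q, hq, rfl⟩
      rw [hf'] at h1
      calc q * (g⁻¹ * x * g) = g⁻¹ * (g * q * g⁻¹ * x) * g := by group
        _ = g⁻¹ * (x * (g * q * g⁻¹)) * g := by rw [h1]
        _ = _ := by group
    · have h1 := h _ ((hmem q).mp hq)
      calc q * x = g * (g⁻¹ * q * g * (g⁻¹ * x * g)) * g⁻¹ := by group
        _ = g * (g⁻¹ * x * g * (g⁻¹ * q * g)) * g⁻¹ := by rw [h1]
        _ = _ := by group
  · intro x hx
    rw [Subgroup.mem_centralizer_singleton_iff] at hx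
    have h1 := s.cz (Subgroup.mem_centralizer_singleton_iff.mpr (show g⁻¹ * x * g * z = z * (g⁻¹ * x * g) by
      calc g⁻¹ * x * g * z = g⁻¹ * (x * (g * z * g⁻¹)) * g := by group
        _ = g⁻¹ * (g * z * g⁻¹ * x) * g := by rw [hx]
        _ = _ := by group))
    rw [Subgroup.mem_normalizer_iff] at h1 ⊢
    intro y
    rw [hmem, hmem, h1]
    have e : g⁻¹ * x * g * (g⁻¹ * y * g) * (g⁻¹ * x * g)⁻¹ = g⁻¹ * (x * y * x⁻¹) * g := by group
    rw [e]

theorem map_eq_of_mem {h : G} (hh : h ∈ Subgroup.normalizer (Q : Set G)) :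
    Q.map (MulAut.conj h).toMonoidHom = Q := by
  ext x
  refine ⟨?_, fun hx => ⟨h⁻¹ * x * h, ?_, ?_⟩⟩
  · rintro ⟨q, hq, rfl⟩
    exact (Subgroup.mem_normalizer_iff.mp hh q).mp hq
  · have := (Subgroup.mem_normalizer_iff.mp (inv_mem hh) x).mp hx
    rwa [inv_inv] at this
  · show h * (h⁻¹ * x * h) * h⁻¹ = x
    group

/-- Equal conjugates of `z` give equal conjugates of `Q`. -/
theorem map_eq {a b : G} (h : a * z * a⁻¹ = b * z * b⁻¹) :
    Q.map (MulAut.conj a).toMonoidHom = Q.map (MulAut.conj b).toMonoidHom := by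
  have hc : a⁻¹ * b ∈ Subgroup.centralizer ({z} : Set G) := by
    rw [Subgroup.mem_centralizer_singleton_iff]
    calc a⁻¹ * b * z = a⁻¹ * (b * z * b⁻¹) * b := by group
      _ = a⁻¹ * (a * z * a⁻¹) * b := by rw [h]
      _ = _ := by group
  conv_lhs => rw [← s.map_eq_of_mem (s.cz hc)]
  rw [Subgroup.map_map]
  congr 1
  ext x
  simp [mul_assoc]

/-- `P = C_Q(x)` is nonabelian. -/
theorem exists_pair {x : G} (hx : x ∈ Q) (h1 : x ≠ 1) (hz : x ≠ z) (hw : 16 ≤ Nat.card Q) :
    ∃ a ∈ Q, ∃ b ∈ Q, a * x = x * a ∧ b * x = x * b ∧ a * b * a⁻¹ = z * b := by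
  haveI := Fact.mk Nat.prime_two
  by_contra h
  push Not at h
  let P : Subgroup Q := Subgroup.centralizer ({⟨x, hx⟩} : Set Q)
  have hP : IsMulCommutative P := ⟨⟨fun a b => Subtype.ext (Subtype.ext (mul_inv_eq_iff_eq_mul.mp
    ((s.comm_cases a.1.2 b.1.2).resolve_right (h _ a.1.2 _ b.1.2
      (congrArg Subtype.val (Subgroup.mem_centralizer_singleton_iff.mp a.2))
      (congrArg Subtype.val (Subgroup.mem_centralizer_singleton_iff.mp b.2))))))⟩⟩
  obtain ⟨u, hu, hux⟩ := s.exists_move hx h1 hz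
  have hi : P.index = 2 := by
    rw [Subgroup.index_eq_two_iff]
    refine ⟨⟨u, hu⟩, fun b => ?_⟩
    have e1 : ∀ c : Q, c ∈ P ↔ (c : G) * x * (c : G)⁻¹ = x := fun c => by
      rw [Subgroup.mem_centralizer_singleton_iff, mul_inv_eq_iff_eq_mul]
      exact ⟨fun e => congrArg Subtype.val e, fun e => Subtype.ext e⟩
    rw [e1, e1]
    have e2 : ((b * ⟨u, hu⟩ : Q) : G) * x * ((b * ⟨u, hu⟩ : Q) : G)⁻¹ = z * ((b : G) * x * (b : G)⁻¹) := by
      rw [← mul_assoc z, ← mul_assoc z, ← s.z_comm b.2]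
      calc ((b : G) * u) * x * ((b : G) * u)⁻¹ = (b : G) * (u * x * u⁻¹) * (b : G)⁻¹ := by group
        _ = _ := by rw [hux]; group
    rw [e2]
    rcases s.comm_cases b.2 hx with e | e <;> rw [e]
    · exact Or.inr ⟨rfl, fun e' => s.ne_one (mul_eq_right.mp e')⟩
    · refine Or.inl ⟨by rw [← mul_assoc, s.zz, one_mul], fun e' => s.ne_one (mul_eq_right.mp e')⟩
  have h3 := card_le_of_abelian s.ex P hP hi
  omega

/-- The centre of `Q` lies in the conjugate of `Q` attached to a conjugate of `z` in `Q`. -/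
theorem conj_center_mem {g : G} (hg : g * z * g⁻¹ ∈ Q) (hne : g * z * g⁻¹ ≠ z) (hw : 16 ≤ Nat.card Q) :
    z ∈ Q.map (MulAut.conj g).toMonoidHom := by
  have s' := s.conj g
  set z' := g * z * g⁻¹ with hz'
  set Q' := Q.map (MulAut.conj g).toMonoidHom with hQ'
  have hcom : z * z' = z' * z := (s.z_comm hg).symm
  obtain ⟨u, hu, huz⟩ := s.exists_move hg s'.ne_one hne
  by_contra hzQ'
  have hNQ' : ∀ a : G, a * z' = z' * a → ∀ v ∈ Q', a * v * a⁻¹ ∈ Q' := fun a ha v hv =>
    (Subgroup.mem_normalizer_iff.mp (s'.cz (Subgroup.mem_centralizer_singleton_iff.mpr ha)) v).mp hv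
  -- no element of `Q'` moves `z` to `z' z`
  have hA : ∀ x ∈ Q', x * z * x⁻¹ ≠ z' * z := by
    intro x hx he
    have h1 : (u * g) * z * (u * g)⁻¹ = x * z * x⁻¹ := by
      rw [he, ← hcom, ← huz, hz']; group
    have h2 := s.map_eq h1
    have h3 : x * z' * x⁻¹ ∈ Q.map (MulAut.conj x).toMonoidHom := ⟨z', hg, rfl⟩
    have h4 : x * z * x⁻¹ ∈ Q.map (MulAut.conj x).toMonoidHom := ⟨z, s.z_mem, rfl⟩
    rw [← h2] at h3 h4
    rw [show x * z' * x⁻¹ = z' by rw [s'.z_comm hx, mul_inv_cancel_right]] at h3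
    rw [he] at h4
    have h5 := mul_mem (inv_mem h3) h4
    rw [inv_mul_cancel_left] at h5
    obtain ⟨q, hq, hqz⟩ := h5
    apply hzQ'
    refine ⟨q, hq, ?_⟩
    show g * q * g⁻¹ = z
    calc g * q * g⁻¹ = u⁻¹ * ((u * g) * q * (u * g)⁻¹) * u := by group
      _ = u⁻¹ * z * u := by rw [show (u * g) * q * (u * g)⁻¹ = z from hqz]
      _ = z := by rw [mul_assoc, ← s.z_comm hu, inv_mul_cancel_left]
  have hzv : ∀ v ∈ Q', z * v * z ∈ Q' := fun v hv => by
    have := hNQ' z hcom v hv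
    rwa [s.inv_z] at this
  -- (i) commutators with `z` are fixed by `z`
  have hfix : ∀ v ∈ Q', v⁻¹ * (z * v * z) ∈ Q' ∧
      z * (v⁻¹ * (z * v * z)) = v⁻¹ * (z * v * z) * z := by
    intro v hv
    have hc : v⁻¹ * (z * v * z) ∈ Q' := Q'.mul_mem (Q'.inv_mem hv) (hzv v hv)
    refine ⟨hc, ?_⟩
    set c := v⁻¹ * (z * v * z) with hcdef
    have e1 : z * c * z = c⁻¹ := by
      calc z * c * z = z * v⁻¹ * z * v * (z * z) := by rw [hcdef]; group
        _ = z⁻¹ * v⁻¹ * z⁻¹ * v := by rw [s.zz, mul_one, s.inv_z]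
        _ = c⁻¹ := by rw [hcdef]; group
    rcases s'.sq_cases hc with e | e
    · rw [inv_eq_of_mul_eq_one_right e] at e1
      calc z * c = z * c * (z * z) := by rw [s.zz, mul_one]
        _ = _ := by rw [← mul_assoc, e1]
    · exfalso
      have e2 : c⁻¹ = c * z' := by
        rw [inv_eq_iff_mul_eq_one, ← mul_assoc, e, s'.zz]
      rw [e2] at e1
      refine hA c hc ?_
      calc c * z * c⁻¹ = z * (z * c * z) * c⁻¹ := by rw [← mul_assoc z, ← mul_assoc z, s.zz, one_mul]
        _ = z * (c * z') * c⁻¹ := by rw [e1]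
        _ = z' * z := by rw [s'.z_comm hc, ← mul_assoc, mul_inv_cancel_right, hcom]
  -- (ii) what centralizes the fixed points of `z` is fixed
  have hperp : ∀ y ∈ Q', (∀ r ∈ Q', z * r = r * z → y * r * y⁻¹ = r) → z * y = y * z := by
    intro y hy hyr
    have hw1 : ∀ t ∈ Q', t * (y⁻¹ * (z * y * z)) = y⁻¹ * (z * y * z) * t := by
      intro t ht
      obtain ⟨hc', hc'z⟩ := hfix t ht
      set c' := t⁻¹ * (z * t * z) with hc'def
      have hzt : z * t * z = t * c' := by rw [hc'def, mul_inv_cancel_left]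
      obtain ⟨e, he, heyt⟩ : ∃ e : G, (z * e = e * z) ∧ y * t * y⁻¹ = e * t := by
        rcases s'.comm_cases hy ht with h | h
        · exact ⟨1, by group, by rw [one_mul]; exact h⟩
        · exact ⟨z', hcom, h⟩
      have h1 : y * (z * t * z) * y⁻¹ = e * (z * t * z) := by
        rw [hzt]
        calc y * (t * c') * y⁻¹ = (y * t * y⁻¹) * (y * c' * y⁻¹) := by group
          _ = _ := by rw [heyt, hyr c' hc' hc'z, mul_assoc]
      have h2 : (z * y * z) * t * (z * y * z)⁻¹ = e * t := by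
        calc (z * y * z) * t * (z * y * z)⁻¹ = z * (y * (z * t * z⁻¹) * y⁻¹) * z⁻¹ := by group
          _ = z * (y * (z * t * z) * y⁻¹) * z := by rw [s.inv_z]
          _ = z * e * z * t * (z * z) := by rw [h1]; group
          _ = _ := by rw [s.zz, mul_one, he, mul_assoc e, s.zz, mul_one]
      calc t * (y⁻¹ * (z * y * z)) = y⁻¹ * ((y * t * y⁻¹) * (z * y * z)) := by group
        _ = y⁻¹ * ((z * y * z) * t * (z * y * z)⁻¹ * (z * y * z)) := by rw [heyt, h2]
        _ = _ := by group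
    rcases s'.eq_of_forall (Q'.mul_mem (Q'.inv_mem hy) (hzv y hy)) hw1 with h | h
    · rw [inv_mul_eq_one] at h
      calc z * y = z * y * (z * z) := by rw [s.zz, mul_one]
        _ = _ := by rw [← mul_assoc, ← h]
    · exfalso
      rw [inv_mul_eq_iff_eq_mul] at h
      refine hA y hy ?_
      calc y * z * y⁻¹ = z * (z * y * z) * y⁻¹ := by rw [← mul_assoc z, ← mul_assoc z, s.zz, one_mul]
        _ = z * (y * z') * y⁻¹ := by rw [h]
        _ = z' * z := by rw [s'.z_comm hy, ← mul_assoc, mul_inv_cancel_right, hcom]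
  -- `Q ∩ Q'` is generated by `z'`
  have hinf : ∀ x ∈ Q, x ∈ Q' → x = 1 ∨ x = z' := by
    intro x hx hx'
    have hcen : ∀ a ∈ Q, a * z' = z' * a → a * x * a⁻¹ = x := by
      intro a ha haz
      rcases s.comm_cases ha hx with h | h
      · exact h
      · exfalso
        apply hzQ'
        have := Q'.mul_mem (hNQ' a haz x hx') (Q'.inv_mem hx')
        rwa [h, mul_inv_cancel_right] at this
    -- modify by `z'` to commute with `u`
    obtain ⟨w, hwQ, hwQ', hwz', hwu⟩ : ∃ w ∈ Q, w ∈ Q' ∧ (w = x ∨ w = x * z') ∧ u * w * u⁻¹ = w := by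
      rcases s.comm_cases hu hx with h | h
      · exact ⟨x, hx, hx', Or.inl rfl, h⟩
      · refine ⟨x * z', Q.mul_mem hx hg, Q'.mul_mem hx' s'.z_mem, Or.inr rfl, ?_⟩
        calc u * (x * z') * u⁻¹ = (u * x * u⁻¹) * (u * z' * u⁻¹) := by group
          _ = z * (x * z) * z' := by rw [h, huz]; group
          _ = _ := by rw [s.z_comm hx, ← mul_assoc z, s.zz, one_mul]
    have hwall : ∀ q ∈ Q, q * w = w * q := by
      intro q hq
      have hwc : ∀ a ∈ Q, a * z' = z' * a → a * w * a⁻¹ = w := by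
        intro a ha haz
        rcases hwz' with rfl | rfl
        · exact hcen a ha haz
        · calc a * (x * z') * a⁻¹ = (a * x * a⁻¹) * (a * z' * a⁻¹) := by group
            _ = _ := by rw [hcen a ha haz, haz, mul_inv_cancel_right]
      rcases s.comm_cases hq hg with h | h
      · exact mul_inv_eq_iff_eq_mul.mp (hwc q hq (mul_inv_eq_iff_eq_mul.mp h))
      · have h1 : (q * u) * z' = z' * (q * u) := by
          rw [← mul_inv_eq_iff_eq_mul]
          calc q * u * z' * (q * u)⁻¹ = q * (u * z' * u⁻¹) * q⁻¹ := by group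
            _ = (q * z) * z' * q⁻¹ := by rw [huz]; group
            _ = z * (q * z' * q⁻¹) := by rw [s.z_comm hq]; group
            _ = z' := by rw [h, ← mul_assoc, s.zz, one_mul]
        have h2 := hwc (q * u) (Q.mul_mem hq hu) h1
        rw [← mul_inv_eq_iff_eq_mul]
        calc q * w * q⁻¹ = q * (u * w * u⁻¹) * q⁻¹ := by rw [hwu]
          _ = q * u * w * (q * u)⁻¹ := by group
          _ = w := h2
    rcases s.eq_of_forall hwQ hwall with e | e
    · rcases hwz' with rfl | rfl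
      · exact Or.inl e
      · exact Or.inr ((eq_inv_of_mul_eq_one_left e).trans s'.inv_z)
    · exact absurd (e ▸ hwQ') hzQ'
  -- the commutators of `C_Q(z')` with `Q'` are fixed by `z`
  have hPR : ∀ a ∈ Q, a * z' = z' * a → ∀ r ∈ Q', z * r = r * z →
      ∃ e : G, (e = 1 ∨ e = z') ∧ a * r * a⁻¹ = e * r := by
    intro a ha haz r hr hrz
    refine ⟨a * r * a⁻¹ * r⁻¹, hinf _ ?_ ?_, by group⟩
    · have h1 := (Subgroup.mem_normalizer_iff.mp (s.cz (Subgroup.mem_centralizer_singleton_iff.mpr hrz.symm))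
        a⁻¹).mp (Q.inv_mem ha)
      have := Q.mul_mem ha h1
      simpa [mul_assoc] using this
    · exact Q'.mul_mem (hNQ' a haz r hr) (Q'.inv_mem hr)
  have hcomma : ∀ a ∈ Q, a * z' = z' * a → ∀ v ∈ Q',
      v * a * v⁻¹ * a⁻¹ ∈ Q' ∧ z * (v * a * v⁻¹ * a⁻¹) = v * a * v⁻¹ * a⁻¹ * z := by
    intro a ha haz v hv
    have hc : v * a * v⁻¹ * a⁻¹ ∈ Q' := by
      have := Q'.mul_mem hv (hNQ' a haz _ (Q'.inv_mem hv))
      simpa [mul_assoc] using this
    refine ⟨hc, hperp _ hc fun r hr hrz => ?_⟩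
    obtain ⟨e, he, hear⟩ := hPR a ha haz r hr hrz
    obtain ⟨d, hd, hvr⟩ : ∃ d, (d = 1 ∨ d = z') ∧ v * r * v⁻¹ = d * r := by
      rcases s'.comm_cases hv hr with h | h
      · exact ⟨1, Or.inl rfl, by rw [one_mul]; exact h⟩
      · exact ⟨z', Or.inr rfl, h⟩
    have hec : ∀ w, (w = 1 ∨ w = z') → a * w = w * a ∧ v * w = w * v ∧ w * w = 1 := by
      rintro w (rfl | rfl)
      · exact ⟨by group, by group, one_mul 1⟩
      · exact ⟨haz, s'.z_comm hv, s'.zz⟩
    obtain ⟨hea, hev, hee⟩ := hec e he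
    obtain ⟨hda, hdv, hdd⟩ := hec d hd
    have hde : d * e = e * d := by
      rcases hd with rfl | rfl <;> rcases he with rfl | rfl <;> simp
    have hai : a⁻¹ * r * a = e * r := by
      calc a⁻¹ * r * a = a⁻¹ * (e * (e * r)) * a := by rw [← mul_assoc e, hee, one_mul]
        _ = a⁻¹ * (e * (a * r * a⁻¹)) * a := by rw [hear]
        _ = a⁻¹ * (e * a) * r := by group
        _ = _ := by rw [← hea, inv_mul_cancel_left]
    have hvi : v⁻¹ * r * v = d * r := by
      calc v⁻¹ * r * v = v⁻¹ * (d * (d * r)) * v := by rw [← mul_assoc d, hdd, one_mul]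
        _ = v⁻¹ * (d * (v * r * v⁻¹)) * v := by rw [hvr]
        _ = v⁻¹ * (d * v) * r := by group
        _ = _ := by rw [← hdv, inv_mul_cancel_left]
    calc v * a * v⁻¹ * a⁻¹ * r * (v * a * v⁻¹ * a⁻¹)⁻¹
        = v * (a * (v⁻¹ * (a⁻¹ * r * a) * v) * a⁻¹) * v⁻¹ := by group
      _ = v * (a * ((v⁻¹ * e * v) * (v⁻¹ * r * v)) * a⁻¹) * v⁻¹ := by rw [hai]; group
      _ = v * (a * (e * (d * r)) * a⁻¹) * v⁻¹ := by
          rw [hvi, mul_assoc v⁻¹, ← hev, inv_mul_cancel_left]
      _ = v * ((a * e * a⁻¹) * (a * d * a⁻¹) * (a * r * a⁻¹)) * v⁻¹ := by group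
      _ = v * (e * d * (e * r)) * v⁻¹ := by rw [hea, hda, mul_inv_cancel_right, mul_inv_cancel_right, hear]
      _ = v * (d * r) * v⁻¹ := by rw [← hde, mul_assoc d, ← mul_assoc e, hee, one_mul]
      _ = (v * d * v⁻¹) * (v * r * v⁻¹) := by group
      _ = _ := by rw [hdv, mul_inv_cancel_right, hvr, ← mul_assoc, hdd, one_mul]
  obtain ⟨a, ha, b, hb, haz, hbz, hab⟩ := s.exists_pair hg s'.ne_one hne hw
  -- `z = [a, b]` centralizes `Q'`
  have hall : ∀ y ∈ Q', z * y = y * z := by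
    intro y hy
    set c : G := a * b with hcdef
    have hcz : c * z' = z' * c := by rw [hcdef, mul_assoc, hbz, ← mul_assoc, haz, mul_assoc]
    have hyv : c⁻¹ * y * c ∈ Q' := by
      have h1 : c⁻¹ * z' = z' * c⁻¹ := by
        rw [eq_mul_inv_iff_mul_eq, mul_assoc, ← hcz, inv_mul_cancel_left]
      have := hNQ' c⁻¹ h1 y hy
      rwa [inv_inv] at this
    set v := c⁻¹ * y * c with hv
    -- conjugation by `a` and `b` on cosets
    obtain ⟨hra, hraz⟩ := hcomma a ha haz v hyv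
    obtain ⟨hrb, hrbz⟩ := hcomma b hb hbz v hyv
    set ra := v * a * v⁻¹ * a⁻¹ with hradef
    set rb := v * b * v⁻¹ * b⁻¹ with hrbdef
    have hav : a * v * a⁻¹ = ra⁻¹ * v := by rw [hradef]; group
    have hbv : b * v * b⁻¹ = rb⁻¹ * v := by rw [hrbdef]; group
    obtain ⟨e, he, hear⟩ := hPR a ha haz rb⁻¹ (Q'.inv_mem hrb)
      (by rw [eq_inv_mul_iff_mul_eq, ← mul_assoc, ← hrbz, mul_inv_cancel_right])
    obtain ⟨f, hf, hbfr⟩ := hPR b hb hbz ra⁻¹ (Q'.inv_mem hra)
      (by rw [eq_inv_mul_iff_mul_eq, ← mul_assoc, ← hraz, mul_inv_cancel_right])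
    obtain ⟨d, hd, hrr⟩ : ∃ d, (d = 1 ∨ d = z') ∧ rb⁻¹ * ra⁻¹ * rb⁻¹⁻¹ = d * ra⁻¹ := by
      rcases s'.comm_cases (Q'.inv_mem hrb) (Q'.inv_mem hra) with h | h
      · exact ⟨1, Or.inl rfl, by rw [one_mul]; exact h⟩
      · exact ⟨z', Or.inr rfl, h⟩
    have hy' : y = e * (rb⁻¹ * ra⁻¹) * v := by
      calc y = a * (b * v * b⁻¹) * a⁻¹ := by rw [hv, hcdef]; group
        _ = (a * rb⁻¹ * a⁻¹) * (a * v * a⁻¹) := by rw [hbv]; group
        _ = _ := by rw [hear, hav]; group
    have hba : b * a = z * c := by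
      have h1 : a * b = z * (b * a) := by
        calc a * b = (a * b * a⁻¹) * a := by group
          _ = _ := by rw [hab, mul_assoc]
      rw [hcdef, h1, ← mul_assoc z, s.zz, one_mul]
    have hzy : z * y * z = f * (ra⁻¹ * rb⁻¹) * v := by
      calc z * y * z = (b * a) * v * (b * a)⁻¹ := by
            rw [hba, mul_inv_rev, s.inv_z, hv]; group
        _ = b * (a * v * a⁻¹) * b⁻¹ := by group
        _ = (b * ra⁻¹ * b⁻¹) * (b * v * b⁻¹) := by rw [hav]; group
        _ = _ := by rw [hbfr, hbv]; group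
    have hrr' : rb⁻¹ * ra⁻¹ = d * (ra⁻¹ * rb⁻¹) := by
      calc rb⁻¹ * ra⁻¹ = (rb⁻¹ * ra⁻¹ * rb⁻¹⁻¹) * rb⁻¹ := by group
        _ = _ := by rw [hrr, mul_assoc]
    obtain ⟨k, hk, hzyk⟩ : ∃ k : G, (k = 1 ∨ k = z') ∧ z * y * z = k * y := by
      refine ⟨f * (e * d)⁻¹, ?_, ?_⟩
      · rcases he with rfl | rfl <;> rcases hd with rfl | rfl <;> rcases hf with rfl | rfl <;>
          simp [s'.inv_z, s'.zz]
      · rw [hzy, hy', hrr']
        group
    rcases hk with rfl | rfl
    · rw [one_mul] at hzyk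
      calc z * y = z * y * (z * z) := by rw [s.zz, mul_one]
        _ = _ := by rw [← mul_assoc, hzyk]
    · exfalso
      refine hA y hy ?_
      calc y * z * y⁻¹ = z * (z * y * z) * y⁻¹ := by rw [← mul_assoc z, ← mul_assoc z, s.zz, one_mul]
        _ = z * (z' * y) * y⁻¹ := by rw [hzyk]
        _ = z' * z := by rw [← mul_assoc, mul_inv_cancel_right, hcom]
  have hzC : z ∈ Subgroup.centralizer (Q' : Set G) :=
    Subgroup.mem_centralizer_iff.mpr fun y hy => (hall y hy).symm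
  rw [s'.cQ] at hzC
  rcases s'.mem_zpowers hzC with h | h
  · exact s.ne_one h
  · exact hne h.symm

end Setting

end CfsgLib.Extraspecial
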