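import Mathlib
import Cfsg.Prelude.Def_Transfer
import Cfsg.Agent.Lib.Critical.Basic
import Cfsg.Agent.Lib.PSolvable.Omega

/-!
Extraspecial groups of a given order: one of exponent `p` for odd `p`, at most two for `p = 2`.
-/

set_option autoImplicit false
set_option linter.style.haveILetI false

open Cfsg
open scoped commutatorElement

namespace CfsgLib.Extraspecial

universe u v w

section Glue

variable {G : Type*} {G' : Type*} [Group G] [Group G']

/-- Normal form product. -/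
theorem normal_mul {C : Subgroup G} (x y : G) (hxC : ∀ c ∈ C, Commute x c)
    (hyC : ∀ c ∈ C, Commute y c) (hz : ∀ g, Commute ⁅y, x⁆ g) (i j k l : ℤ) (c d : C) :
    x ^ i * y ^ j * c * (x ^ k * y ^ l * d) =
      x ^ (i + k) * y ^ (j + l) * (⁅y, x⁆ ^ (j * k) * (c * d)) := by
  set w := ⁅y, x⁆ with hw
  have h0 : y * x * y⁻¹ = w * x := by rw [hw, commutatorElement_def]; group
  have h1 : ∀ m : ℤ, y * x ^ m * y⁻¹ = w ^ m * x ^ m := fun m => by
    rw [← conj_zpow, h0, (hz x).mul_zpow]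
  have h2 : ∀ m : ℤ, y ^ j * x ^ m = w ^ (j * m) * (x ^ m * y ^ j) := by
    intro m
    have e : x ^ m * y * (x ^ m)⁻¹ = (w ^ m)⁻¹ * y := by
      have := mul_inv_eq_iff_eq_mul.mp (h1 m)
      rw [eq_inv_mul_iff_mul_eq]
      calc w ^ m * (x ^ m * y * (x ^ m)⁻¹) = (w ^ m * x ^ m * y) * (x ^ m)⁻¹ := by group
        _ = y * x ^ m * (x ^ m)⁻¹ := by rw [← this]
        _ = y := by group
    have e2 := congrArg (· ^ j) e
    simp only [conj_zpow] at e2
    rw [(((hz y).zpow_left m).inv_left).mul_zpow, inv_zpow, ← zpow_mul, mul_inv_eq_iff_eq_mul] at e2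
    rw [e2, mul_comm j m]
    group
  have hc : Commute (c : G) (x ^ k * y ^ l) :=
    (((hxC c c.2).zpow_left k).symm).mul_right (((hyC c c.2).zpow_left l).symm)
  have hwk : Commute (y ^ (j + l)) (w ^ (j * k)) := ((hz _).zpow_left _).symm
  calc x ^ i * y ^ j * c * (x ^ k * y ^ l * d)
      = x ^ i * y ^ j * (c * (x ^ k * y ^ l)) * d := by group
    _ = x ^ i * (y ^ j * x ^ k) * y ^ l * (c * d) := by rw [hc.eq]; group
    _ = x ^ i * (w ^ (j * k) * x ^ k) * (y ^ j * y ^ l) * (c * d) := by rw [h2]; group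
    _ = x ^ i * (x ^ k * w ^ (j * k)) * (y ^ j * y ^ l) * (c * d) := by
      rw [((hz (x ^ k)).zpow_left (j * k)).eq]
    _ = x ^ i * x ^ k * (w ^ (j * k) * y ^ (j + l)) * (c * d) := by rw [zpow_add]; group
    _ = _ := by rw [← hwk.eq, zpow_add x]; group

/-- Two central products `⟨x, y⟩ C` with the same data are isomorphic. -/
theorem exists_equiv {p : ℕ} [Finite G] [Finite G'] (C : Subgroup G) (C' : Subgroup G') (x y : G)
    (x' y' : G') (hxC : ∀ c ∈ C, Commute x c) (hyC : ∀ c ∈ C, Commute y c)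
    (hxC' : ∀ c ∈ C', Commute x' c) (hyC' : ∀ c ∈ C', Commute y' c)
    (hz : ∀ g, Commute ⁅y, x⁆ g) (hz' : ∀ g, Commute ⁅y', x'⁆ g)
    (hzC : ⁅y, x⁆ ∈ C) (hxp : x ^ p ∈ C) (hyp : y ^ p ∈ C) (ψ : C ≃* C')
    (h1 : (ψ ⟨_, hzC⟩ : G') = ⁅y', x'⁆) (h2 : (ψ ⟨_, hxp⟩ : G') = x' ^ p)
    (h3 : (ψ ⟨_, hyp⟩ : G') = y' ^ p)
    (hsurj : ∀ g, ∃ (i j : ℤ) (c : C), g = x ^ i * y ^ j * c)
    (hsurj' : ∀ g, ∃ (i j : ℤ) (c : C'), g = x' ^ i * y' ^ j * c)
    (hindep : ∀ i j : ℤ, x ^ i * y ^ j ∈ C → (p : ℤ) ∣ i ∧ (p : ℤ) ∣ j)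
    (hindep' : ∀ i j : ℤ, x' ^ i * y' ^ j ∈ C' → (p : ℤ) ∣ i ∧ (p : ℤ) ∣ j) :
    ∃ f : G ≃* G', ∀ c : C, f c = ψ c := by
  choose I J K hIJK using hsurj
  let F : G → G' := fun g => x' ^ I g * y' ^ J g * (ψ (K g) : G')
  have hwd : ∀ (i j : ℤ) (c : C), F (x ^ i * y ^ j * c) = x' ^ i * y' ^ j * (ψ c : G') := by
    intro i j c
    set g := x ^ i * y ^ j * (c : G) with hg
    have e := hIJK g
    have hnm := normal_mul x y hxC hyC hz (-I g) 0 i j 1 c
    have hw : ∀ a b : ℤ, x ^ (I g + p * a) * y ^ (J g + p * b) =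
        x ^ I g * y ^ J g * ((x ^ p) ^ a * (y ^ p) ^ b) := by
      intro a b
      have hc1 : Commute (y ^ J g) ((x ^ p) ^ a) := ((hyC _ hxp).zpow_zpow _ _)
      rw [zpow_add, zpow_add, zpow_mul x, zpow_mul y, zpow_natCast, zpow_natCast]
      calc x ^ I g * (x ^ p) ^ a * (y ^ J g * (y ^ p) ^ b)
          = x ^ I g * ((x ^ p) ^ a * y ^ J g) * (y ^ p) ^ b := by group
        _ = _ := by rw [← hc1.eq]; group
    have hw' : ∀ a b : ℤ, x' ^ (I g + p * a) * y' ^ (J g + p * b) =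
        x' ^ I g * y' ^ J g * ((x' ^ p) ^ a * (y' ^ p) ^ b) := by
      intro a b
      have hmem : x' ^ p ∈ C' := h2 ▸ (ψ ⟨_, hxp⟩).2
      have hc1 : Commute (y' ^ J g) ((x' ^ p) ^ a) := ((hyC' _ hmem).zpow_zpow _ _)
      rw [zpow_add, zpow_add, zpow_mul x', zpow_mul y', zpow_natCast, zpow_natCast]
      calc x' ^ I g * (x' ^ p) ^ a * (y' ^ J g * (y' ^ p) ^ b)
          = x' ^ I g * ((x' ^ p) ^ a * y' ^ J g) * (y' ^ p) ^ b := by group
        _ = _ := by rw [← hc1.eq]; group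
    have hdiv : (p : ℤ) ∣ i - I g ∧ (p : ℤ) ∣ j - J g := by
      refine hindep _ _ ?_
      -- the quotient of two normal forms
      have h4 := normal_mul x y hxC hyC hz (I g) (J g) (i - I g) (j - J g) 1 1
      simp only [Subgroup.coe_one, mul_one, add_sub_cancel] at h4
      have h5 : x ^ i * y ^ j = g * (c : G)⁻¹ := by rw [hg]; group
      have h6 : x ^ (i - I g) * y ^ (j - J g) =
          (x ^ I g * y ^ J g)⁻¹ * (x ^ i * y ^ j * ⁅y, x⁆ ^ (J g * (i - I g))) := by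
        rw [← h4]; group
      rw [h6, h5, show g * (c : G)⁻¹ = x ^ I g * y ^ J g * (K g : G) * (c : G)⁻¹ from
          congrArg (· * (c : G)⁻¹) e,
        show (x ^ I g * y ^ J g)⁻¹ * (x ^ I g * y ^ J g * (K g : G) * (c : G)⁻¹ *
          ⁅y, x⁆ ^ (J g * (i - I g))) = (K g : G) * (c : G)⁻¹ * ⁅y, x⁆ ^ (J g * (i - I g)) by group]
      exact mul_mem (mul_mem (K g).2 (inv_mem c.2)) (zpow_mem hzC _)
    obtain ⟨⟨a, ha⟩, b, hb⟩ := hdiv
    rw [show i = I g + p * a by omega, show j = J g + p * b by omega, hw'] 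
    have hK : K g = (⟨_, hxp⟩ : C) ^ a * (⟨_, hyp⟩ : C) ^ b * c := by
      refine Subtype.ext (mul_left_cancel (a := x ^ I g * y ^ J g) ?_)
      rw [Subgroup.coe_mul, Subgroup.coe_mul, Subgroup.coe_zpow, Subgroup.coe_zpow, ← mul_assoc,
        ← hw a b, ← e, hg, show I g + p * a = i by omega, show J g + p * b = j by omega]
    show x' ^ I g * y' ^ J g * (ψ (K g) : G') = _
    rw [hK, map_mul, map_mul, map_zpow, map_zpow, Subgroup.coe_mul, Subgroup.coe_mul,
      Subgroup.coe_zpow, Subgroup.coe_zpow, h2, h3]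
    simp only [mul_assoc]
  have hmul : ∀ g h, F (g * h) = F g * F h := by
    intro g h
    conv_lhs => rw [hIJK g, hIJK h, normal_mul x y hxC hyC hz]
    show F (x ^ (I g + I h) * y ^ (J g + J h) * (⁅y, x⁆ ^ (J g * I h) * ((K g : G) * K h))) = _
    rw [show ⁅y, x⁆ ^ (J g * I h) * ((K g : G) * K h) =
      (((⟨_, hzC⟩ : C) ^ (J g * I h) * (K g * K h) : C) : G) by simp, hwd]
    show _ = x' ^ I g * y' ^ J g * (ψ (K g) : G') * (x' ^ I h * y' ^ J h * (ψ (K h) : G'))
    rw [normal_mul x' y' hxC' hyC' hz', map_mul, map_mul, map_zpow]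
    simp [h1]
  have hFs : Function.Surjective F := fun g => by
    obtain ⟨i, j, c, rfl⟩ := hsurj' g
    exact ⟨x ^ i * y ^ j * (ψ.symm c : G), by rw [hwd, MulEquiv.apply_symm_apply]⟩
  have hFi : Function.Injective (MonoidHom.mk' F hmul) := by
    rw [injective_iff_map_eq_one]
    intro g hg
    have hg' : x' ^ I g * y' ^ J g * (ψ (K g) : G') = 1 := hg
    obtain ⟨⟨a, ha⟩, b, hb⟩ := hindep' _ _ (by
      rw [eq_inv_of_mul_eq_one_left hg']; exact inv_mem (ψ (K g)).2)
    have hge : g = (((⟨_, hxp⟩ : C) ^ a * (⟨_, hyp⟩ : C) ^ b * K g : C) : G) := by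
      conv_lhs => rw [hIJK g, ha, hb, zpow_mul, zpow_mul, zpow_natCast, zpow_natCast]
      simp
    set c := (⟨_, hxp⟩ : C) ^ a * (⟨_, hyp⟩ : C) ^ b * K g
    have h4 := hwd 0 0 c
    rw [zpow_zero, zpow_zero, one_mul, one_mul, zpow_zero, zpow_zero, one_mul, one_mul, ← hge] at h4
    have h5 : ψ c = 1 := Subtype.ext (h4.symm.trans hg)
    rw [hge, ψ.map_eq_one_iff.mp h5, Subgroup.coe_one]
  refine ⟨MulEquiv.ofBijective (MonoidHom.mk' F hmul) ⟨hFi, hFs⟩, fun c => ?_⟩
  have := hwd 0 0 c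
  simp only [zpow_zero, one_mul] at this
  exact this

end Glue

section Pair

variable {E : Type u} [Group E] [Finite E] {p : ℕ} [hp : Fact p.Prime]

theorem comm_mem (h : IsExtraspecial p E) (a b : E) : ⁅a, b⁆ ∈ Subgroup.center E := by
  rw [← h.1.2.2, commutator_def]
  exact Subgroup.commutator_mem_commutator (Subgroup.mem_top a) (Subgroup.mem_top b)

theorem comm_central (h : IsExtraspecial p E) (a b g : E) : Commute ⁅a, b⁆ g :=
  (Subgroup.mem_center_iff.mp (comm_mem h a b) g).symm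

theorem comm_mul_left (h : IsExtraspecial p E) (a b y : E) : ⁅a * b, y⁆ = ⁅a, y⁆ * ⁅b, y⁆ := by
  have := (comm_central h b y a).eq
  calc ⁅a * b, y⁆ = a * ⁅b, y⁆ * a⁻¹ * ⁅a, y⁆ := by simp only [commutatorElement_def]; group
    _ = ⁅b, y⁆ * ⁅a, y⁆ := by rw [← this]; group
    _ = _ := (comm_central h b y _).eq

/-- `g ↦ ⁅g, y⁆` as a homomorphism. -/
def leftComm (h : IsExtraspecial p E) (y : E) : E →* E :=
  MonoidHom.mk' (fun g => ⁅g, y⁆) fun a b => comm_mul_left h a b y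

theorem zpow_comm (h : IsExtraspecial p E) (a y : E) (i : ℤ) : ⁅a ^ i, y⁆ = ⁅a, y⁆ ^ i :=
  map_zpow (leftComm h y) a i

theorem pow_mem_center (h : IsExtraspecial p E) (g : E) : g ^ p ∈ Subgroup.center E := by
  rw [← h.1.2.1]
  have h1 : g ^ p ∈ frattini E := by
    refine (PSolvable.commutator_le_frattini h.1.1).2 g
  exact h1

theorem center_eq (h : IsExtraspecial p E) {z : E} (hz : z ∈ Subgroup.center E) (hz1 : z ≠ 1) :
    Subgroup.zpowers z = Subgroup.center E ∧ orderOf z = p := by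
  have hd : orderOf z ∣ p := by
    rw [← h.2]
    exact Subgroup.orderOf_dvd_natCard (Subgroup.center E) hz
  have ho : orderOf z = p := ((Nat.dvd_prime hp.out).mp hd).resolve_left
    (fun e => hz1 (orderOf_eq_one_iff.mp e))
  refine ⟨Subgroup.eq_of_le_of_card_ge (Subgroup.zpowers_le.mpr hz) ?_, ho⟩
  rw [h.2, Nat.card_zpowers, ho]

theorem dvd_of_zpow (h : IsExtraspecial p E) {z : E} (hz : z ∈ Subgroup.center E) (hz1 : z ≠ 1)
    {i : ℤ} (hi : z ^ i = 1) : (p : ℤ) ∣ i := by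
  rw [← (center_eq h hz hz1).2]
  exact orderOf_dvd_iff_zpow_eq_one.mpr hi

/-- The common centralizer of a pair. -/
def pairC (x y : E) : Subgroup E :=
  Subgroup.centralizer ({x} : Set E) ⊓ Subgroup.centralizer ({y} : Set E)

variable {x y : E}

theorem mem_pairC {c : E} : c ∈ pairC x y ↔ ⁅c, x⁆ = 1 ∧ ⁅c, y⁆ = 1 := by
  simp only [pairC, Subgroup.mem_inf, Subgroup.mem_centralizer_singleton_iff,
    commutatorElement_eq_one_iff_mul_comm]

theorem commute_pairC : (∀ c ∈ pairC x y, Commute x c) ∧ (∀ c ∈ pairC x y, Commute y c) :=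
  ⟨fun _ hc => (Subgroup.mem_centralizer_singleton_iff.mp hc.1).symm,
    fun _ hc => (Subgroup.mem_centralizer_singleton_iff.mp hc.2).symm⟩

theorem center_le_pairC : Subgroup.center E ≤ pairC x y :=
  le_inf (Subgroup.center_le_centralizer _) (Subgroup.center_le_centralizer _)

theorem surj (h : IsExtraspecial p E) (hne : ⁅x, y⁆ ≠ 1) :
    ∀ g, ∃ (i j : ℤ) (c : pairC x y), g = x ^ i * y ^ j * c := by
  intro g
  have hz := comm_mem h x y
  obtain ⟨i, hi⟩ := Subgroup.mem_zpowers_iff.mp ((center_eq h hz hne).1.ge (comm_mem h g y))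
  have hne' : ⁅y, x⁆ ≠ 1 := fun e => hne (by rw [← commutatorElement_inv, e, inv_one])
  obtain ⟨j, hj⟩ := Subgroup.mem_zpowers_iff.mp
    ((center_eq h (comm_mem h y x) hne').1.ge (comm_mem h g x))
  refine ⟨i, j, ⟨(x ^ i * y ^ j)⁻¹ * g, mem_pairC.mpr ⟨?_, ?_⟩⟩, by group⟩
  · show leftComm h x ((x ^ i * y ^ j)⁻¹ * g) = 1
    rw [map_mul, map_inv, map_mul, map_zpow, map_zpow]
    show (⁅x, x⁆ ^ i * ⁅y, x⁆ ^ j)⁻¹ * ⁅g, x⁆ = 1
    rw [← hj, commutatorElement_self, one_zpow, one_mul, inv_mul_cancel]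
  · show leftComm h y ((x ^ i * y ^ j)⁻¹ * g) = 1
    rw [map_mul, map_inv, map_mul, map_zpow, map_zpow]
    show (⁅x, y⁆ ^ i * ⁅y, y⁆ ^ j)⁻¹ * ⁅g, y⁆ = 1
    rw [← hi, commutatorElement_self, one_zpow, mul_one, inv_mul_cancel]

theorem indep (h : IsExtraspecial p E) (hne : ⁅x, y⁆ ≠ 1) :
    ∀ i j : ℤ, x ^ i * y ^ j ∈ pairC x y → (p : ℤ) ∣ i ∧ (p : ℤ) ∣ j := by
  intro i j hij
  obtain ⟨h1, h2⟩ := mem_pairC.mp hij
  have hne' : ⁅y, x⁆ ≠ 1 := fun e => hne (by rw [← commutatorElement_inv, e, inv_one])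
  rw [comm_mul_left h, zpow_comm h, zpow_comm h, commutatorElement_self, one_zpow] at h1 h2
  rw [one_mul] at h1
  rw [mul_one] at h2
  exact ⟨dvd_of_zpow h (comm_mem h x y) hne h2, dvd_of_zpow h (comm_mem h y x) hne' h1⟩

theorem center_pairC (h : IsExtraspecial p E) (hne : ⁅x, y⁆ ≠ 1) :
    Subgroup.center ↥(pairC x y) = (Subgroup.center E).subgroupOf (pairC x y) := by
  ext c
  rw [Subgroup.mem_subgroupOf, Subgroup.mem_center_iff, Subgroup.mem_center_iff]
  refine ⟨fun hc g => ?_, fun hc d => Subtype.ext (hc d)⟩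
  obtain ⟨i, j, d, rfl⟩ := surj h hne g
  have e1 : Commute x (c : E) := (commute_pairC (x := x) (y := y)).1 c c.2
  have e2 : Commute y (c : E) := (commute_pairC (x := x) (y := y)).2 c c.2
  have e3 : Commute (d : E) (c : E) := congrArg Subtype.val (hc d)
  exact (((e1.zpow_left i).mul_left (e2.zpow_left j)).mul_left e3).eq

theorem card_pairC (h : IsExtraspecial p E) (hne : ⁅x, y⁆ ≠ 1) :
    Nat.card E = p ^ 2 * Nat.card (pairC x y) := by
  have hxp : x ^ p ∈ pairC x y := center_le_pairC (pow_mem_center h x)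
  have hyp : y ^ p ∈ pairC x y := center_le_pairC (pow_mem_center h y)
  let F : (Fin p × Fin p) × pairC x y → E := fun t => x ^ (t.1.1 : ℤ) * y ^ (t.1.2 : ℤ) * t.2
  have hpp : 0 < p := hp.out.pos
  have hbij : Function.Bijective F := by
    constructor
    · rintro ⟨⟨i, j⟩, c⟩ ⟨⟨k, l⟩, d⟩ he
      have hd : (p : ℤ) ∣ (k : ℤ) - i ∧ (p : ℤ) ∣ (l : ℤ) - j := by
        refine indep h hne _ _ ?_
        have he' : x ^ (i : ℤ) * y ^ (j : ℤ) * (c : E) = x ^ (k : ℤ) * y ^ (l : ℤ) * d := he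
        have h4 := normal_mul x y (commute_pairC (x := x) (y := y)).1 (commute_pairC (x := x) (y := y)).2 (comm_central h y x)
          (i : ℤ) (j : ℤ) ((k : ℤ) - i) ((l : ℤ) - j) (1 : pairC x y) 1
        simp only [Subgroup.coe_one, mul_one, add_sub_cancel] at h4
        rw [show x ^ ((k : ℤ) - i) * y ^ ((l : ℤ) - j) =
            (x ^ (i : ℤ) * y ^ (j : ℤ))⁻¹ * (x ^ (k : ℤ) * y ^ (l : ℤ) *
              ⁅y, x⁆ ^ ((j : ℤ) * ((k : ℤ) - i))) by rw [← h4]; group,
          show x ^ (k : ℤ) * y ^ (l : ℤ) = x ^ (i : ℤ) * y ^ (j : ℤ) * c * (d : E)⁻¹ by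
            rw [he']; group]
        rw [show (x ^ (i : ℤ) * y ^ (j : ℤ))⁻¹ * (x ^ (i : ℤ) * y ^ (j : ℤ) * c * (d : E)⁻¹ *
            ⁅y, x⁆ ^ ((j : ℤ) * ((k : ℤ) - i))) =
            (c : E) * (d : E)⁻¹ * ⁅y, x⁆ ^ ((j : ℤ) * ((k : ℤ) - i)) by group]
        exact mul_mem (mul_mem c.2 (inv_mem d.2)) (zpow_mem (center_le_pairC (comm_mem h y x)) _)
      have hik : i = k := by
        refine Fin.ext ?_
        have := i.2
        have := k.2
        obtain ⟨q, hq⟩ := hd.1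
        rcases lt_trichotomy q 0 with hq0 | hq0 | hq0
        · have : (p : ℤ) * q ≤ -p := by nlinarith
          omega
        · subst hq0; omega
        · have : (p : ℤ) ≤ p * q := by nlinarith
          omega
      have hjl : j = l := by
        refine Fin.ext ?_
        have := j.2
        have := l.2
        obtain ⟨q, hq⟩ := hd.2
        rcases lt_trichotomy q 0 with hq0 | hq0 | hq0
        · have : (p : ℤ) * q ≤ -p := by nlinarith
          omega
        · subst hq0; omega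
        · have : (p : ℤ) ≤ p * q := by nlinarith
          omega
      subst hik hjl
      exact Prod.ext rfl (Subtype.ext (mul_left_cancel he))
    · intro g
      obtain ⟨i, j, c, rfl⟩ := surj h hne g
      have hi0 := Int.emod_nonneg i (by omega : (p : ℤ) ≠ 0)
      have hi1 := Int.emod_lt_of_pos i (by omega : (0 : ℤ) < p)
      have hj0 := Int.emod_nonneg j (by omega : (p : ℤ) ≠ 0)
      have hj1 := Int.emod_lt_of_pos j (by omega : (0 : ℤ) < p)
      refine ⟨((⟨(i % p).toNat, by omega⟩, ⟨(j % p).toNat, by omega⟩),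
        (⟨_, hxp⟩ : pairC x y) ^ (i / p) * (⟨_, hyp⟩ : pairC x y) ^ (j / p) * c), ?_⟩
      show x ^ ((i % p).toNat : ℤ) * y ^ ((j % p).toNat : ℤ) * _ = _
      rw [Int.toNat_of_nonneg hi0, Int.toNat_of_nonneg hj0]
      conv_rhs => rw [← Int.emod_add_mul_ediv i p, ← Int.emod_add_mul_ediv j p, zpow_add, zpow_add,
        zpow_mul, zpow_mul, zpow_natCast, zpow_natCast]
      have hc1 : Commute (y ^ (j % p)) ((x ^ p) ^ (i / p)) :=
        (commute_pairC.2 _ hxp).zpow_zpow _ _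
      simp only [Subgroup.coe_mul, Subgroup.coe_zpow]
      calc x ^ (i % p) * y ^ (j % p) * ((x ^ p) ^ (i / p) * (y ^ p) ^ (j / p) * c)
          = x ^ (i % p) * (y ^ (j % p) * (x ^ p) ^ (i / p)) * (y ^ p) ^ (j / p) * c := by group
        _ = _ := by rw [hc1.eq]; group
  rw [← Nat.card_congr (Equiv.ofBijective F hbij), Nat.card_prod, Nat.card_prod, Nat.card_fin, sq]

theorem pairC_trichotomy (h : IsExtraspecial p E) (hne : ⁅x, y⁆ ≠ 1) :
    pairC x y = Subgroup.center E ∨ IsExtraspecial p ↥(pairC x y) := by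
  by_cases hle : pairC x y ≤ Subgroup.center E
  · exact Or.inl (le_antisymm hle center_le_pairC)
  refine Or.inr ?_
  set C := pairC x y with hC
  have hZ := center_pairC h hne
  have hcard : Nat.card (Subgroup.center C) = p := by
    rw [hZ, Nat.card_congr (Subgroup.subgroupOfEquivOfLe center_le_pairC).toEquiv, h.2]
  have hp' : IsPGroup p C := h.1.1.to_subgroup C
  have hle' : commutator C ≤ Subgroup.center C := by
    rw [commutator_def, Subgroup.commutator_le, hZ]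
    intro a _ b _
    rw [Subgroup.mem_subgroupOf]
    exact comm_mem h (a : E) b
  have heq : commutator C = Subgroup.center C := by
    refine Subgroup.eq_of_le_of_card_ge hle' ?_
    rw [hcard]
    obtain ⟨k, hk⟩ := IsPGroup.iff_card.mp (hp'.to_subgroup (commutator C))
    rcases Nat.eq_zero_or_pos k with rfl | hk0
    · exfalso
      refine hle fun c hc => ?_
      have hb := Subgroup.eq_bot_of_card_eq _ (hk.trans (pow_zero p))
      have hcc : (⟨c, hc⟩ : C) ∈ Subgroup.center C := by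
        rw [Subgroup.mem_center_iff]
        intro g
        rw [← commutatorElement_eq_one_iff_mul_comm, ← Subgroup.mem_bot, ← hb, commutator_def]
        exact Subgroup.commutator_mem_commutator (Subgroup.mem_top _) (Subgroup.mem_top _)
      rw [hZ, Subgroup.mem_subgroupOf] at hcc
      exact hcc
    · rw [hk]; exact Nat.le_self_pow hk0.ne' p
  refine ⟨⟨hp', le_antisymm ?_ ?_, heq⟩, hcard⟩
  · refine Critical.frattini_le_of_elementary (p := p) _ hle' fun c => ?_
    rw [hZ, Subgroup.mem_subgroupOf, Subgroup.coe_pow]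
    exact pow_mem_center h _
  · exact heq ▸ (PSolvable.commutator_le_frattini hp').1

theorem exists_comm_eq (h : IsExtraspecial p E) {z : E} (hz : z ∈ Subgroup.center E) (hz1 : z ≠ 1)
    {x : E} (hx : x ∉ Subgroup.center E) : ∃ y : E, ⁅y, x⁆ = z := by
  obtain ⟨y0, hy0⟩ : ∃ y0 : E, ⁅y0, x⁆ ≠ 1 := by
    by_contra hall
    push Not at hall
    exact hx (Subgroup.mem_center_iff.mpr fun g =>
      commutatorElement_eq_one_iff_mul_comm.mp (hall g))
  obtain ⟨m, hm⟩ := Subgroup.mem_zpowers_iff.mp ((center_eq h (comm_mem h y0 x) hy0).1.ge hz)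
  exact ⟨y0 ^ m, by rw [zpow_comm h, hm]⟩

theorem exists_not_central (h : IsExtraspecial p E) : ∃ x : E, x ∉ Subgroup.center E := by
  by_contra hall
  push Not at hall
  have hbot : commutator E = ⊥ := by
    rw [commutator_def, Subgroup.commutator_eq_bot_iff_le_centralizer]
    exact fun a _ b _ => Subgroup.mem_center_iff.mp (hall a) b
  have h2 := h.2
  rw [← h.1.2.2, hbot, Subgroup.card_bot] at h2
  exact hp.out.one_lt.ne h2

theorem exists_center_ne (h : IsExtraspecial p E) : ∃ z ∈ Subgroup.center E, z ≠ 1 := by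
  refine (Subgroup.center E).bot_or_exists_ne_one.resolve_left fun hb => ?_
  have h2 := h.2
  rw [hb, Subgroup.card_bot] at h2
  exact hp.out.one_lt.ne h2

/-- Glue two pairs along an isomorphism of their centralizers. -/
theorem glue {E' : Type v} [Group E'] [Finite E'] (h : IsExtraspecial p E) (h' : IsExtraspecial p E')
    {x y : E} {x' y' : E'} (hne : ⁅x, y⁆ ≠ 1) (hne' : ⁅x', y'⁆ ≠ 1)
    (ψ : pairC x y ≃* pairC x' y')
    (h1 : (ψ ⟨_, center_le_pairC (comm_mem h y x)⟩ : E') = ⁅y', x'⁆)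
    (h2 : (ψ ⟨_, center_le_pairC (pow_mem_center h x)⟩ : E') = x' ^ p)
    (h3 : (ψ ⟨_, center_le_pairC (pow_mem_center h y)⟩ : E') = y' ^ p) :
    ∃ f : E ≃* E', ∀ c : pairC x y, f c = ψ c :=
  exists_equiv _ _ x y x' y' commute_pairC.1 commute_pairC.2 commute_pairC.1 commute_pairC.2
    (comm_central h y x) (comm_central h' y' x') _ _ _ ψ h1 h2 h3 (surj h hne) (surj h' hne')
    (indep h hne) (indep h' hne')

/-- An isomorphism between two cyclic groups with prescribed generators. -/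
theorem exists_cyclic_equiv {A : Type u} {B : Type v} [Group A] [Group B] {a : A} {b : B}
    (ha : ∀ x, x ∈ Subgroup.zpowers a) (hb : ∀ x, x ∈ Subgroup.zpowers b)
    (h : orderOf a = orderOf b) : ∃ f : A ≃* B, f a = b :=
  ⟨mulEquivOfOrderOfEq ha hb h, mulEquivOfOrderOfEq_apply_gen ha hb h⟩

end Pair

theorem unique_odd_aux {p : ℕ} [hp : Fact p.Prime] :
    ∀ (n : ℕ) (E : Type u) (E' : Type v) [Group E] [Group E'] [Finite E] [Finite E'],
      IsExtraspecial p E → IsExtraspecial p E' → (∀ g : E, g ^ p = 1) → (∀ g : E', g ^ p = 1) →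
      Nat.card E = n → Nat.card E' = n → ∀ z ∈ Subgroup.center E, ∀ z' ∈ Subgroup.center E',
      z ≠ 1 → z' ≠ 1 → ∃ f : E ≃* E', f z = z' := by
  intro n
  induction n using Nat.strong_induction_on with
  | _ n ih =>
  intro E E' _ _ _ _ h h' he he' hn hn' z hz z' hz' hz1 hz1'
  obtain ⟨x, hx⟩ := exists_not_central h
  obtain ⟨x', hx'⟩ := exists_not_central h'
  obtain ⟨y, hy⟩ := exists_comm_eq h hz hz1 hx
  obtain ⟨y', hy'⟩ := exists_comm_eq h' hz' hz1' hx'
  have hne : ⁅x, y⁆ ≠ 1 := fun e => hz1 (by rw [← hy, ← commutatorElement_inv, e, inv_one])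
  have hne' : ⁅x', y'⁆ ≠ 1 := fun e => hz1' (by rw [← hy', ← commutatorElement_inv, e, inv_one])
  have hc := card_pairC h hne
  have hc' := card_pairC h' hne'
  rw [hn] at hc
  rw [hn'] at hc'
  have hcard : Nat.card (pairC x y) = Nat.card (pairC x' y') :=
    Nat.eq_of_mul_eq_mul_left (pow_pos hp.out.pos 2) (hc.symm.trans hc')
  obtain ⟨ψ, hψ⟩ : ∃ ψ : pairC x y ≃* pairC x' y',
      (ψ ⟨z, center_le_pairC hz⟩ : E') = z' := by
    rcases pairC_trichotomy h hne with hC | hC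
    · rcases pairC_trichotomy h' hne' with hC' | hC'
      · obtain ⟨f, hf⟩ := exists_cyclic_equiv (A := pairC x y) (B := pairC x' y')
          (a := ⟨z, center_le_pairC hz⟩) (b := ⟨z', center_le_pairC hz'⟩)
          (fun c => Subgroup.mem_zpowers_iff.mpr (by
            obtain ⟨k, hk⟩ := Subgroup.mem_zpowers_iff.mp ((center_eq h hz hz1).1.ge (hC.le c.2))
            exact ⟨k, Subtype.ext (by rw [Subgroup.coe_zpow]; exact hk)⟩))
          (fun c => Subgroup.mem_zpowers_iff.mpr (by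
            obtain ⟨k, hk⟩ := Subgroup.mem_zpowers_iff.mp ((center_eq h' hz' hz1').1.ge (hC'.le c.2))
            exact ⟨k, Subtype.ext (by rw [Subgroup.coe_zpow]; exact hk)⟩))
          (by rw [Subgroup.orderOf_mk, Subgroup.orderOf_mk, (center_eq h hz hz1).2,
            (center_eq h' hz' hz1').2])
        exact ⟨f, congrArg Subtype.val hf⟩
      · exfalso
        obtain ⟨u, hu⟩ := exists_not_central hC'
        have hlt : p < Nat.card (pairC x' y') := by
          rw [← hC'.2]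
          refine lt_of_le_of_ne (Subgroup.card_le_card_group _) fun e => hu ?_
          rw [(Subgroup.center _).eq_top_of_card_eq e]
          exact Subgroup.mem_top u
        rw [← hcard, hC, h.2] at hlt
        omega
    · have hC' : IsExtraspecial p ↥(pairC x' y') := by
        refine (pairC_trichotomy h' hne').resolve_left fun e => ?_
        obtain ⟨u, hu⟩ := exists_not_central hC
        have hlt : p < Nat.card (pairC x y) := by
          rw [← hC.2]
          refine lt_of_le_of_ne (Subgroup.card_le_card_group _) fun e => hu ?_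
          rw [(Subgroup.center _).eq_top_of_card_eq e]
          exact Subgroup.mem_top u
        rw [hcard, e, h'.2] at hlt
        omega
      have hlt : Nat.card (pairC x y) < n := by
        rw [hc]
        exact lt_mul_of_one_lt_left Nat.card_pos (Nat.one_lt_pow two_ne_zero hp.out.one_lt)
      obtain ⟨f, hf⟩ := ih _ hlt (pairC x y) (pairC x' y') hC hC' (fun g => Subtype.ext (he g))
        (fun g => Subtype.ext (he' g)) rfl hcard.symm ⟨z, center_le_pairC hz⟩
        (by rw [center_pairC h hne, Subgroup.mem_subgroupOf]; exact hz) ⟨z', center_le_pairC hz'⟩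
        (by rw [center_pairC h' hne', Subgroup.mem_subgroupOf]; exact hz')
        (fun e => hz1 (congrArg Subtype.val e)) (fun e => hz1' (congrArg Subtype.val e))
      exact ⟨f, congrArg Subtype.val hf⟩
  have hone : ∀ (w : E) (hw : w ∈ pairC x y), w = 1 → (ψ ⟨w, hw⟩ : E') = 1 := by
    rintro w hw rfl
    rw [show (⟨1, hw⟩ : pairC x y) = 1 from rfl, map_one, Subgroup.coe_one]
  obtain ⟨f, hf⟩ := glue h h' hne hne' ψ
    (by rw [show (⟨_, center_le_pairC (comm_mem h y x)⟩ : pairC x y) = ⟨z, center_le_pairC hz⟩ from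
      Subtype.ext hy, hψ, hy'])
    (by rw [hone _ _ (he x), he' x']) (by rw [hone _ _ (he y), he' y'])
  exact ⟨f, (hf ⟨z, center_le_pairC hz⟩).trans hψ⟩

theorem unique_odd {p : ℕ} [hp : Fact p.Prime] {E : Type u} {E' : Type v} [Group E] [Group E']
    [Finite E] [Finite E'] (h : IsExtraspecial p E) (h' : IsExtraspecial p E')
    (he : ∀ g : E, g ^ p = 1) (he' : ∀ g : E', g ^ p = 1) (hc : Nat.card E = Nat.card E') :
    Nonempty (E ≃* E') := by
  obtain ⟨z, hz, hz1⟩ := exists_center_ne h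
  obtain ⟨z', hz', hz1'⟩ := exists_center_ne h'
  obtain ⟨f, -⟩ := unique_odd_aux _ E E' h h' he he' hc rfl z hz z' hz' hz1 hz1'
  exact ⟨f⟩

section Two

theorem two_eq {E : Type u} [Group E] [Finite E] (h : IsExtraspecial 2 E) {a b : E}
    (ha : a ∈ Subgroup.center E) (hb : b ∈ Subgroup.center E) (ha1 : a ≠ 1) (hb1 : b ≠ 1) :
    a = b := by
  haveI : Fact (Nat.Prime 2) := ⟨Nat.prime_two⟩
  obtain ⟨k, hk⟩ := Subgroup.mem_zpowers_iff.mp ((center_eq h ha ha1).1.ge hb)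
  have ha2 : a ^ 2 = 1 := (center_eq h ha ha1).2 ▸ pow_orderOf_eq_one a
  rcases Int.even_or_odd k with ⟨m, rfl⟩ | ⟨m, rfl⟩
  · refine absurd ?_ hb1
    rw [← hk, ← two_mul, zpow_mul, zpow_two, ← pow_two, ha2, one_zpow]
  · rw [← hk, zpow_add, zpow_one, zpow_mul, zpow_two, ← pow_two, ha2, one_zpow, one_mul]

/-- A pair generating a dihedral group of order eight. -/
def IsDPair {E : Type u} [Group E] (x y : E) : Prop := ⁅x, y⁆ ≠ 1 ∧ x ^ 2 = 1 ∧ y ^ 2 = 1

theorem dichotomy {E : Type u} [Group E] [Finite E] (h : IsExtraspecial 2 E) :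
    (∃ x y : E, IsDPair x y) ∨
      ((∀ g : E, g ∉ Subgroup.center E → g ^ 2 ≠ 1) ∧
        ∀ x y : E, ⁅x, y⁆ ≠ 1 → pairC x y = Subgroup.center E) := by
  haveI : Fact (Nat.Prime 2) := ⟨Nat.prime_two⟩
  by_cases hinv : ∃ x : E, x ∉ Subgroup.center E ∧ x ^ 2 = 1
  · obtain ⟨x, hx, hx2⟩ := hinv
    obtain ⟨z, hz, hz1⟩ := exists_center_ne h
    obtain ⟨y, hy⟩ := exists_comm_eq h hz hz1 hx
    have hne : ⁅x, y⁆ ≠ 1 := fun e => hz1 (by rw [← hy, ← commutatorElement_inv, e, inv_one])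
    by_cases hy2 : y ^ 2 = 1
    · exact Or.inl ⟨x, y, hne, hx2, hy2⟩
    refine Or.inl ⟨x, x * y, ?_, hx2, ?_⟩
    · rw [show ⁅x, x * y⁆ = x * ⁅x, y⁆ * x⁻¹ by simp only [commutatorElement_def]; group,
        ← (comm_central h x y x).eq, mul_inv_cancel_right]
      exact hne
    · have hyz : y ^ 2 = z := two_eq h (pow_mem_center h y) hz hy2 hz1
      have hzz : z * z = 1 := by
        rw [← pow_two, ← (center_eq h hz hz1).2]; exact pow_orderOf_eq_one z
      have hyx : y * x = z * (x * y) := by rw [← hy, commutatorElement_def]; group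
      calc (x * y) ^ 2 = x * (y * x) * y := by rw [pow_two]; group
        _ = x * z * x * y ^ 2 := by rw [hyx, pow_two]; group
        _ = z * x ^ 2 * z := by
          rw [hyz, Subgroup.mem_center_iff.mp hz x, pow_two]; group
        _ = 1 := by rw [hx2, mul_one, hzz]
  · push Not at hinv
    refine Or.inr ⟨hinv, fun x y hne => le_antisymm (fun u hu => ?_) center_le_pairC⟩
    by_contra hu'
    have hx : x ∉ Subgroup.center E := fun hx =>
      hne (commutatorElement_eq_one_iff_mul_comm.mpr (Subgroup.mem_center_iff.mp hx y).symm)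
    have hxu : x * u ∉ Subgroup.center E := fun hxu => by
      refine hne ?_
      have h1 : ⁅x * u, y⁆ = 1 :=
        commutatorElement_eq_one_iff_mul_comm.mpr (Subgroup.mem_center_iff.mp hxu y).symm
      rwa [comm_mul_left h, (mem_pairC.mp hu).2, mul_one] at h1
    refine hinv _ hxu ?_
    rw [(commute_pairC.1 u hu).mul_pow,
      two_eq h (pow_mem_center h x) (pow_mem_center h u) (hinv x hx) (hinv u hu'), ← pow_two]
    have ho := pow_orderOf_eq_one (u ^ 2)
    rwa [(center_eq h (pow_mem_center h u) (hinv u hu')).2] at ho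

theorem dpair_glue {E : Type u} {E' : Type v} [Group E] [Group E'] [Finite E] [Finite E']
    (h : IsExtraspecial 2 E) (h' : IsExtraspecial 2 E') {x y : E} {x' y' : E'} (hd : IsDPair x y)
    (hd' : IsDPair x' y') (ψ : pairC x y ≃* pairC x' y') : Nonempty (E ≃* E') := by
  haveI : Fact (Nat.Prime 2) := ⟨Nat.prime_two⟩
  obtain ⟨hne, hx2, hy2⟩ := hd
  obtain ⟨hne', hx2', hy2'⟩ := hd'
  have hone : ∀ (w : E) (hw : w ∈ pairC x y), w = 1 → (ψ ⟨w, hw⟩ : E') = 1 := by
    rintro w hw rfl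
    rw [show (⟨1, hw⟩ : pairC x y) = 1 from rfl, map_one, Subgroup.coe_one]
  have hyx : ⁅y, x⁆ ≠ 1 := fun e => hne (by rw [← commutatorElement_inv, e, inv_one])
  have hyx' : ⁅y', x'⁆ ≠ 1 := fun e => hne' (by rw [← commutatorElement_inv, e, inv_one])
  set cz : pairC x y := ⟨_, center_le_pairC (comm_mem h y x)⟩ with hcz
  have hczc : cz ∈ Subgroup.center (pairC x y) := by
    rw [center_pairC h hne, Subgroup.mem_subgroupOf]; exact comm_mem h y x
  have h1 : (ψ cz : E') = ⁅y', x'⁆ := by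
    refine two_eq h' ?_ (comm_mem h' y' x') ?_ hyx'
    · have : ψ cz ∈ Subgroup.center (pairC x' y') := by
        rw [Subgroup.mem_center_iff]
        intro g
        rw [← ψ.apply_symm_apply g, ← map_mul, ← map_mul, Subgroup.mem_center_iff.mp hczc]
      rw [center_pairC h' hne', Subgroup.mem_subgroupOf] at this
      exact this
    · intro e
      refine hyx ?_
      have e2 : cz = 1 := ψ.map_eq_one_iff.mp (Subtype.ext e)
      exact congrArg Subtype.val e2
  obtain ⟨f, -⟩ := glue h h' hne hne' ψ h1 (by rw [hone _ _ hx2, hx2']) (by rw [hone _ _ hy2, hy2'])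
  exact ⟨f⟩

theorem cyclic_center_equiv {E : Type u} {E' : Type v} [Group E] [Group E'] [Finite E] [Finite E']
    (h : IsExtraspecial 2 E) (h' : IsExtraspecial 2 E') {x y : E} {x' y' : E'}
    (hC : pairC x y = Subgroup.center E) (hC' : pairC x' y' = Subgroup.center E') :
    Nonempty (pairC x y ≃* pairC x' y') := by
  haveI : Fact (Nat.Prime 2) := ⟨Nat.prime_two⟩
  obtain ⟨z, hz, hz1⟩ := exists_center_ne h
  obtain ⟨z', hz', hz1'⟩ := exists_center_ne h'
  obtain ⟨f, -⟩ := exists_cyclic_equiv (A := pairC x y) (B := pairC x' y')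
    (a := ⟨z, center_le_pairC hz⟩) (b := ⟨z', center_le_pairC hz'⟩)
    (fun c => Subgroup.mem_zpowers_iff.mpr (by
      obtain ⟨k, hk⟩ := Subgroup.mem_zpowers_iff.mp ((center_eq h hz hz1).1.ge (hC.le c.2))
      exact ⟨k, Subtype.ext (by rw [Subgroup.coe_zpow]; exact hk)⟩))
    (fun c => Subgroup.mem_zpowers_iff.mpr (by
      obtain ⟨k, hk⟩ := Subgroup.mem_zpowers_iff.mp ((center_eq h' hz' hz1').1.ge (hC'.le c.2))
      exact ⟨k, Subtype.ext (by rw [Subgroup.coe_zpow]; exact hk)⟩))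
    (by rw [Subgroup.orderOf_mk, Subgroup.orderOf_mk, (center_eq h hz hz1).2,
      (center_eq h' hz' hz1').2])
  exact ⟨f⟩

theorem qtype_equiv {E : Type u} {E' : Type v} [Group E] [Group E'] [Finite E] [Finite E']
    (h : IsExtraspecial 2 E) (h' : IsExtraspecial 2 E')
    (hq : (∀ g : E, g ∉ Subgroup.center E → g ^ 2 ≠ 1) ∧
      ∀ x y : E, ⁅x, y⁆ ≠ 1 → pairC x y = Subgroup.center E)
    (hq' : (∀ g : E', g ∉ Subgroup.center E' → g ^ 2 ≠ 1) ∧
      ∀ x y : E', ⁅x, y⁆ ≠ 1 → pairC x y = Subgroup.center E') : Nonempty (E ≃* E') := by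
  haveI : Fact (Nat.Prime 2) := ⟨Nat.prime_two⟩
  obtain ⟨x, hx⟩ := exists_not_central h
  obtain ⟨x', hx'⟩ := exists_not_central h'
  obtain ⟨z, hz, hz1⟩ := exists_center_ne h
  obtain ⟨z', hz', hz1'⟩ := exists_center_ne h'
  obtain ⟨y, hy⟩ := exists_comm_eq h hz hz1 hx
  obtain ⟨y', hy'⟩ := exists_comm_eq h' hz' hz1' hx'
  have hne : ⁅x, y⁆ ≠ 1 := fun e => hz1 (by rw [← hy, ← commutatorElement_inv, e, inv_one])
  have hne' : ⁅x', y'⁆ ≠ 1 := fun e => hz1' (by rw [← hy', ← commutatorElement_inv, e, inv_one])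
  have hyc : y ∉ Subgroup.center E := fun hyc =>
    hne (commutatorElement_eq_one_iff_mul_comm.mpr (Subgroup.mem_center_iff.mp hyc x))
  have hyc' : y' ∉ Subgroup.center E' := fun hyc =>
    hne' (commutatorElement_eq_one_iff_mul_comm.mpr (Subgroup.mem_center_iff.mp hyc x'))
  obtain ⟨ψ⟩ := cyclic_center_equiv h h' (hq.2 x y hne) (hq'.2 x' y' hne')
  have key : ∀ (w : E) (hw : w ∈ Subgroup.center E) (w' : E'), w ≠ 1 → w' ∈ Subgroup.center E' →
      w' ≠ 1 → (ψ ⟨w, center_le_pairC hw⟩ : E') = w' := by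
    intro w hw w' hw1 hw' hw1'
    refine two_eq h' ((hq'.2 x' y' hne').le (ψ _).2) hw' (fun e => hw1 ?_) hw1'
    exact congrArg Subtype.val (ψ.map_eq_one_iff.mp (Subtype.ext e))
  have hyx : ⁅y, x⁆ ≠ 1 := hy ▸ hz1
  have hyx' : ⁅y', x'⁆ ≠ 1 := hy' ▸ hz1'
  obtain ⟨f, -⟩ := glue h h' hne hne' ψ (key _ (comm_mem h y x) _ hyx (comm_mem h' y' x') hyx')
    (key _ (pow_mem_center h x) _ (hq.1 x hx) (pow_mem_center h' x') (hq'.1 x' hx'))
    (key _ (pow_mem_center h y) _ (hq.1 y hyc) (pow_mem_center h' y') (hq'.1 y' hyc'))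
  exact ⟨f⟩

theorem two_classes : ∀ (n : ℕ) (E₁ : Type u) (E₂ : Type v) (E₃ : Type w) [Group E₁] [Group E₂]
    [Group E₃] [Finite E₁] [Finite E₂] [Finite E₃], IsExtraspecial 2 E₁ → IsExtraspecial 2 E₂ →
    IsExtraspecial 2 E₃ → Nat.card E₁ = n → Nat.card E₂ = n → Nat.card E₃ = n →
    Nonempty (E₁ ≃* E₂) ∨ Nonempty (E₂ ≃* E₃) ∨ Nonempty (E₁ ≃* E₃) := by
  haveI : Fact (Nat.Prime 2) := ⟨Nat.prime_two⟩
  intro n
  induction n using Nat.strong_induction_on with
  | _ n ih =>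
  intro E₁ E₂ E₃ _ _ _ _ _ _ h₁ h₂ h₃ hn₁ hn₂ hn₃
  rcases dichotomy h₁ with ⟨x₁, y₁, d₁⟩ | q₁ <;> rcases dichotomy h₂ with ⟨x₂, y₂, d₂⟩ | q₂ <;>
    rcases dichotomy h₃ with ⟨x₃, y₃, d₃⟩ | q₃
  · have c₁ := card_pairC h₁ d₁.1
    have c₂ := card_pairC h₂ d₂.1
    have c₃ := card_pairC h₃ d₃.1
    rcases pairC_trichotomy h₁ d₁.1 with e₁ | e₁
    · have e₂ : pairC x₂ y₂ = Subgroup.center E₂ := by
        refine (Subgroup.eq_of_le_of_card_ge center_le_pairC ?_).symm
        rw [e₁, h₁.2, hn₁] at c₁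
        rw [hn₂] at c₂
        rw [h₂.2]; omega
      obtain ⟨ψ⟩ := cyclic_center_equiv h₁ h₂ e₁ e₂
      exact Or.inl (dpair_glue h₁ h₂ d₁ d₂ ψ)
    · rcases pairC_trichotomy h₂ d₂.1 with e₂ | e₂
      · rcases pairC_trichotomy h₃ d₃.1 with e₃ | e₃
        · obtain ⟨ψ⟩ := cyclic_center_equiv h₂ h₃ e₂ e₃
          exact Or.inr (Or.inl (dpair_glue h₂ h₃ d₂ d₃ ψ))
        · exfalso
          obtain ⟨u, hu⟩ := exists_not_central e₁
          have hlt : 2 < Nat.card (pairC x₁ y₁) := by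
            rw [← e₁.2]
            refine lt_of_le_of_ne (Subgroup.card_le_card_group _) fun e => hu ?_
            rw [(Subgroup.center _).eq_top_of_card_eq e]
            exact Subgroup.mem_top u
          rw [e₂, h₂.2, hn₂] at c₂
          rw [hn₁] at c₁
          omega
      · rcases pairC_trichotomy h₃ d₃.1 with e₃ | e₃
        · exfalso
          obtain ⟨u, hu⟩ := exists_not_central e₁
          have hlt : 2 < Nat.card (pairC x₁ y₁) := by
            rw [← e₁.2]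
            refine lt_of_le_of_ne (Subgroup.card_le_card_group _) fun e => hu ?_
            rw [(Subgroup.center _).eq_top_of_card_eq e]
            exact Subgroup.mem_top u
          rw [e₃, h₃.2, hn₃] at c₃
          rw [hn₁] at c₁
          omega
        · rw [hn₁] at c₁
          rw [hn₂] at c₂
          rw [hn₃] at c₃
          have hpos : 0 < n := hn₁ ▸ Nat.card_pos
          rcases ih (Nat.card (pairC x₁ y₁)) (by omega) _ _ _ e₁ e₂ e₃ rfl (by omega) (by omega) with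
            hψ | hψ | hψ <;> obtain ⟨ψ⟩ := hψ
          · exact Or.inl (dpair_glue h₁ h₂ d₁ d₂ ψ)
          · exact Or.inr (Or.inl (dpair_glue h₂ h₃ d₂ d₃ ψ))
          · exact Or.inr (Or.inr (dpair_glue h₁ h₃ d₁ d₃ ψ))
  · -- `E₁`, `E₂` dihedral, `E₃` quaternion
    obtain ⟨x, hx⟩ := exists_not_central h₃
    obtain ⟨z, hz, hz1⟩ := exists_center_ne h₃
    obtain ⟨y, hy⟩ := exists_comm_eq h₃ hz hz1 hx
    have hne : ⁅x, y⁆ ≠ 1 := fun e => hz1 (by rw [← hy, ← commutatorElement_inv, e, inv_one])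
    have c₁ := card_pairC h₁ d₁.1
    have c₂ := card_pairC h₂ d₂.1
    have c₃ := card_pairC h₃ hne
    rw [q₃.2 x y hne, h₃.2, hn₃] at c₃
    rw [hn₁] at c₁
    rw [hn₂] at c₂
    have e₁ : pairC x₁ y₁ = Subgroup.center E₁ :=
      (Subgroup.eq_of_le_of_card_ge center_le_pairC (by rw [h₁.2]; omega)).symm
    have e₂ : pairC x₂ y₂ = Subgroup.center E₂ :=
      (Subgroup.eq_of_le_of_card_ge center_le_pairC (by rw [h₂.2]; omega)).symm
    obtain ⟨ψ⟩ := cyclic_center_equiv h₁ h₂ e₁ e₂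
    exact Or.inl (dpair_glue h₁ h₂ d₁ d₂ ψ)
  · -- `E₂` quaternion
    obtain ⟨x, hx⟩ := exists_not_central h₂
    obtain ⟨z, hz, hz1⟩ := exists_center_ne h₂
    obtain ⟨y, hy⟩ := exists_comm_eq h₂ hz hz1 hx
    have hne : ⁅x, y⁆ ≠ 1 := fun e => hz1 (by rw [← hy, ← commutatorElement_inv, e, inv_one])
    have c₁ := card_pairC h₁ d₁.1
    have c₃ := card_pairC h₃ d₃.1
    have c₂ := card_pairC h₂ hne
    rw [q₂.2 x y hne, h₂.2, hn₂] at c₂
    rw [hn₁] at c₁
    rw [hn₃] at c₃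
    have e₁ : pairC x₁ y₁ = Subgroup.center E₁ :=
      (Subgroup.eq_of_le_of_card_ge center_le_pairC (by rw [h₁.2]; omega)).symm
    have e₃ : pairC x₃ y₃ = Subgroup.center E₃ :=
      (Subgroup.eq_of_le_of_card_ge center_le_pairC (by rw [h₃.2]; omega)).symm
    obtain ⟨ψ⟩ := cyclic_center_equiv h₁ h₃ e₁ e₃
    exact Or.inr (Or.inr (dpair_glue h₁ h₃ d₁ d₃ ψ))
  · exact Or.inr (Or.inl (qtype_equiv h₂ h₃ q₂ q₃))
  · -- `E₁` quaternion
    obtain ⟨x, hx⟩ := exists_not_central h₁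
    obtain ⟨z, hz, hz1⟩ := exists_center_ne h₁
    obtain ⟨y, hy⟩ := exists_comm_eq h₁ hz hz1 hx
    have hne : ⁅x, y⁆ ≠ 1 := fun e => hz1 (by rw [← hy, ← commutatorElement_inv, e, inv_one])
    have c₂ := card_pairC h₂ d₂.1
    have c₃ := card_pairC h₃ d₃.1
    have c₁ := card_pairC h₁ hne
    rw [q₁.2 x y hne, h₁.2, hn₁] at c₁
    rw [hn₂] at c₂
    rw [hn₃] at c₃
    have e₂ : pairC x₂ y₂ = Subgroup.center E₂ :=
      (Subgroup.eq_of_le_of_card_ge center_le_pairC (by rw [h₂.2]; omega)).symm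
    have e₃ : pairC x₃ y₃ = Subgroup.center E₃ :=
      (Subgroup.eq_of_le_of_card_ge center_le_pairC (by rw [h₃.2]; omega)).symm
    obtain ⟨ψ⟩ := cyclic_center_equiv h₂ h₃ e₂ e₃
    exact Or.inr (Or.inl (dpair_glue h₂ h₃ d₂ d₃ ψ))
  · exact Or.inr (Or.inr (qtype_equiv h₁ h₃ q₁ q₃))
  · exact Or.inl (qtype_equiv h₁ h₂ q₁ q₂)
  · exact Or.inl (qtype_equiv h₁ h₂ q₁ q₂)

end Two

end CfsgLib.Extraspecial
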