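import Mathlib
import Cfsg.Agent.Lib.Extraspecial.Uniqueness

/-!
The two types of extraspecial `2`-groups: numbers of elements squaring to one, and ranks.
-/

set_option autoImplicit false
set_option linter.style.haveILetI false

open Cfsg
open scoped commutatorElement

namespace CfsgLib.Extraspecial

universe u v

/-- The elementary abelian subgroups have order at most `2 ^ r`, and one has order `2 ^ r`. -/
def TwoRankIs (G : Type*) [Group G] (r : ℕ) : Prop :=
  (∀ A : Subgroup G, IsElementaryAbelian 2 A → Nat.card A ≤ 2 ^ r) ∧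
    ∃ A : Subgroup G, IsElementaryAbelian 2 A ∧ Nat.card A = 2 ^ r

/-- The number of elements squaring to one. -/
noncomputable def sqOne (G : Type*) [Group G] : ℕ := Nat.card {g : G // g ^ 2 = 1}

theorem exists_adjoin {G : Type*} [Group G] [Finite G] {A : Subgroup G} (hA : IsElementaryAbelian 2 A)
    {u : G} (hu : u ^ 2 = 1) (hcom : ∀ a ∈ A, a * u = u * a) (huA : u ∉ A) :
    IsElementaryAbelian 2 (Subgroup.closure (insert u (A : Set G))) ∧
      2 * Nat.card A ≤ Nat.card ↥(Subgroup.closure (insert u (A : Set G))) := by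
  set E := Subgroup.closure (insert u (A : Set G)) with hE
  have hgen : ∀ a ∈ insert u (A : Set G), ∀ b ∈ insert u (A : Set G), a * b = b * a := by
    rintro a (rfl | ha) b (rfl | hb)
    · rfl
    · exact (hcom b hb).symm
    · exact hcom a ha
    · exact congrArg Subtype.val (hA.1.is_comm.comm ⟨a, ha⟩ ⟨b, hb⟩)
  have hEc : IsMulCommutative E := Subgroup.isMulCommutative_closure hgen
  have hEe : ∀ b ∈ E, b ^ 2 = 1 := by
    intro b hb
    induction hb using Subgroup.closure_induction with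
    | mem w hw => rcases hw with rfl | hw; exacts [hu, hA.2 w hw]
    | one => exact one_pow _
    | mul a b ha hb h1 h2 =>
      rw [Commute.mul_pow (show Commute a b from congrArg Subtype.val
        (hEc.is_comm.comm ⟨a, ha⟩ ⟨b, hb⟩)), h1, h2, one_mul]
    | inv w _ h1 => rw [inv_pow, h1, inv_one]
  refine ⟨⟨hEc, hEe⟩, ?_⟩
  have hAE : A ≤ E := fun a ha => Subgroup.subset_closure (Set.mem_insert_of_mem u ha)
  have huE : u ∈ E := Subgroup.subset_closure (Set.mem_insert u _)
  have h1 := Subgroup.relIndex_mul_relIndex ⊥ A E bot_le hAE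
  rw [Subgroup.relIndex_bot_left, Subgroup.relIndex_bot_left] at h1
  have h2 : A.relIndex E ≠ 1 := fun h => huA (Subgroup.relIndex_eq_one.mp h huE)
  have h3 : A.relIndex E ≠ 0 := fun h => by
    rw [h, mul_zero] at h1
    exact Nat.card_pos.ne' h1.symm
  have h4 : 0 < Nat.card A := Nat.card_pos
  rw [← h1]
  calc 2 * Nat.card A ≤ A.relIndex E * Nat.card A :=
        Nat.mul_le_mul_right _ (by omega)
    _ = _ := mul_comm _ _

theorem elementary_sq {G : Type*} [Group G] (h : ∀ g : G, g ^ 2 = 1) (A : Subgroup G) :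
    IsElementaryAbelian 2 A := by
  refine ⟨⟨⟨fun a b => ?_⟩⟩, fun a _ => h a⟩
  have hinv : ∀ w : G, w⁻¹ = w := fun w => inv_eq_of_mul_eq_one_right (by rw [← sq]; exact h w)
  refine Subtype.ext ?_
  show (a : G) * b = b * a
  rw [← hinv ((a : G) * b), mul_inv_rev, hinv, hinv]

section DPair

variable {E : Type u} [Group E] [Finite E]

/-- The normal form map of a dihedral pair. -/
def dForm (x y : E) (t : (Fin 2 × Fin 2) × pairC x y) : E := x ^ (t.1.1 : ℕ) * y ^ (t.1.2 : ℕ) * t.2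

theorem dForm_bijective (h : IsExtraspecial 2 E) {x y : E} (hd : IsDPair x y) :
    Function.Bijective (dForm x y) := by
  haveI : Fact (Nat.Prime 2) := ⟨Nat.prime_two⟩
  obtain ⟨hne, hx2, hy2⟩ := hd
  rw [Nat.bijective_iff_surjective_and_card]
  refine ⟨fun g => ?_, ?_⟩
  · obtain ⟨i, j, c, rfl⟩ := surj h hne g
    have key : ∀ (w : E) (k : ℤ), w ^ 2 = 1 → ∃ a : Fin 2, w ^ k = w ^ (a : ℕ) := by
      intro w k hw
      rcases Int.even_or_odd k with ⟨m, rfl⟩ | ⟨m, rfl⟩
      · exact ⟨0, by rw [← two_mul, zpow_mul, zpow_two, ← sq, hw, one_zpow]; simp⟩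
      · exact ⟨1, by rw [zpow_add, zpow_mul, zpow_two, ← sq, hw, one_zpow]; simp⟩
    obtain ⟨a, ha⟩ := key x i hx2
    obtain ⟨b, hb⟩ := key y j hy2
    exact ⟨((a, b), c), by rw [dForm, ha, hb]⟩
  · rw [Nat.card_prod, Nat.card_prod, Nat.card_fin, card_pairC h hne]
    ring

theorem sq_values (h : IsExtraspecial 2 E) {z : E} (hz : z ∈ Subgroup.center E) (hz1 : z ≠ 1)
    (g : E) : g ^ 2 = 1 ∨ g ^ 2 = z := by
  rcases eq_or_ne (g ^ 2) 1 with e | e
  · exact Or.inl e
  · haveI : Fact (Nat.Prime 2) := ⟨Nat.prime_two⟩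
    exact Or.inr (two_eq h (pow_mem_center h g) hz e hz1)

theorem sqOne_step (h : IsExtraspecial 2 E) {x y : E} (hd : IsDPair x y) :
    sqOne E = 2 * sqOne ↥(pairC x y) + Nat.card (pairC x y) := by
  haveI : Fact (Nat.Prime 2) := ⟨Nat.prime_two⟩
  have hbij := dForm_bijective h hd
  obtain ⟨hne, hx2, hy2⟩ := hd
  set z := ⁅x, y⁆ with hz
  have hzc : z ∈ Subgroup.center E := comm_mem h x y
  have hzz : z * z = 1 := by
    rw [← sq, ← (center_eq h hzc hne).2]; exact pow_orderOf_eq_one z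
  have hxy : (x * y) ^ 2 = z := by
    have hx' : x⁻¹ = x := inv_eq_of_mul_eq_one_right (by rw [← sq]; exact hx2)
    have hy' : y⁻¹ = y := inv_eq_of_mul_eq_one_right (by rw [← sq]; exact hy2)
    rw [hz, commutatorElement_def, hx', hy', sq]
    group
  have hsq : ∀ (a b : Fin 2) (c : pairC x y), (dForm x y ((a, b), c)) ^ 2 = 1 ↔
      if a = 1 ∧ b = 1 then (c : pairC x y) ^ 2 ≠ 1 else (c : pairC x y) ^ 2 = 1 := by
    intro a b c
    have hcx : Commute x (c : E) := (commute_pairC (x := x) (y := y)).1 c c.2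
    have hcy : Commute y (c : E) := (commute_pairC (x := x) (y := y)).2 c c.2
    have hcc : ∀ i j : ℕ, Commute (x ^ i * y ^ j) (c : E) := fun i j =>
      (hcx.pow_left i).mul_left (hcy.pow_left j)
    have e : (dForm x y ((a, b), c)) ^ 2 = (x ^ (a : ℕ) * y ^ (b : ℕ)) ^ 2 * (c : E) ^ 2 :=
      (hcc _ _).mul_pow 2
    have hc1 : (c : pairC x y) ^ 2 = 1 ↔ (c : E) ^ 2 = 1 := by
      rw [← Subgroup.coe_pow, OneMemClass.coe_eq_one]
    have hP : (x ^ (a : ℕ) * y ^ (b : ℕ)) ^ 2 = if a = 1 ∧ b = 1 then z else 1 := by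
      fin_cases a <;> fin_cases b <;> simp [hx2, hy2, hxy]
    rw [e, hP]
    by_cases hab : a = 1 ∧ b = 1
    · rw [if_pos hab, if_pos hab, ne_eq, hc1]
      rcases sq_values h hzc hne (c : E) with e' | e' <;> rw [e']
      · rw [mul_one]; exact ⟨fun hh => absurd hh hne, fun hh => absurd rfl hh⟩
      · exact ⟨fun _ => hne, fun _ => hzz⟩
    · rw [if_neg hab, if_neg hab, one_mul, hc1]
  classical
  haveI := Fintype.ofFinite ↥(pairC x y)
  have hpart : ∀ p : Fin 2 × Fin 2, Nat.card {c : pairC x y // (dForm x y (p, c)) ^ 2 = 1} =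
      if p.1 = 1 ∧ p.2 = 1 then Nat.card (pairC x y) - sqOne ↥(pairC x y) else sqOne ↥(pairC x y) := by
    rintro ⟨a, b⟩
    rw [Nat.card_congr (Equiv.subtypeEquivRight fun c => hsq a b c)]
    by_cases hab : a = 1 ∧ b = 1
    · simp only [hab, and_self, if_true, ne_eq]
      rw [sqOne, Nat.card_eq_fintype_card, Fintype.card_subtype_compl, Nat.card_eq_fintype_card,
        Nat.card_eq_fintype_card]
    · simp only [hab, if_false, sqOne]
  have hle : sqOne ↥(pairC x y) ≤ Nat.card (pairC x y) := Finite.card_subtype_le _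
  have etot : sqOne E = ∑ p : Fin 2 × Fin 2, Nat.card {c : pairC x y // (dForm x y (p, c)) ^ 2 = 1} := by
    rw [sqOne, ← Nat.card_sigma]
    refine Nat.card_congr ((Equiv.subtypeEquiv (Equiv.ofBijective _ hbij) fun t => Iff.rfl).symm.trans
      ?_)
    exact
      { toFun := fun t => ⟨t.1.1, t.1.2, t.2⟩
        invFun := fun s => ⟨(s.1, s.2.1), s.2.2⟩
        left_inv := fun t => rfl
        right_inv := fun s => rfl }
  rw [etot, Fintype.sum_prod_type, Fin.sum_univ_two, Fin.sum_univ_two, Fin.sum_univ_two, hpart, hpart,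
    hpart, hpart]
  dsimp only
  rw [if_neg (by decide), if_neg (by decide), if_neg (by decide), if_pos (by decide)]
  omega

theorem rank_step (h : IsExtraspecial 2 E) {x y : E} (hd : IsDPair x y) {r : ℕ}
    (hr : TwoRankIs ↥(pairC x y) r) : TwoRankIs E (r + 1) := by
  haveI : Fact (Nat.Prime 2) := ⟨Nat.prime_two⟩
  obtain ⟨hne, hx2, hy2⟩ := hd
  set C := pairC x y with hC
  have hle : ∀ A : Subgroup E, A ≤ C → IsElementaryAbelian 2 A → Nat.card A ≤ 2 ^ r := by
    intro A hAC hA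
    rw [← Nat.card_congr (Subgroup.subgroupOfEquivOfLe hAC).toEquiv]
    refine hr.1 _ ⟨⟨⟨fun a b => Subtype.ext (Subtype.ext ?_)⟩⟩, fun a ha => Subtype.ext (hA.2 _ ha)⟩
    show ((a : C) : E) * ((b : C) : E) = ((b : C) : E) * ((a : C) : E)
    exact congrArg Subtype.val (hA.1.is_comm.comm ⟨_, a.2⟩ ⟨_, b.2⟩)
  refine ⟨fun A hA => ?_, ?_⟩
  · let Φ : A →* E × E := ((leftComm h x).comp A.subtype).prod ((leftComm h y).comp A.subtype)
    have hker : Φ.ker.map A.subtype = A ⊓ C := by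
      ext a
      constructor
      · rintro ⟨w, hw, rfl⟩
        have hw' : Φ w = 1 := hw
        exact ⟨w.2, mem_pairC.mpr ⟨congrArg Prod.fst hw', congrArg Prod.snd hw'⟩⟩
      · rintro ⟨haA, haC⟩
        exact ⟨⟨a, haA⟩, Prod.ext (mem_pairC.mp haC).1 (mem_pairC.mp haC).2, rfl⟩
    have hcard : Nat.card A = Nat.card ↥(A ⊓ C) * Nat.card Φ.range := by
      rw [← hker, Subgroup.card_map_of_injective A.subtype_injective, ← Subgroup.index_ker,
        Subgroup.card_mul_index]
    have hA0 : IsElementaryAbelian 2 (A ⊓ C) :=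
      ⟨⟨⟨fun a b => Subtype.ext (by
        show (a : E) * b = b * a
        exact congrArg Subtype.val (hA.1.is_comm.comm ⟨_, a.2.1⟩ ⟨_, b.2.1⟩))⟩⟩,
        fun a ha => hA.2 a ha.1⟩
    have hrange : Φ.range ≤ (Subgroup.center E).prod (Subgroup.center E) := by
      rintro _ ⟨w, rfl⟩
      exact ⟨comm_mem h (w : E) x, comm_mem h (w : E) y⟩
    have hZ4 : Nat.card ↥((Subgroup.center E).prod (Subgroup.center E)) = 4 := by
      rw [Nat.card_congr (Subgroup.prodEquiv _ _).toEquiv, Nat.card_prod, h.2]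
    by_cases hfull : Nat.card Φ.range ≤ 2
    · rw [hcard, pow_succ]
      exact Nat.mul_le_mul (hle _ inf_le_right hA0) hfull
    have hr4 : Φ.range = (Subgroup.center E).prod (Subgroup.center E) := by
      refine Subgroup.eq_of_le_of_card_ge hrange ?_
      have hd4 := Subgroup.card_dvd_of_le hrange
      rw [hZ4] at hd4
      rw [hZ4]
      have h4 := Nat.le_of_dvd (by norm_num) hd4
      interval_cases hn : Nat.card Φ.range <;> simp_all
    have hzc : ⁅y, x⁆ ∈ Subgroup.center E := comm_mem h y x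
    have hzc' : ⁅x, y⁆ ∈ Subgroup.center E := comm_mem h x y
    obtain ⟨a₁, ha₁⟩ : (⁅y, x⁆, (1 : E)) ∈ Φ.range := hr4 ▸ ⟨hzc, one_mem _⟩
    obtain ⟨a₂, ha₂⟩ : ((1 : E), ⁅x, y⁆) ∈ Φ.range := hr4 ▸ ⟨one_mem _, hzc'⟩
    have h11 : ⁅(a₁ : E), x⁆ = ⁅y, x⁆ := congrArg Prod.fst ha₁
    have h12 : ⁅(a₁ : E), y⁆ = 1 := congrArg Prod.snd ha₁
    have h21 : ⁅(a₂ : E), x⁆ = 1 := congrArg Prod.fst ha₂
    set c := (a₁ : E) * y with hc
    have hcC : c ∈ C := by
      refine mem_pairC.mpr ⟨?_, ?_⟩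
      · rw [hc, comm_mul_left h, h11, ← sq, ← (center_eq h hzc fun e => hne (by
          rw [← commutatorElement_inv, e, inv_one])).2]
        exact pow_orderOf_eq_one _
      · rw [hc, comm_mul_left h, h12, commutatorElement_self, one_mul]
    have hc2 : c ^ 2 = 1 := by
      have hcm : Commute (a₁ : E) y := commutatorElement_eq_one_iff_mul_comm.mp h12
      rw [hc, hcm.mul_pow, hA.2 _ a₁.2, hy2, one_mul]
    have hcA : c ∉ A ⊓ C := by
      intro hcA
      have h1 : c * (a₂ : E) = a₂ * c :=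
        congrArg Subtype.val (hA.1.is_comm.comm ⟨c, hcA.1⟩ a₂)
      have h2 : ⁅c, (a₂ : E)⁆ = 1 := commutatorElement_eq_one_iff_mul_comm.mpr h1
      have h3 : ⁅(a₁ : E), (a₂ : E)⁆ = 1 :=
        commutatorElement_eq_one_iff_mul_comm.mpr (congrArg Subtype.val (hA.1.is_comm.comm a₁ a₂))
      rw [hc, comm_mul_left h, h3, one_mul, ← commutatorElement_inv, inv_eq_one] at h2
      rw [congrArg Prod.snd ha₂ |> fun (e : ⁅(a₂ : E), y⁆ = ⁅x, y⁆) => e] at h2
      exact hne h2
    have hcom : ∀ a ∈ A ⊓ C, a * c = c * a := fun a ha => by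
      have e1 : Commute a (a₁ : E) := congrArg Subtype.val (hA.1.is_comm.comm ⟨a, ha.1⟩ a₁)
      have e2 : Commute a y := ((commute_pairC (x := x) (y := y)).2 a ha.2).symm
      exact (e1.mul_right e2).eq
    obtain ⟨hel, hbig⟩ := exists_adjoin hA0 hc2 hcom hcA
    have hsub : Subgroup.closure (insert c ((A ⊓ C : Subgroup E) : Set E)) ≤ C :=
      (Subgroup.closure_le _).mpr (Set.insert_subset hcC inf_le_right)
    have := hle _ hsub hel
    have h4 : Nat.card Φ.range = 4 := by
      rw [← hZ4]; exact Nat.card_congr (MulEquiv.subgroupCongr hr4).toEquiv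
    rw [hcard, h4, pow_succ]
    omega
  · obtain ⟨A, hA, hAc⟩ := hr.2
    have hA' : IsElementaryAbelian 2 (A.map C.subtype) :=
      ⟨(haveI := hA.1; Subgroup.map_isMulCommutative A _), by
        rintro _ ⟨w, hw, rfl⟩
        rw [← map_pow, hA.2 w hw, map_one]⟩
    have hcard : Nat.card ↥(A.map C.subtype) = 2 ^ r := by
      rw [← hAc, Nat.card_congr (A.equivMapOfInjective C.subtype C.subtype_injective).toEquiv]
    have hxC : x ∉ C := fun hxC => hne (mem_pairC.mp hxC).2
    obtain ⟨hel, hbig⟩ := exists_adjoin hA' hx2 (fun a ha => by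
      obtain ⟨w, -, rfl⟩ := ha
      exact ((commute_pairC (x := x) (y := y)).1 w w.2).symm.eq)
      (fun hx => hxC (Subgroup.map_subtype_le A hx))
    set B := Subgroup.closure (insert x ((A.map C.subtype : Subgroup E) : Set E))
    rw [hcard, mul_comm, ← pow_succ] at hbig
    obtain ⟨k, hk⟩ := IsPGroup.iff_card.mp (h.1.1.to_subgroup B)
    rw [hk] at hbig
    obtain ⟨D, hD⟩ := Sylow.exists_subgroup_card_pow_prime 2 (n := r + 1) (G := B)
      (by rw [hk]; exact pow_dvd_pow 2 ((Nat.pow_le_pow_iff_right (le_refl 2)).mp hbig))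
    refine ⟨D.map B.subtype, ⟨?_, ?_⟩, ?_⟩
    · haveI := hel.1
      exact ⟨⟨fun a b => Subtype.ext (show (a : E) * b = b * a from congrArg Subtype.val
        (hel.1.is_comm.comm ⟨_, Subgroup.map_subtype_le D a.2⟩ ⟨_, Subgroup.map_subtype_le D b.2⟩))⟩⟩
    · exact fun a ha => hel.2 a (Subgroup.map_subtype_le D ha)
    · rw [← hD, Nat.card_congr (D.equivMapOfInjective B.subtype B.subtype_injective).toEquiv]

end DPair

theorem center_invariants {E : Type u} [Group E] [Finite E] (h : IsExtraspecial 2 E)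
    {C : Subgroup E} (hC : C = Subgroup.center E) :
    Nat.card C = 2 ∧ sqOne ↥C = 2 ∧ TwoRankIs ↥C 1 := by
  have hcard : Nat.card C = 2 := by rw [hC, h.2]
  have hsq : ∀ g : C, g ^ 2 = 1 := fun g => by rw [← hcard]; exact pow_card_eq_one'
  refine ⟨hcard, ?_, fun A _ => ?_, ⊤, elementary_sq hsq _, by rw [Subgroup.card_top, hcard]; rfl⟩
  · rw [sqOne, Nat.card_congr (Equiv.subtypeUnivEquiv hsq), hcard]
  · exact (Subgroup.card_le_card_group A).trans (by rw [hcard]; rfl)

theorem qtype_invariants {E : Type u} [Group E] [Finite E] (h : IsExtraspecial 2 E)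
    (hq : (∀ g : E, g ∉ Subgroup.center E → g ^ 2 ≠ 1) ∧
      ∀ x y : E, ⁅x, y⁆ ≠ 1 → pairC x y = Subgroup.center E) :
    Nat.card E = 8 ∧ sqOne E = 2 ∧ TwoRankIs E 1 := by
  haveI : Fact (Nat.Prime 2) := ⟨Nat.prime_two⟩
  obtain ⟨x, hx⟩ := exists_not_central h
  obtain ⟨z, hz, hz1⟩ := exists_center_ne h
  obtain ⟨y, hy⟩ := exists_comm_eq h hz hz1 hx
  have hne : ⁅x, y⁆ ≠ 1 := fun e => hz1 (by rw [← hy, ← commutatorElement_inv, e, inv_one])
  have hc := card_pairC h hne
  rw [hq.2 x y hne, h.2] at hc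
  have hmem : ∀ g : E, g ^ 2 = 1 → g ∈ Subgroup.center E := fun g hg => by
    by_contra hgc
    exact hq.1 g hgc hg
  obtain ⟨hcard, -, -, A, hA, hAc⟩ := center_invariants h rfl
  refine ⟨hc, ?_, fun B hB => ?_, Subgroup.center E, ⟨inferInstance, fun a ha => ?_⟩, by rw [h.2]; rfl⟩
  · have e : {g : E // g ^ 2 = 1} ≃ Subgroup.center E :=
      { toFun := fun g => ⟨g.1, hmem g.1 g.2⟩
        invFun := fun g => ⟨g.1, by
          have := pow_card_eq_one' (G := Subgroup.center E) (x := g)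
          rw [hcard] at this
          exact congrArg Subtype.val this⟩
        left_inv := fun g => rfl
        right_inv := fun g => rfl }
    rw [sqOne, Nat.card_congr e, hcard]
  · exact (Subgroup.card_le_of_le fun b hb => hmem b (hB.2 b hb)).trans (by rw [h.2]; rfl)
  · have := pow_card_eq_one' (G := Subgroup.center E) (x := ⟨a, ha⟩)
    rw [hcard] at this
    exact congrArg Subtype.val this

theorem invariants : ∀ (n : ℕ) (E : Type u) [Group E] [Finite E], IsExtraspecial 2 E →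
    Nat.card E = n → ∃ m, 1 ≤ m ∧ Nat.card E = 2 ^ (2 * m + 1) ∧
      ((sqOne E = 2 ^ (2 * m) + 2 ^ m ∧ TwoRankIs E (m + 1)) ∨
        (sqOne E = 2 ^ (2 * m) - 2 ^ m ∧ TwoRankIs E m)) := by
  haveI : Fact (Nat.Prime 2) := ⟨Nat.prime_two⟩
  intro n
  induction n using Nat.strong_induction_on with
  | _ n ih =>
  intro E _ _ h hn
  rcases dichotomy h with ⟨x, y, hd⟩ | hq
  · have hc := card_pairC h hd.1
    have hstep := sqOne_step h hd
    rcases pairC_trichotomy h hd.1 with hC | hC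
    · obtain ⟨h1, h2, h3⟩ := center_invariants h hC
      refine ⟨1, le_rfl, by rw [hc, h1]; rfl, Or.inl ⟨by rw [hstep, h1, h2]; rfl, rank_step h hd h3⟩⟩
    · obtain ⟨m, hm, hcm, hcases⟩ := ih _ (by
        rw [← hn, hc]
        exact lt_mul_of_one_lt_left Nat.card_pos (by norm_num)) _ hC rfl
      refine ⟨m + 1, by omega, by rw [hc, hcm]; ring, ?_⟩
      have e1 : 2 ^ (2 * (m + 1)) = 2 * 2 ^ (2 * m) + 2 ^ (2 * m + 1) := by
        rw [show 2 * (m + 1) = 2 * m + 1 + 1 by ring, pow_succ _ (2 * m + 1), pow_succ _ (2 * m)]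
        ring
      have e2 : 2 ^ (m + 1) = 2 * 2 ^ m := by rw [pow_succ]; ring
      have e3 : 2 ^ m ≤ 2 ^ (2 * m) := Nat.pow_le_pow_right two_pos (by omega)
      rcases hcases with ⟨h1, h2⟩ | ⟨h1, h2⟩
      · exact Or.inl ⟨by rw [hstep, hcm, h1, e1, e2]; omega, rank_step h hd h2⟩
      · exact Or.inr ⟨by rw [hstep, hcm, h1, e1, e2]; omega, rank_step h hd h2⟩
  · obtain ⟨h1, h2, h3⟩ := qtype_invariants h hq
    exact ⟨1, le_rfl, by rw [h1]; rfl, Or.inr ⟨by rw [h2]; rfl, h3⟩⟩

theorem twoRankIs_unique {G : Type*} [Group G] {r s : ℕ} (hr : TwoRankIs G r) (hs : TwoRankIs G s) :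
    r = s := by
  obtain ⟨A, hA, hAc⟩ := hr.2
  obtain ⟨B, hB, hBc⟩ := hs.2
  have h1 := hs.1 A hA
  have h2 := hr.1 B hB
  rw [hAc, Nat.pow_le_pow_iff_right (le_refl 2)] at h1
  rw [hBc, Nat.pow_le_pow_iff_right (le_refl 2)] at h2
  omega

/-- An extraspecial `2`-group is determined by its order and its number of elements squaring to one. -/
theorem iso_of_sqOne : ∀ (n : ℕ) (E : Type u) (E' : Type v) [Group E] [Group E'] [Finite E] [Finite E'],
    IsExtraspecial 2 E → IsExtraspecial 2 E' → Nat.card E = n → Nat.card E' = n →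
      sqOne E = sqOne E' → Nonempty (E ≃* E') := by
  haveI : Fact (Nat.Prime 2) := ⟨Nat.prime_two⟩
  intro n
  induction n using Nat.strong_induction_on with
  | _ n ih =>
  intro E E' _ _ _ _ h h' hn hn' hsq
  rcases dichotomy h with ⟨x, y, hd⟩ | hq <;> rcases dichotomy h' with ⟨x', y', hd'⟩ | hq'
  · have hc := card_pairC h hd.1
    have hc' := card_pairC h' hd'.1
    rw [hn] at hc
    rw [hn'] at hc'
    have hcard : Nat.card (pairC x y) = Nat.card (pairC x' y') := by omega
    have hsC : sqOne ↥(pairC x y) = sqOne ↥(pairC x' y') := by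
      rw [sqOne_step h hd, sqOne_step h' hd'] at hsq
      omega
    have hbig : ∀ {F : Type u} [Group F] [Finite F], IsExtraspecial 2 F → Nat.card F ≠ 2 := by
      intro F _ _ hF h2
      obtain ⟨m, hm, hcm, -⟩ := invariants _ F hF rfl
      rw [h2] at hcm
      have : 2 ^ 1 < 2 ^ (2 * m + 1) := Nat.pow_lt_pow_right one_lt_two (by omega)
      omega
    have hbig' : ∀ {F : Type v} [Group F] [Finite F], IsExtraspecial 2 F → Nat.card F ≠ 2 := by
      intro F _ _ hF h2
      obtain ⟨m, hm, hcm, -⟩ := invariants _ F hF rfl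
      rw [h2] at hcm
      have : 2 ^ 1 < 2 ^ (2 * m + 1) := Nat.pow_lt_pow_right one_lt_two (by omega)
      omega
    rcases pairC_trichotomy h hd.1 with hC | hC <;> rcases pairC_trichotomy h' hd'.1 with hC' | hC'
    · obtain ⟨ψ⟩ := cyclic_center_equiv h h' hC hC'
      exact dpair_glue h h' hd hd' ψ
    · exact absurd (hcard ▸ (center_invariants h hC).1) (hbig' hC')
    · exact absurd (hcard.symm ▸ (center_invariants h' hC').1) (hbig hC)
    · have hlt : Nat.card (pairC x y) < n := by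
        have := (Nat.card_pos : 0 < Nat.card (pairC x y)); omega
      obtain ⟨ψ⟩ := ih _ hlt _ _ hC hC' rfl hcard.symm hsC
      exact dpair_glue h h' hd hd' ψ
  · obtain ⟨h1, h2, -⟩ := qtype_invariants h' hq'
    have hc := card_pairC h hd.1
    have hst := sqOne_step h hd
    have h0 : 0 < sqOne ↥(pairC x y) := Nat.card_pos_iff.mpr ⟨⟨⟨1, one_pow 2⟩⟩, inferInstance⟩
    omega
  · obtain ⟨h1, h2, -⟩ := qtype_invariants h hq
    have hc := card_pairC h' hd'.1
    have hst := sqOne_step h' hd'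
    have h0 : 0 < sqOne ↥(pairC x' y') := Nat.card_pos_iff.mpr ⟨⟨⟨1, one_pow 2⟩⟩, inferInstance⟩
    omega
  · exact qtype_equiv h h' hq hq'

end CfsgLib.Extraspecial
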