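import Mathlib
import Cfsg.Agent.Lib.Extraspecial.TwoTypes

/-!
Models of both types of extraspecial `2`-groups.
-/

set_option autoImplicit false

open Cfsg
open scoped commutatorElement

namespace CfsgLib.Extraspecial

/-- The contribution of the `i`-th hyperbolic plane. -/
def planeForm {n : ℕ} (e : Fin n → ZMod 2) (i : Fin n) (u w : ZMod 2 × ZMod 2) : ZMod 2 :=
  u.1 * w.2 + e i * (u.1 * w.1 + u.2 * w.2)

/-- The cocycle. -/
def cocycle {n : ℕ} (e : Fin n → ZMod 2) (v w : Fin n → ZMod 2 × ZMod 2) : ZMod 2 :=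
  ∑ i, planeForm e i (v i) (w i)

theorem cocycle_add_left {n : ℕ} (e : Fin n → ZMod 2) (u v w : Fin n → ZMod 2 × ZMod 2) :
    cocycle e (u + v) w = cocycle e u w + cocycle e v w := by
  simp only [cocycle, planeForm, ← Finset.sum_add_distrib, Pi.add_apply, Prod.fst_add, Prod.snd_add]
  exact Finset.sum_congr rfl fun i _ => by ring

theorem cocycle_add_right {n : ℕ} (e : Fin n → ZMod 2) (u v w : Fin n → ZMod 2 × ZMod 2) :
    cocycle e w (u + v) = cocycle e w u + cocycle e w v := by
  simp only [cocycle, planeForm, ← Finset.sum_add_distrib, Pi.add_apply, Prod.fst_add, Prod.snd_add]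
  exact Finset.sum_congr rfl fun i _ => by ring

theorem cocycle_zero_left {n : ℕ} (e : Fin n → ZMod 2) (w : Fin n → ZMod 2 × ZMod 2) :
    cocycle e 0 w = 0 := by simp [cocycle, planeForm]

theorem cocycle_zero_right {n : ℕ} (e : Fin n → ZMod 2) (w : Fin n → ZMod 2 × ZMod 2) :
    cocycle e w 0 = 0 := by simp [cocycle, planeForm]

theorem neg_eq_two {n : ℕ} (v : Fin n → ZMod 2 × ZMod 2) : v + v = 0 := by
  funext i
  exact Prod.ext (CharTwo.add_self_eq_zero _) (CharTwo.add_self_eq_zero _)

/-- The model group. -/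
@[ext]
structure Model {n : ℕ} (e : Fin n → ZMod 2) : Type where
  v : Fin n → ZMod 2 × ZMod 2
  a : ZMod 2

namespace Model

variable {n : ℕ} {e : Fin n → ZMod 2}

instance : Mul (Model e) := ⟨fun x y => ⟨x.v + y.v, x.a + y.a + cocycle e x.v y.v⟩⟩
instance : One (Model e) := ⟨⟨0, 0⟩⟩
instance : Inv (Model e) := ⟨fun x => ⟨x.v, x.a + cocycle e x.v x.v⟩⟩

theorem mul_v (x y : Model e) : (x * y).v = x.v + y.v := rfl
theorem mul_a (x y : Model e) : (x * y).a = x.a + y.a + cocycle e x.v y.v := rfl
theorem one_v : (1 : Model e).v = 0 := rfl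
theorem one_a : (1 : Model e).a = 0 := rfl

instance : Group (Model e) := Group.ofLeftAxioms
  (fun x y z => by
    ext1
    · simp [mul_v, add_assoc]
    · simp only [mul_a, mul_v, cocycle_add_left, cocycle_add_right]; ring)
  (fun x => by ext1 <;> simp [mul_v, mul_a, one_v, one_a, cocycle_zero_left])
  (fun x => by
    ext1
    · exact neg_eq_two x.v
    · show x.a + cocycle e x.v x.v + x.a + cocycle e x.v x.v = 0
      rw [add_assoc (x.a + _)]
      exact CharTwo.add_self_eq_zero _)

/-- The underlying pairs. -/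
def equivProd : Model e ≃ (Fin n → ZMod 2 × ZMod 2) × ZMod 2 where
  toFun x := (x.v, x.a)
  invFun p := ⟨p.1, p.2⟩
  left_inv _ := rfl
  right_inv _ := rfl

instance : Finite (Model e) := Finite.of_equiv _ equivProd.symm

theorem card : Nat.card (Model e) = 2 ^ (2 * n + 1) := by
  rw [Nat.card_congr equivProd, Nat.card_prod, Nat.card_fun, Nat.card_prod, Nat.card_zmod, Nat.card_fin,
    pow_succ, pow_mul]
  norm_num

theorem comm_iff (x y : Model e) : x * y = y * x ↔ cocycle e x.v y.v = cocycle e y.v x.v := by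
  constructor
  · intro h
    have := congrArg Model.a h
    rw [mul_a, mul_a, add_comm y.a x.a] at this
    exact add_left_cancel this
  · intro h
    ext1
    · rw [mul_v, mul_v, add_comm]
    · rw [mul_a, mul_a, h, add_comm y.a x.a]

theorem mem_center_iff (x : Model e) : x ∈ Subgroup.center (Model e) ↔ x.v = 0 := by
  rw [Subgroup.mem_center_iff]
  refine ⟨fun h => funext fun i => ?_, fun h y => (comm_iff y x).mpr (by
    rw [h, cocycle_zero_left, cocycle_zero_right])⟩
  classical
  have hkey : ∀ w : ZMod 2 × ZMod 2, planeForm e i (x.v i) w = planeForm e i w (x.v i) := by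
    intro w
    have := (comm_iff _ x).mp (h ⟨Pi.single i w, 0⟩)
    have e1 : cocycle e (Pi.single i w) x.v = planeForm e i w (x.v i) := by
      rw [cocycle, Finset.sum_eq_single i (fun j _ hj => by simp [planeForm, hj]) (by simp),
        Pi.single_eq_same]
    have e2 : cocycle e x.v (Pi.single i w) = planeForm e i (x.v i) w := by
      rw [cocycle, Finset.sum_eq_single i (fun j _ hj => by simp [planeForm, hj]) (by simp),
        Pi.single_eq_same]
    rw [← e1, ← e2]
    exact this.symm
  have h1 := hkey (1, 0)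
  have h2 := hkey (0, 1)
  simp [planeForm] at h1 h2
  exact Prod.ext h2 h1

/-- The projection to the Frattini quotient. -/
def proj : Model e →* Multiplicative (Fin n → ZMod 2 × ZMod 2) where
  toFun x := Multiplicative.ofAdd x.v
  map_one' := rfl
  map_mul' _ _ := rfl

theorem ker_proj : (proj : Model e →* _).ker = Subgroup.center (Model e) := by
  ext x
  rw [mem_center_iff, MonoidHom.mem_ker]
  exact Iff.rfl

theorem sq_mem (x : Model e) : x ^ 2 = ⟨0, cocycle e x.v x.v⟩ := by
  rw [sq]
  ext1
  · exact neg_eq_two x.v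
  · show x.a + x.a + cocycle e x.v x.v = cocycle e x.v x.v
    rw [CharTwo.add_self_eq_zero, zero_add]

theorem isExtraspecial (hn : 1 ≤ n) : IsExtraspecial 2 (Model e) := by
  haveI : Fact (Nat.Prime 2) := ⟨Nat.prime_two⟩
  have hp : IsPGroup 2 (Model e) := IsPGroup.of_card card
  have hZ : Nat.card (Subgroup.center (Model e)) = 2 := by
    rw [← Nat.card_zmod 2]
    exact Nat.card_congr
      { toFun := fun x => x.1.a
        invFun := fun a => ⟨⟨0, a⟩, (mem_center_iff _).mpr rfl⟩
        left_inv := fun x => Subtype.ext (Model.ext ((mem_center_iff x.1).mp x.2).symm rfl)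
        right_inv := fun _ => rfl }
  have hle : commutator (Model e) ≤ Subgroup.center (Model e) := by
    rw [← ker_proj, commutator_def, Subgroup.commutator_le]
    intro a _ b _
    rw [MonoidHom.mem_ker, map_commutatorElement, commutatorElement_eq_one_iff_mul_comm, mul_comm]
  have heq : commutator (Model e) = Subgroup.center (Model e) := by
    refine Subgroup.eq_of_le_of_card_ge hle ?_
    rw [hZ]
    have hne : commutator (Model e) ≠ ⊥ := by
      intro hb
      have hmem : (⟨Pi.single ⟨0, hn⟩ (1, 0), 0⟩ : Model e) ∈ Subgroup.center (Model e) := by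
        rw [Subgroup.mem_center_iff]
        intro g
        rw [← commutatorElement_eq_one_iff_mul_comm, ← Subgroup.mem_bot, ← hb, commutator_def]
        exact Subgroup.commutator_mem_commutator (Subgroup.mem_top _) (Subgroup.mem_top _)
      have := congrFun ((mem_center_iff _).mp hmem) ⟨0, hn⟩
      simp at this
    exact (Subgroup.one_lt_card_iff_ne_bot _).mpr hne
  refine ⟨⟨hp, le_antisymm ?_ ?_, heq⟩, hZ⟩
  · refine Critical.frattini_le_of_elementary (p := 2) _ hle fun x => ?_
    rw [mem_center_iff, sq_mem]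
  · exact heq ▸ (PSolvable.commutator_le_frattini hp).1

/-- The sign character. -/
def sgn (a : ZMod 2) : ℤ := if a = 0 then 1 else -1

theorem sgn_sum {ι : Type*} (s : Finset ι) (f : ι → ZMod 2) :
    sgn (∑ i ∈ s, f i) = ∏ i ∈ s, sgn (f i) := by
  classical
  induction s using Finset.induction_on with
  | empty => simp [sgn]
  | insert i s hi ih =>
    rw [Finset.sum_insert hi, Finset.prod_insert hi, ← ih]
    generalize f i = a
    generalize ∑ j ∈ s, f j = b
    fin_cases a <;> fin_cases b <;> decide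

theorem plane_sum (i : Fin n) :
    ∑ w : ZMod 2 × ZMod 2, sgn (planeForm e i w w) = if e i = 0 then 2 else -2 := by
  simp only [planeForm]
  generalize e i = a
  fin_cases a <;> decide

theorem sqOne_eq : (sqOne (Model e) : ℤ) = 2 ^ (2 * n) + ∏ i, (if e i = 0 then 2 else -2) := by
  classical
  have h1 : sqOne (Model e) =
      2 * Nat.card {v : Fin n → ZMod 2 × ZMod 2 // cocycle e v v = 0} := by
    refine Eq.trans (Nat.card_congr (β := ZMod 2 × {v : Fin n → ZMod 2 × ZMod 2 // cocycle e v v = 0}) ?_)
      (by rw [Nat.card_prod, Nat.card_zmod])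
    exact
      { toFun := fun x => (x.1.a, ⟨x.1.v, congrArg Model.a ((sq_mem x.1).symm.trans x.2)⟩)
        invFun := fun p => ⟨⟨p.2.1, p.1⟩, (sq_mem _).trans (Model.ext rfl p.2.2)⟩
        left_inv := fun x => rfl
        right_inv := fun p => rfl }
  have h2 : (∏ i, (if e i = 0 then (2 : ℤ) else -2)) =
      ∑ v : Fin n → ZMod 2 × ZMod 2, sgn (cocycle e v v) := by
    simp only [← plane_sum, cocycle, sgn_sum]
    rw [Fintype.prod_sum]
  have h3 : ∀ a : ZMod 2, sgn a = 2 * (if a = 0 then (1 : ℤ) else 0) - 1 := by decide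
  rw [h1, h2, Nat.card_eq_fintype_card, Fintype.card_subtype]
  simp only [h3, Finset.sum_sub_distrib, ← Finset.mul_sum, Finset.sum_boole, Finset.sum_const,
    Finset.card_univ, nsmul_one]
  push_cast
  rw [show (Fintype.card (Fin n → ZMod 2 × ZMod 2) : ℤ) = 2 ^ (2 * n) by
    rw [Fintype.card_fun, Fintype.card_prod, ZMod.card, Fintype.card_fin, pow_mul]; norm_num]
  ring

end Model

/-- Both ranks occur. -/
theorem exists_models {n : ℕ} (hn : 1 ≤ n) {r : ℕ} (hr : r = n ∨ r = n + 1) :
    ∃ (E : Type) (_ : Group E) (_ : Finite E), IsExtraspecial 2 E ∧ Nat.card E = 2 ^ (2 * n + 1) ∧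
      TwoRankIs E r := by
  classical
  have key : ∀ e : Fin n → ZMod 2, ∀ s : ℕ, (∏ i, (if e i = 0 then (2 : ℤ) else -2)) =
      (if s = n then -(2 ^ n) else 2 ^ n) → (s = n ∨ s = n + 1) → TwoRankIs (Model e) s := by
    intro e s hs hs'
    obtain ⟨m, -, hcard, hcases⟩ := invariants _ (Model e) (Model.isExtraspecial hn) rfl
    rw [Model.card] at hcard
    have hmn : m = n := by
      have := Nat.pow_right_injective le_rfl hcard
      omega
    subst hmn
    have h1 := Model.sqOne_eq (e := e)
    rw [hs] at h1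
    have hle : 2 ^ m ≤ 2 ^ (2 * m) := Nat.pow_le_pow_right two_pos (by omega)
    have hpos : (0 : ℤ) < 2 ^ m := by positivity
    rcases hs' with rfl | rfl
    · rw [if_pos rfl] at h1
      rcases hcases with ⟨h2, -⟩ | ⟨-, h3⟩
      · rw [h2] at h1; push_cast at h1; omega
      · exact h3
    · rw [if_neg (by omega)] at h1
      rcases hcases with ⟨-, h3⟩ | ⟨h2, -⟩
      · exact h3
      · rw [h2, Nat.cast_sub hle] at h1; push_cast at h1; omega
  rcases hr with rfl | rfl
  · refine ⟨Model (Pi.single (⟨0, hn⟩ : Fin r) 1), inferInstance, inferInstance,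
      Model.isExtraspecial hn, Model.card, key _ r ?_ (Or.inl rfl)⟩
    rw [if_pos rfl]
    obtain ⟨k, rfl⟩ : ∃ k, r = k + 1 := ⟨r - 1, by omega⟩
    rw [Fin.prod_univ_succ]
    simp only [show (⟨0, hn⟩ : Fin (k + 1)) = 0 from rfl, Pi.single_eq_same,
      Pi.single_eq_of_ne (Fin.succ_ne_zero _)]
    simp only [one_ne_zero, if_false, if_true, Finset.prod_const, Finset.card_univ, Fintype.card_fin]
    rw [pow_succ]; ring
  · refine ⟨Model (0 : Fin n → ZMod 2), inferInstance, inferInstance,
      Model.isExtraspecial hn, Model.card, key _ (n + 1) ?_ (Or.inr rfl)⟩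
    rw [if_neg (by omega)]
    simp

end CfsgLib.Extraspecial
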