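import Mathlib
import Cfsg.Agent.Lib.Extraspecial.Models
import Cfsg.Prelude.Def_KGroupFacts
import Cfsg.Prelude.Def_Classical

/-!
The outer automorphism group of an extraspecial `2`-group is the isometry group of its squaring
form.
-/

set_option autoImplicit false
set_option linter.style.haveILetI false

open Cfsg
open scoped commutatorElement

namespace CfsgLib.Extraspecial

/-- The coordinate space of the models. -/
abbrev Coord (n : ℕ) : Type := Fin n → ZMod 2 × ZMod 2

theorem zmod_two_cases : ∀ a : ZMod 2, a = 0 ∨ a = 1 := by decide +kernel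

variable {n : ℕ} (e : Fin n → ZMod 2)

/-- The squaring form. -/
def sqForm (v : Coord n) : ZMod 2 := cocycle e v v

/-- The isometries of the squaring form. -/
def isoGrp : Subgroup (Coord n ≃ₗ[ZMod 2] Coord n) where
  carrier := {φ | ∀ v, sqForm e (φ v) = sqForm e v}
  one_mem' _ := rfl
  mul_mem' {a b} ha hb v := (ha (b v)).trans (hb v)
  inv_mem' {a} ha v := by
    have := ha (a⁻¹ v)
    rw [← this]
    exact congrArg (sqForm e) (a.apply_symm_apply v)

/-- The cocycle as a bilinear map. -/
def cBil : Coord n →ₗ[ZMod 2] Coord n →ₗ[ZMod 2] ZMod 2 :=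
  LinearMap.mk₂ (ZMod 2) (cocycle e) (fun a b c => cocycle_add_left e a b c)
    (fun c a b => by
      rcases zmod_two_cases c with rfl | rfl <;> simp [cocycle_zero_left])
    (fun a b c => cocycle_add_right e b c a)
    (fun c a b => by
      rcases zmod_two_cases c with rfl | rfl <;> simp [cocycle_zero_right])

theorem cBil_apply (v w : Coord n) : cBil e v w = cocycle e v w := rfl

/-- An alternating bilinear map is the polar of a function. -/
theorem exists_of_alternating {V : Type*} [AddCommGroup V] [Module (ZMod 2) V]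
    [Module.Finite (ZMod 2) V] (γ : V →ₗ[ZMod 2] V →ₗ[ZMod 2] ZMod 2) (h : ∀ v, γ v v = 0) :
    ∃ f : V → ZMod 2, ∀ v w, f (v + w) = f v + f w + γ v w := by
  classical
  let b := Module.finBasis (ZMod 2) V
  have hsym : ∀ x y, γ x y = γ y x := by
    intro x y
    have h1 := h (x + y)
    simp only [map_add, LinearMap.add_apply, h x, h y, zero_add, add_zero] at h1
    exact (CharTwo.add_eq_zero.mp h1).symm
  let B : V →ₗ[ZMod 2] V →ₗ[ZMod 2] ZMod 2 :=
    Matrix.toLinearMap₂ b b (Matrix.of fun i j => if i < j then γ (b i) (b j) else 0)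
  have hB : B + B.flip = γ := by
    refine LinearMap.ext_basis b b fun i j => ?_
    simp only [B, LinearMap.add_apply, LinearMap.flip_apply, Matrix.toLinearMap₂_apply_basis,
      Matrix.of_apply]
    rcases lt_trichotomy i j with hij | rfl | hij
    · rw [if_pos hij, if_neg (lt_asymm hij), add_zero]
    · rw [if_neg (lt_irrefl i), add_zero, h]
    · rw [if_pos hij, if_neg (lt_asymm hij), zero_add, hsym]
  refine ⟨fun v => B v v, fun v w => ?_⟩
  rw [← hB]
  simp only [map_add, LinearMap.add_apply, LinearMap.flip_apply]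
  abel

namespace Model

variable {e}

theorem eq_mul (x : Model e) : x = (⟨x.v, 0⟩ : Model e) * ⟨0, x.a⟩ := by
  ext1
  · rw [mul_v, add_zero]
  · rw [mul_a]; simp [cocycle_zero_right]

theorem aut_center (α : MulAut (Model e)) {x : Model e} (hx : x.v = 0) : (α x).v = 0 := by
  rw [← mem_center_iff] at hx ⊢
  rw [Subgroup.mem_center_iff] at hx ⊢
  intro g
  have := congrArg α (hx (α.symm g))
  simpa using this

theorem aut_fix_center (α : MulAut (Model e)) (a : ZMod 2) :
    α (⟨0, a⟩ : Model e) = ⟨0, a⟩ := by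
  rcases zmod_two_cases a with rfl | rfl
  · exact map_one α
  · have hv := aut_center α (x := (⟨0, 1⟩ : Model e)) rfl
    refine Model.ext hv ?_
    rcases zmod_two_cases (α (⟨0, 1⟩ : Model e)).a with h | h
    · exfalso
      have h1 : α (⟨0, 1⟩ : Model e) = α 1 := by
        rw [map_one]; exact Model.ext hv h
      exact one_ne_zero (congrArg Model.a (α.injective h1))
    · exact h

theorem aut_v (α : MulAut (Model e)) (x : Model e) : (α x).v = (α ⟨x.v, 0⟩).v := by
  conv_lhs => rw [eq_mul x]
  rw [map_mul, mul_v, aut_center α (x := (⟨0, x.a⟩ : Model e)) rfl, add_zero]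

theorem aut_v_add (α : MulAut (Model e)) (v w : Coord n) :
    (α (⟨v + w, 0⟩ : Model e)).v = (α ⟨v, 0⟩).v + (α ⟨w, 0⟩).v := by
  rw [← mul_v, ← map_mul, aut_v α (⟨v, 0⟩ * ⟨w, 0⟩)]
  rfl

/-- The linear map induced by an automorphism. -/
def autLin (α : MulAut (Model e)) : Coord n →ₗ[ZMod 2] Coord n :=
  (AddMonoidHom.mk' (fun v => (α (⟨v, 0⟩ : Model e)).v) (aut_v_add α)).toZModLinearMap 2

theorem autLin_apply (α : MulAut (Model e)) (v : Coord n) :
    autLin α v = (α (⟨v, 0⟩ : Model e)).v := rfl

theorem autLin_comp (α β : MulAut (Model e)) (v : Coord n) :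
    autLin (α * β) v = autLin α (autLin β v) := by
  rw [autLin_apply, autLin_apply, autLin_apply]
  exact aut_v α (β ⟨v, 0⟩)

/-- The linear equivalence induced by an automorphism. -/
def autEquiv (α : MulAut (Model e)) : Coord n ≃ₗ[ZMod 2] Coord n :=
  LinearEquiv.ofLinear (autLin α) (autLin α⁻¹)
    (LinearMap.ext fun v => by
      rw [LinearMap.comp_apply, ← autLin_comp, mul_inv_cancel]; rfl)
    (LinearMap.ext fun v => by
      rw [LinearMap.comp_apply, ← autLin_comp, inv_mul_cancel]; rfl)

theorem autEquiv_mem (α : MulAut (Model e)) : autEquiv α ∈ isoGrp e := by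
  intro v
  have h := congrArg α (sq_mem (⟨v, 0⟩ : Model e))
  rw [map_pow, sq_mem, aut_fix_center] at h
  exact congrArg Model.a h

/-- The action of automorphisms on the Frattini quotient. -/
def autHom : MulAut (Model e) →* isoGrp e where
  toFun α := ⟨autEquiv α, autEquiv_mem α⟩
  map_one' := Subtype.ext (LinearEquiv.ext fun _ => rfl)
  map_mul' α β := Subtype.ext (LinearEquiv.ext fun v => autLin_comp α β v)

theorem conj_apply (g x : Model e) :
    g * x * g⁻¹ = ⟨x.v, x.a + cocycle e g.v x.v + cocycle e x.v g.v⟩ := by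
  rw [mul_inv_eq_iff_eq_mul]
  ext1
  · rw [mul_v, mul_v, add_comm]
  · rw [mul_a, mul_a]
    show g.a + x.a + cocycle e g.v x.v =
      x.a + cocycle e g.v x.v + cocycle e x.v g.v + g.a + cocycle e x.v g.v
    linear_combination -(CharTwo.add_self_eq_zero (cocycle e x.v g.v))

theorem ker_autHom : (autHom : MulAut (Model e) →* isoGrp e).ker = Inn (Model e) := by
  classical
  refine le_antisymm ?_ ?_
  · intro α hα
    have hv : ∀ x : Model e, (α x).v = x.v := fun x => by
      rw [aut_v]
      exact LinearEquiv.congr_fun (congrArg Subtype.val hα) x.v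
    let hlin : Coord n →ₗ[ZMod 2] ZMod 2 :=
      (AddMonoidHom.mk' (fun v => (α (⟨v, 0⟩ : Model e)).a) (fun v w => by
        have h := congrArg Model.a (map_mul α (⟨v, 0⟩ : Model e) ⟨w, 0⟩)
        rw [mul_a, hv, hv] at h
        rw [show (⟨v, 0⟩ : Model e) * ⟨w, 0⟩ = ⟨v + w, 0⟩ * ⟨0, cocycle e v w⟩ by
          rw [show (⟨v, 0⟩ : Model e) * ⟨w, 0⟩ = ⟨v + w, cocycle e v w⟩ from
            Model.ext rfl (by rw [mul_a]; simp)]
          exact eq_mul _, map_mul, aut_fix_center, mul_a, hv] at h
        simp only [cocycle_zero_right, add_zero] at h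
        exact add_right_cancel h)).toZModLinearMap 2
    let P : Coord n →ₗ[ZMod 2] (Coord n →ₗ[ZMod 2] ZMod 2) := cBil e + (cBil e).flip
    have hinj : Function.Injective P := by
      refine (injective_iff_map_eq_zero P).mpr fun v hv0 => ?_
      have : (⟨v, 0⟩ : Model e) ∈ Subgroup.center (Model e) := by
        rw [Subgroup.mem_center_iff]
        intro g
        refine ((comm_iff _ g).mpr ?_).symm
        have h := LinearMap.congr_fun hv0 g.v
        exact CharTwo.add_eq_zero.mp h
      exact (mem_center_iff _).mp this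
    have hsurj : Function.Surjective P :=
      (LinearMap.injective_iff_surjective_of_finrank_eq_finrank
        (Subspace.dual_finrank_eq (K := ZMod 2) (V := Coord n)).symm).mp hinj
    obtain ⟨w, hw⟩ := hsurj hlin
    refine ⟨⟨w, 0⟩, MulEquiv.ext fun x => ?_⟩
    rw [MulAut.conj_apply, conj_apply]
    refine Model.ext (hv x).symm ?_
    have hx : (α x).a = (α ⟨x.v, 0⟩).a + x.a := by
      conv_lhs => rw [eq_mul x]
      rw [map_mul, aut_fix_center, mul_a, cocycle_zero_right, add_zero]
    rw [hx, show (α (⟨x.v, 0⟩ : Model e)).a = hlin x.v from rfl, ← hw]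
    show x.a + cocycle e w x.v + cocycle e x.v w = cocycle e w x.v + cocycle e x.v w + x.a
    ring
  · rintro _ ⟨g, rfl⟩
    refine Subtype.ext (LinearEquiv.ext fun v => ?_)
    show ((MulAut.conj g) (⟨v, 0⟩ : Model e)).v = v
    rw [MulAut.conj_apply, conj_apply]

theorem autHom_surjective : Function.Surjective (autHom : MulAut (Model e) →* isoGrp e) := by
  intro φ
  obtain ⟨f, hf⟩ := exists_of_alternating
    (((cBil e).compl₁₂ (φ : Coord n ≃ₗ[ZMod 2] Coord n).toLinearMap
      (φ : Coord n ≃ₗ[ZMod 2] Coord n).toLinearMap) + cBil e) (fun v => by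
      show cocycle e _ _ + cocycle e v v = 0
      have h : sqForm e (φ.1 v) = sqForm e v := φ.2 v
      unfold sqForm at h
      rw [show cocycle e ((φ.1).toLinearMap v) ((φ.1).toLinearMap v) = cocycle e v v from h]
      exact CharTwo.add_self_eq_zero _)
  let α : MulAut (Model e) :=
    { toFun := fun x => ⟨φ.1 x.v, x.a + f x.v⟩
      invFun := fun x => ⟨φ.1.symm x.v, x.a + f (φ.1.symm x.v)⟩
      left_inv := fun x => Model.ext (φ.1.symm_apply_apply x.v) (by
        show x.a + f x.v + f (φ.1.symm (φ.1 x.v)) = x.a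
        rw [φ.1.symm_apply_apply, add_assoc, CharTwo.add_self_eq_zero, add_zero])
      right_inv := fun x => Model.ext (φ.1.apply_symm_apply x.v) (by
        show x.a + f (φ.1.symm x.v) + f (φ.1.symm x.v) = x.a
        rw [add_assoc, CharTwo.add_self_eq_zero, add_zero])
      map_mul' := fun x y => Model.ext (map_add φ.1 x.v y.v) (by
        show x.a + y.a + cocycle e x.v y.v + f (x.v + y.v) =
          x.a + f x.v + (y.a + f y.v) + cocycle e (φ.1 x.v) (φ.1 y.v)
        rw [hf]
        show _ + (f x.v + f y.v + (cocycle e (φ.1 x.v) (φ.1 y.v) + cocycle e x.v y.v)) = _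
        linear_combination CharTwo.add_self_eq_zero (cocycle e x.v y.v)) }
  exact ⟨α, Subtype.ext (LinearEquiv.ext fun _ => rfl)⟩

/-- `Out` of the model is the isometry group. -/
noncomputable def outEquiv : Out (Model e) ≃* isoGrp e :=
  (QuotientGroup.quotientMulEquivOfEq (ker_autHom (e := e)).symm).trans
    (QuotientGroup.quotientKerEquivOfSurjective autHom autHom_surjective)

end Model

/-- Isomorphic groups have isomorphic outer automorphism groups. -/
noncomputable def outCongr {A B : Type*} [Group A] [Group B] (ψ : A ≃* B) : Out A ≃* Out B :=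
  QuotientGroup.congr (Inn A) (Inn B) (MulAut.congr ψ) (by
    ext β
    constructor
    · rintro ⟨_, ⟨a, rfl⟩, rfl⟩
      exact ⟨ψ a, MulEquiv.ext fun x => by simp [MulAut.congr]⟩
    · rintro ⟨b, rfl⟩
      exact ⟨MulAut.conj (ψ.symm b), ⟨ψ.symm b, rfl⟩, MulEquiv.ext fun x => by simp [MulAut.congr]⟩)

/-- Transfer of the isometry group along coordinates. -/
noncomputable def isoGrpEquiv {ι : Type} [Fintype ι] [DecidableEq ι]
    (Q : (ι → ZMod 2) → ZMod 2) (L : Coord n ≃ₗ[ZMod 2] (ι → ZMod 2))
    (h : ∀ v, Q (L v) = sqForm e v) : isoGrp e ≃* Cfsg.isometryGroup (ZMod 2) Q := by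
  let Φ : (Coord n ≃ₗ[ZMod 2] Coord n) ≃* Matrix.GeneralLinearGroup ι (ZMod 2) :=
    (MulEquiv.mk
      { toFun := fun φ => (L.symm.trans φ).trans L
        invFun := fun φ => (L.trans φ).trans L.symm
        left_inv := fun φ => LinearEquiv.ext fun v => by simp
        right_inv := fun φ => LinearEquiv.ext fun v => by simp }
      (fun φ ψ => LinearEquiv.ext fun v => by simp)).trans
    ((LinearMap.GeneralLinearGroup.generalLinearEquiv (ZMod 2) (ι → ZMod 2)).symm.trans
      Matrix.GeneralLinearGroup.toLin.symm)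
  have hΦ : ∀ (φ : Coord n ≃ₗ[ZMod 2] Coord n) (u : ι → ZMod 2),
      ((Φ φ : Matrix.GeneralLinearGroup ι (ZMod 2)) : Matrix ι ι (ZMod 2)).mulVec u =
        L (φ (L.symm u)) := by
    intro φ u
    show (LinearMap.toMatrix' _).mulVec u = _
    rw [← Matrix.toLin'_apply, Matrix.toLin'_toMatrix']
    rfl
  refine (Φ.subgroupMap (isoGrp e)).trans (MulEquiv.subgroupCongr ?_)
  ext g
  obtain ⟨φ, rfl⟩ := Φ.surjective g
  have hmem : Φ φ ∈ (isoGrp e).map (Φ : _ →* _) ↔ φ ∈ isoGrp e :=
    ⟨fun ⟨y, hy, hyφ⟩ => Φ.injective hyφ ▸ hy, fun hy => ⟨φ, hy, rfl⟩⟩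
  refine hmem.trans ?_
  constructor
  · intro hφ u v
    show Q _ = Q u
    rw [show ((Units.coeHom (Matrix ι ι (ZMod 2))) (Φ φ)).mulVec u = L (φ (L.symm u)) from hΦ φ u,
      h, hφ, ← h, L.apply_symm_apply]
  · intro hg v
    have := hg (L v) (L v)
    rw [show ((Units.coeHom (Matrix ι ι (ZMod 2))) (Φ φ)).mulVec (L v) = L (φ (L.symm (L v))) from
      hΦ φ _, L.symm_apply_apply] at this
    replace this : Q (L (φ v)) = Q (L v) := this
    rw [h, h] at this
    exact this

/-- An extraspecial `2`-group is a model; the type is decided by the elementary abelian rank. -/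
theorem equiv_model {E : Type*} [Group E] [Finite E] (hE : IsExtraspecial 2 E) (hn : 1 ≤ n)
    (hcard : Nat.card E = 2 ^ (2 * n + 1)) (s : Bool)
    (hs : s = true ↔ ∃ A : Subgroup E, IsElementaryAbelian 2 A ∧ Nat.card ↥A = 2 ^ (n + 1))
    (he : (∏ i, (if e i = 0 then (2 : ℤ) else -2)) = if s then 2 ^ n else -(2 ^ n)) :
    Nonempty (E ≃* Model e) := by
  refine iso_of_sqOne _ E (Model e) hE (Model.isExtraspecial hn) hcard Model.card ?_
  obtain ⟨m, -, hcm, hcases⟩ := invariants _ E hE rfl
  have hmn : m = n := by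
    rw [hcard] at hcm
    have := Nat.pow_right_injective le_rfl hcm
    omega
  subst hmn
  have h1 := Model.sqOne_eq (e := e)
  rw [he] at h1
  have hle : 2 ^ m ≤ 2 ^ (2 * m) := Nat.pow_le_pow_right two_pos (by omega)
  rcases hcases with ⟨h2, -, h3⟩ | ⟨h2, h3, -⟩
  · rw [hs.mpr h3, if_pos rfl] at h1
    have : ((sqOne E : ℕ) : ℤ) = (sqOne (Model e) : ℤ) := by rw [h1, h2]; push_cast; rfl
    exact_mod_cast this
  · cases s with
    | true =>
      obtain ⟨A, hA, hAc⟩ := hs.mp rfl
      have := h3 A hA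
      rw [hAc, Nat.pow_le_pow_iff_right (le_refl 2)] at this
      omega
    | false =>
      have : ((sqOne E : ℕ) : ℤ) = (sqOne (Model e) : ℤ) := by
        rw [h1, h2, Nat.cast_sub hle]; push_cast; simp [sub_eq_add_neg]
      exact_mod_cast this

theorem prod_zero : (∏ i, (if (0 : Fin n → ZMod 2) i = 0 then (2 : ℤ) else -2)) = 2 ^ n := by
  simp

theorem prod_last (m : ℕ) :
    (∏ i, (if (Pi.single (Fin.last m) 1 : Fin (m + 1) → ZMod 2) i = 0 then (2 : ℤ) else -2)) =
      -(2 ^ (m + 1)) := by
  rw [Fin.prod_univ_castSucc]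
  simp only [Pi.single_eq_of_ne (Fin.castSucc_lt_last _).ne, Pi.single_eq_same, one_ne_zero,
    if_true, if_false, Finset.prod_const, Finset.card_univ, Fintype.card_fin]
  rw [pow_succ]; ring

end CfsgLib.Extraspecial
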