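import Cfsg.Agent.Lib.Extraspecial.LargePair
import Cfsg.Agent.Lib.Layer.Basic

/-!
# The setting `F*(C(z)) = Q` extraspecial
-/

set_option autoImplicit false
set_option linter.style.haveILetI false
set_option linter.unusedSectionVars false

open Cfsg

namespace CfsgLib.Extraspecial

variable {G : Type*} [Group G] [Finite G]

/-- An extraspecial `F*(C(z))` gives a `Setting`. -/
theorem Setting.of_fStar {z : G} (hz : orderOf z = 2) (Q : Subgroup G)
    (hF : (generalizedFittingSubgroup ↥(Subgroup.centralizer ({z} : Set G))).map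
      (Subgroup.centralizer ({z} : Set G)).subtype = Q)
    (hQ : IsExtraspecial 2 ↥Q) : Setting Q z := by
  haveI := Fact.mk Nat.prime_two
  set C := Subgroup.centralizer ({z} : Set G) with hC
  have hQC : Q ≤ C := hF ▸ Subgroup.map_subtype_le _
  have hzC : z ∈ C := Subgroup.mem_centralizer_singleton_iff.mpr rfl
  have hin : ∀ x (hx : x ∈ C), (∀ q ∈ Q, q * x = x * q) → x ∈ Q := by
    intro x hx h
    rw [← hF]
    refine ⟨⟨x, hx⟩, CfsgLib.Layer.centralizer_generalizedFitting_le ?_, rfl⟩
    exact Subgroup.mem_centralizer_iff.mpr fun q hq => Subtype.ext (h q (hF ▸ ⟨q, hq, rfl⟩))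
  have hzQ : z ∈ Q := hin z hzC fun q hq => Subgroup.mem_centralizer_singleton_iff.mp (hQC hq)
  have hzc : (⟨z, hzQ⟩ : Q) ∈ Subgroup.center Q :=
    Subgroup.mem_center_iff.mpr fun q => Subtype.ext (Subgroup.mem_centralizer_singleton_iff.mp (hQC q.2))
  have hce : Subgroup.center Q = Subgroup.zpowers (⟨z, hzQ⟩ : Q) := by
    refine (Subgroup.eq_of_le_of_card_ge (Subgroup.zpowers_le.mpr hzc) ?_).symm
    rw [Nat.card_zpowers, Subgroup.orderOf_mk, hz, hQ.2]
  have hcen : (Subgroup.center Q).map Q.subtype = Subgroup.zpowers z := by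
    rw [hce, MonoidHom.map_zpowers]; rfl
  refine ⟨hQ, hcen, hz, le_antisymm (fun x hx => ?_) (Subgroup.zpowers_le.mpr ?_), fun x hx => ?_⟩
  · rw [Subgroup.mem_centralizer_iff] at hx
    have hxQ := hin x (Subgroup.mem_centralizer_singleton_iff.mpr (hx z hzQ).symm) hx
    exact hcen.le ⟨⟨x, hxQ⟩, Subgroup.mem_center_iff.mpr fun q => Subtype.ext (hx q q.2), rfl⟩
  · exact Subgroup.mem_centralizer_iff.mpr fun q hq => Subgroup.mem_centralizer_singleton_iff.mp (hQC hq)
  · haveI : (generalizedFittingSubgroup ↥C).Normal := CfsgLib.Layer.generalizedFitting_normal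
    have h := Subgroup.le_normalizer_map (H := generalizedFittingSubgroup ↥C) C.subtype
      (⟨⟨x, hx⟩, by rw [Subgroup.normalizer_eq_top]; exact Subgroup.mem_top _, rfl⟩ :
        x ∈ (Subgroup.normalizer (generalizedFittingSubgroup ↥C : Set ↥C)).map C.subtype)
    rwa [hF] at h

end CfsgLib.Extraspecial
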