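import Cfsg.Agent.Lib.Extraspecial.Setting

/-!
# Two commuting conjugates of the centre of a large extraspecial two-group

`Pair Q z g`: `Setting Q z`, the conjugate `z' = g z g⁻¹ ≠ z` lies in `Q` and `16 ≤ |Q|`.  With
`V = ⟨z, z'⟩`, `X = ⟨Q, Q'⟩` and `R = C_Q(z') C_{Q'}(z)`: `X` induces the symmetric group on `V#`
with kernel `R`.
-/

set_option autoImplicit false
set_option linter.style.haveILetI false
set_option linter.unusedSectionVars false

open Cfsg

namespace CfsgLib.Extraspecial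

variable {G : Type*} [Group G] [Finite G]

/-- Two distinct commuting conjugates. -/
structure Pair (Q : Subgroup G) (z g : G) : Prop where
  s : Setting Q z
  mem : g * z * g⁻¹ ∈ Q
  ne : g * z * g⁻¹ ≠ z
  big : 16 ≤ Nat.card Q

namespace Pair

variable {Q : Subgroup G} {z g : G} (c : Pair Q z g)

local notation "z'" => g * z * g⁻¹
local notation "Q'" => Subgroup.map (MulEquiv.toMonoidHom (MulAut.conj g)) Q

/-- `C_Q(z')`. -/
def P (Q : Subgroup G) (z g : G) : Subgroup G := Q ⊓ Subgroup.centralizer ({g * z * g⁻¹} : Set G)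

/-- `C_{Q'}(z)`. -/
def P' (Q : Subgroup G) (z g : G) : Subgroup G :=
  Q.map (MulAut.conj g).toMonoidHom ⊓ Subgroup.centralizer ({z} : Set G)

/-- The four-group `⟨z, z'⟩`. -/
def V (z g : G) : Subgroup G := Subgroup.closure ({z, g * z * g⁻¹} : Set G)

/-- `⟨Q, Q'⟩`. -/
def X (Q : Subgroup G) (g : G) : Subgroup G := Q ⊔ Q.map (MulAut.conj g).toMonoidHom

/-- `C_{Q'}(z) C_Q(z')`. -/
def R (Q : Subgroup G) (z g : G) : Subgroup G := P' Q z g ⊔ P Q z g

include c

theorem s' : Setting Q' z' := c.s.conj g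

theorem comm : z * z' = z' * z := (c.s.z_comm c.mem).symm

theorem mem' : z ∈ Q' := c.s.conj_center_mem c.mem c.ne c.big

theorem ne_one' : z' ≠ 1 := c.s'.ne_one

theorem mul_ne_one : z * z' ≠ 1 := fun h => c.ne ((eq_inv_of_mul_eq_one_right h).trans c.s.inv_z)

theorem mul_ne_left : z * z' ≠ z := fun h => c.ne_one' (mul_eq_left.mp h)

theorem mul_ne_right : z * z' ≠ z' := fun h => c.s.ne_one (mul_eq_right.mp h)

theorem map_back : (Subgroup.map (MulEquiv.toMonoidHom (MulAut.conj g⁻¹)) Q') = Q := by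
  rw [Subgroup.map_map]
  conv_rhs => rw [← Subgroup.map_id Q]
  congr 1
  ext x
  simp [mul_assoc]

theorem symm : Pair Q' z' g⁻¹ := by
  have e : g⁻¹ * z' * g⁻¹⁻¹ = z := by group
  refine ⟨c.s', e.symm ▸ c.mem', fun h => c.ne (h.symm.trans e), ?_⟩
  rw [← Nat.card_congr (Q.equivMapOfInjective _ (MulAut.conj g).injective).toEquiv]
  exact c.big

theorem exists_swap : ∃ u ∈ Q, u * z * u⁻¹ = z ∧ u * z' * u⁻¹ = z * z' ∧ u * (z * z') * u⁻¹ = z' := by
  obtain ⟨u, hu, h⟩ := c.s.exists_move c.mem c.ne_one' c.ne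
  have h1 : u * z * u⁻¹ = z := by rw [c.s.z_comm hu, mul_inv_cancel_right]
  refine ⟨u, hu, h1, h, ?_⟩
  calc u * (z * z') * u⁻¹ = (u * z * u⁻¹) * (u * z' * u⁻¹) := by group
    _ = _ := by rw [h1, h, ← mul_assoc, c.s.zz, one_mul]

theorem exists_swap' :
    ∃ u ∈ Q', u * z' * u⁻¹ = z' ∧ u * z * u⁻¹ = z * z' ∧ u * (z * z') * u⁻¹ = z := by
  obtain ⟨u, hu, h⟩ := c.s'.exists_move c.mem' c.s.ne_one c.ne.symm
  have h1 : u * z' * u⁻¹ = z' := by rw [c.s'.z_comm hu, mul_inv_cancel_right]
  rw [← c.comm] at h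
  refine ⟨u, hu, h1, h, ?_⟩
  calc u * (z * z') * u⁻¹ = (u * z * u⁻¹) * (u * z' * u⁻¹) := by group
    _ = _ := by rw [h1, h, mul_assoc, c.s'.zz, mul_one]

/-- The third conjugate of `Q` computed in two ways. -/
theorem third {u u' : G} (hu : u * z' * u⁻¹ = z * z') (hu' : u' * z * u'⁻¹ = z * z') :
    Q.map (MulAut.conj u').toMonoidHom = (Subgroup.map (MulEquiv.toMonoidHom (MulAut.conj u)) Q') := by
  rw [c.s.map_eq (a := u') (b := u * g) (by rw [hu', ← hu]; group), Subgroup.map_map]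
  congr 1
  ext x
  simp [mul_assoc]

theorem mem_V {x : G} : x ∈ V z g ↔ x = 1 ∨ x = z ∨ x = z' ∨ x = z * z' := by
  constructor
  · intro hx
    induction hx using Subgroup.closure_induction with
    | mem x hx =>
      rcases hx with rfl | rfl <;> simp
    | one => simp
    | mul x y _ _ hx hy =>
      have e1 : z' * z = z * z' := c.comm.symm
      have e2 : z * (z * z') = z' := by rw [← mul_assoc, c.s.zz, one_mul]
      have e3 : z' * (z * z') = z := by rw [← mul_assoc, e1, mul_assoc, c.s'.zz, mul_one]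
      have e4 : z * z' * z = z' := by rw [mul_assoc, e1, e2]
      have e5 : z * z' * z' = z := by rw [mul_assoc, c.s'.zz, mul_one]
      have e6 : z * z' * (z * z') = 1 := by rw [mul_assoc, e3, c.s.zz]
      rcases hx with rfl | rfl | rfl | rfl <;> rcases hy with rfl | rfl | rfl | rfl <;>
        simp only [one_mul, mul_one, c.s.zz, c.s'.zz, e1, e2, e3, e4, e5, e6, true_or, or_true]
    | inv x _ hx =>
      have e6 : (z * z')⁻¹ = z * z' := by rw [mul_inv_rev, c.s.inv_z, c.s'.inv_z, c.comm]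
      rcases hx with rfl | rfl | rfl | rfl <;>
        simp only [inv_one, c.s.inv_z, c.s'.inv_z, e6, true_or, or_true]
  · rintro (rfl | rfl | rfl | rfl)
    · exact one_mem _
    · exact Subgroup.subset_closure (by simp)
    · exact Subgroup.subset_closure (by simp)
    · exact mul_mem (Subgroup.subset_closure (by simp)) (Subgroup.subset_closure (by simp))

theorem V_le : V z g ≤ Q := (Subgroup.closure_le Q).mpr (by
  rintro x (rfl | rfl)
  · exact c.s.z_mem
  · exact c.mem)

theorem mem_centralizer_V {x : G} :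
    x ∈ Subgroup.centralizer (V z g : Set G) ↔ x * z = z * x ∧ x * z' = z' * x := by
  rw [Subgroup.mem_centralizer_iff]
  refine ⟨fun h => ⟨(h z (c.mem_V.mpr (by simp))).symm, (h z' (c.mem_V.mpr (by simp))).symm⟩,
    fun ⟨h1, h2⟩ v hv => ?_⟩
  rcases c.mem_V.mp hv with rfl | rfl | rfl | rfl
  · rw [one_mul, mul_one]
  · exact h1.symm
  · exact h2.symm
  · rw [mul_assoc, ← h2, ← mul_assoc, ← h1, mul_assoc]

theorem centralizer_V_eq : Subgroup.centralizer (V z g : Set G) =
    Subgroup.centralizer ({z} : Set G) ⊓ Subgroup.centralizer ({z'} : Set G) := by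
  ext x
  rw [c.mem_centralizer_V, Subgroup.mem_inf, Subgroup.mem_centralizer_singleton_iff,
    Subgroup.mem_centralizer_singleton_iff]

theorem centralizer_V_le : Subgroup.centralizer (V z g : Set G) ≤ Subgroup.normalizer (Q : Set G) ⊓
    Subgroup.normalizer (Q' : Set G) := by
  rw [c.centralizer_V_eq]
  exact inf_le_inf c.s.cz c.s'.cz

theorem Q_le_normalizer : Q ≤ Subgroup.normalizer (V z g : Set G) := by
  have key : ∀ q ∈ Q, ∀ v ∈ V z g, q * v * q⁻¹ ∈ V z g := by
    intro q hq v hv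
    rcases c.s.comm_cases hq (c.V_le hv) with h | h <;> rw [h]
    · exact hv
    · exact mul_mem (c.mem_V.mpr (by simp)) hv
  intro q hq
  rw [Subgroup.mem_normalizer_iff]
  refine fun v => ⟨key q hq v, fun h => ?_⟩
  have := key q⁻¹ (Q.inv_mem hq) _ h
  simpa [mul_assoc] using this

theorem symm_V : V z' g⁻¹ = V z g := by
  unfold V
  rw [show g⁻¹ * z' * g⁻¹⁻¹ = z by group, Set.pair_comm]

theorem X_le_normalizer : X Q g ≤ Subgroup.normalizer (V z g : Set G) :=
  sup_le c.Q_le_normalizer (c.symm_V ▸ c.symm.Q_le_normalizer)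

theorem centralizer_le_normalizer_X :
    Subgroup.centralizer (V z g : Set G) ≤ Subgroup.normalizer (X Q g : Set G) := fun x hx => by
  obtain ⟨h1, h2⟩ := Subgroup.mem_inf.mp (c.centralizer_V_le hx)
  have e : (X Q g).map (MulAut.conj x).toMonoidHom = X Q g := by
    rw [X, Subgroup.map_sup, c.s.map_eq_of_mem h1, c.s'.map_eq_of_mem h2]
  rw [Subgroup.mem_normalizer_iff]
  intro y
  constructor
  · exact fun hy => e.le ⟨y, hy, rfl⟩
  · intro hy
    obtain ⟨w, hw, hwy⟩ := e.ge hy
    rw [MulEquiv.coe_toMonoidHom, MulAut.conj_apply] at hwy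
    rwa [← mul_left_cancel (mul_right_cancel hwy)]

theorem P_le_centralizer : P Q z g ≤ Subgroup.centralizer (V z g : Set G) := fun _ hx =>
  c.mem_centralizer_V.mpr ⟨c.s.z_comm hx.1, Subgroup.mem_centralizer_singleton_iff.mp hx.2⟩

theorem P'_le_centralizer : P' Q z g ≤ Subgroup.centralizer (V z g : Set G) := fun _ hx =>
  c.mem_centralizer_V.mpr ⟨Subgroup.mem_centralizer_singleton_iff.mp hx.2, c.s'.z_comm hx.1⟩

theorem R_le_centralizer : R Q z g ≤ Subgroup.centralizer (V z g : Set G) :=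
  sup_le c.P'_le_centralizer c.P_le_centralizer

theorem mem_P_iff {x : G} (hx : x ∈ Q) : x ∈ P Q z g ↔ x * z' * x⁻¹ = z' := by
  rw [P, Subgroup.mem_inf, Subgroup.mem_centralizer_singleton_iff, mul_inv_eq_iff_eq_mul]
  exact and_iff_right hx

theorem mem_P'_iff {x : G} (hx : x ∈ Q') : x ∈ P' Q z g ↔ x * z * x⁻¹ = z := by
  rw [P', Subgroup.mem_inf, Subgroup.mem_centralizer_singleton_iff, mul_inv_eq_iff_eq_mul]
  exact and_iff_right hx

theorem Q_split {u q : G} (hu : u ∈ Q) (huz : u * z' * u⁻¹ = z * z') (hq : q ∈ Q) :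
    q ∈ P Q z g ∨ u⁻¹ * q ∈ P Q z g := by
  rcases c.s.comm_cases hq c.mem with h | h
  · exact Or.inl ((c.mem_P_iff hq).mpr h)
  · refine Or.inr ((c.mem_P_iff (Q.mul_mem (Q.inv_mem hu) hq)).mpr ?_)
    calc u⁻¹ * q * z' * (u⁻¹ * q)⁻¹ = u⁻¹ * (q * z' * q⁻¹) * u := by group
      _ = u⁻¹ * (u * z' * u⁻¹) * u := by rw [h, huz]
      _ = _ := by group

theorem P_conj {q x : G} (hq : q ∈ Q) (hx : x ∈ P Q z g) : q * x * q⁻¹ ∈ P Q z g := by
  rcases c.s.comm_cases hq hx.1 with h | h <;> rw [h]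
  · exact hx
  · refine mul_mem ?_ hx
    exact (c.mem_P_iff c.s.z_mem).mpr (by rw [c.comm, mul_inv_cancel_right])

theorem Q_le_normalizer_R : Q ≤ Subgroup.normalizer (R Q z g : Set G) := by
  have key : ∀ q ∈ Q, ∀ x ∈ R Q z g, q * x * q⁻¹ ∈ R Q z g := by
    intro q hq x hx
    have hqV := c.Q_le_normalizer hq
    suffices R Q z g ≤ (R Q z g).comap (MulAut.conj q).toMonoidHom from this hx
    refine sup_le (fun r hr => ?_) fun p hp => Subgroup.mem_sup_right (c.P_conj hq hp)
    show q * r * q⁻¹ ∈ R Q z g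
    have hrC := c.P'_le_centralizer hr
    have h1 : r⁻¹ * (q * r * q⁻¹) ∈ P Q z g := by
      have hQ : r⁻¹ * (q * r * q⁻¹) ∈ Q := by
        have hrQ := (Subgroup.mem_inf.mp (c.centralizer_V_le hrC)).1
        have h2 := (Subgroup.mem_normalizer_iff.mp (inv_mem hrQ) q).mp hq
        have := Q.mul_mem h2 (Q.inv_mem hq)
        simpa [mul_assoc] using this
      have hC : r⁻¹ * (q * r * q⁻¹) ∈ Subgroup.centralizer (V z g : Set G) := by
        refine mul_mem (inv_mem hrC) ?_
        rw [Subgroup.mem_centralizer_iff]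
        intro v hv
        have hv' : q⁻¹ * v * q ∈ V z g := by
          have := (Subgroup.mem_normalizer_iff.mp (inv_mem hqV) v).mp hv
          rwa [inv_inv] at this
        have h3 := Subgroup.mem_centralizer_iff.mp hrC _ hv'
        calc v * (q * r * q⁻¹) = q * (q⁻¹ * v * q * r) * q⁻¹ := by group
          _ = q * (r * (q⁻¹ * v * q)) * q⁻¹ := by rw [h3]
          _ = _ := by group
      exact ⟨hQ, Subgroup.mem_centralizer_singleton_iff.mpr (c.mem_centralizer_V.mp hC).2⟩
    rw [show q * r * q⁻¹ = r * (r⁻¹ * (q * r * q⁻¹)) by group]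
    exact mul_mem (Subgroup.mem_sup_left hr) (Subgroup.mem_sup_right h1)
  intro q hq
  rw [Subgroup.mem_normalizer_iff]
  refine fun x => ⟨key q hq x, fun h => ?_⟩
  have := key q⁻¹ (Q.inv_mem hq) _ h
  simpa [mul_assoc] using this

theorem symm_P : P Q' z' g⁻¹ = P' Q z g := by
  unfold P P'
  rw [show g⁻¹ * z' * g⁻¹⁻¹ = z by group]

theorem symm_P' : P' Q' z' g⁻¹ = P Q z g := by
  unfold P P'
  rw [c.map_back]

theorem symm_R : R Q' z' g⁻¹ = R Q z g := by
  unfold R
  rw [c.symm_P, c.symm_P', sup_comm]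

theorem symm_X : X Q' g⁻¹ = X Q g := by
  unfold X
  rw [c.map_back, sup_comm]

theorem X_le_normalizer_R : X Q g ≤ Subgroup.normalizer (R Q z g : Set G) :=
  sup_le c.Q_le_normalizer_R (c.symm_R ▸ c.symm.Q_le_normalizer_R)

theorem R_le_X : R Q z g ≤ X Q g :=
  sup_le (inf_le_left.trans le_sup_right) (inf_le_left.trans le_sup_left)

/-- The three involutions of `V`. -/
def three (z g : G) : Fin 3 → G := ![z, g * z * g⁻¹, z * (g * z * g⁻¹)]

theorem three_mem (i : Fin 3) : three z g i ∈ V z g ∧ three z g i ≠ 1 := by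
  fin_cases i
  · exact ⟨c.mem_V.mpr (Or.inr (Or.inl rfl)), c.s.ne_one⟩
  · exact ⟨c.mem_V.mpr (Or.inr (Or.inr (Or.inl rfl))), c.ne_one'⟩
  · exact ⟨c.mem_V.mpr (Or.inr (Or.inr (Or.inr rfl))), c.mul_ne_one⟩

theorem three_bij : Function.Bijective
    (fun i : Fin 3 => (⟨three z g i, c.three_mem i⟩ : {v : G // v ∈ V z g ∧ v ≠ 1})) := by
  constructor
  · intro i j h
    have h' : three z g i = three z g j := congrArg Subtype.val h
    have h1 := c.ne
    have h2 := c.mul_ne_left
    have h3 := c.mul_ne_right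
    fin_cases i <;> fin_cases j <;> simp only [three] at h' <;>
      first
      | rfl
      | exact absurd h' h1 | exact absurd h'.symm h1
      | exact absurd h' h2 | exact absurd h'.symm h2
      | exact absurd h' h3 | exact absurd h'.symm h3
  · rintro ⟨v, hv, hv1⟩
    rcases c.mem_V.mp hv with rfl | rfl | rfl | rfl
    · exact absurd rfl hv1
    · exact ⟨0, rfl⟩
    · exact ⟨1, rfl⟩
    · exact ⟨2, rfl⟩

/-- The action of `N(V)` on the three involutions. -/
noncomputable def permHom : ↥(Subgroup.normalizer (V z g : Set G)) →* Equiv.Perm (Fin 3) where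
  toFun n :=
    (Equiv.ofBijective _ c.three_bij).trans
      (({ toFun := fun v => ⟨(n : G) * v.1 * (n : G)⁻¹, (Subgroup.mem_normalizer_iff.mp n.2 v.1).mp v.2.1,
              fun h => v.2.2 (conj_eq_one_iff.mp h)⟩
          invFun := fun v => ⟨(n : G)⁻¹ * v.1 * (n : G), by
              have := (Subgroup.mem_normalizer_iff.mp (inv_mem n.2) v.1).mp v.2.1
              rwa [inv_inv] at this,
              fun h => v.2.2 (by
                have := congrArg (fun w => (n : G) * w * (n : G)⁻¹) h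
                simpa [mul_assoc] using this)⟩
          left_inv := fun v => Subtype.ext (by simp [mul_assoc])
          right_inv := fun v => Subtype.ext (by simp [mul_assoc]) } :
        {v : G // v ∈ V z g ∧ v ≠ 1} ≃ {v : G // v ∈ V z g ∧ v ≠ 1}).trans
      (Equiv.ofBijective _ c.three_bij).symm)
  map_one' := by
    ext i
    simp only [Equiv.trans_apply, Equiv.coe_fn_mk, Equiv.Perm.one_apply]
    congr 1
    rw [Equiv.symm_apply_eq]
    exact Subtype.ext (by simp)
  map_mul' n m := by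
    ext i
    simp only [Equiv.trans_apply, Equiv.coe_fn_mk, Equiv.Perm.mul_apply, Equiv.apply_symm_apply]
    congr 2
    exact Subtype.ext (by simp [mul_assoc])

theorem permHom_spec (n : ↥(Subgroup.normalizer (V z g : Set G))) (i : Fin 3) :
    three z g (c.permHom n i) = (n : G) * three z g i * (n : G)⁻¹ := by
  have h := (Equiv.ofBijective _ c.three_bij).apply_symm_apply
    ⟨(n : G) * three z g i * (n : G)⁻¹, (Subgroup.mem_normalizer_iff.mp n.2 _).mp (c.three_mem i).1,
      fun h => (c.three_mem i).2 (conj_eq_one_iff.mp h)⟩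
  exact congrArg Subtype.val h

theorem permHom_eq (n : ↥(Subgroup.normalizer (V z g : Set G))) {i j : Fin 3}
    (h : (n : G) * three z g i * (n : G)⁻¹ = three z g j) : c.permHom n i = j :=
  c.three_bij.1 (Subtype.ext ((c.permHom_spec n i).trans h))

theorem permHom_eq_one_iff (n : ↥(Subgroup.normalizer (V z g : Set G))) :
    c.permHom n = 1 ↔ (n : G) ∈ Subgroup.centralizer (V z g : Set G) := by
  rw [c.mem_centralizer_V, Equiv.ext_iff]
  constructor
  · intro h
    have h0 := c.permHom_spec n 0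
    have h1 := c.permHom_spec n 1
    rw [h 0] at h0
    rw [h 1] at h1
    exact ⟨mul_inv_eq_iff_eq_mul.mp h0.symm, mul_inv_eq_iff_eq_mul.mp h1.symm⟩
  · rintro ⟨h1, h2⟩ i
    refine c.permHom_eq n ?_
    fin_cases i
    · exact mul_inv_eq_iff_eq_mul.mpr h1
    · exact mul_inv_eq_iff_eq_mul.mpr h2
    · show (n : G) * (z * z') * (n : G)⁻¹ = z * z'
      rw [mul_inv_eq_iff_eq_mul, ← mul_assoc, h1, mul_assoc z (n : G), h2, ← mul_assoc]

omit c in
/-- Two different transpositions generate. -/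
theorem perm_three (H : Subgroup (Equiv.Perm (Fin 3))) (h1 : Equiv.swap 1 2 ∈ H)
    (h2 : Equiv.swap 0 2 ∈ H) : H = ⊤ := by
  have key : ∀ σ : Equiv.Perm (Fin 3), σ = 1 ∨ σ = Equiv.swap 1 2 ∨ σ = Equiv.swap 0 2 ∨
      σ = Equiv.swap 1 2 * Equiv.swap 0 2 ∨ σ = Equiv.swap 0 2 * Equiv.swap 1 2 ∨
      σ = Equiv.swap 1 2 * Equiv.swap 0 2 * Equiv.swap 1 2 := by decide
  rw [eq_top_iff]
  intro σ _
  rcases key σ with rfl | rfl | rfl | rfl | rfl | rfl
  exacts [one_mem _, h1, h2, mul_mem h1 h2, mul_mem h2 h1, mul_mem (mul_mem h1 h2) h1]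

/-- Every permutation of the involutions is induced by `X`. -/
theorem exists_perm (σ : Equiv.Perm (Fin 3)) : ∃ (x : G) (hx : x ∈ X Q g),
    c.permHom ⟨x, c.X_le_normalizer hx⟩ = σ := by
  let f : X Q g →* Equiv.Perm (Fin 3) := c.permHom.comp (Subgroup.inclusion c.X_le_normalizer)
  obtain ⟨u, hu, hu1, hu2, hu3⟩ := c.exists_swap
  obtain ⟨v, hv, hv1, hv2, hv3⟩ := c.exists_swap'
  have h1 : Equiv.swap 1 2 ∈ f.range := ⟨⟨u, Subgroup.mem_sup_left hu⟩, Equiv.ext fun i => by
    fin_cases i <;> refine c.permHom_eq _ ?_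
    · exact hu1
    · exact hu2
    · exact hu3⟩
  have h2 : Equiv.swap 0 2 ∈ f.range := ⟨⟨v, Subgroup.mem_sup_right hv⟩, Equiv.ext fun i => by
    fin_cases i <;> refine c.permHom_eq _ ?_
    · exact hv2
    · exact hv1
    · exact hv3⟩
  obtain ⟨⟨x, hx⟩, hxσ⟩ := (perm_three _ h1 h2).ge (Subgroup.mem_top σ)
  exact ⟨x, hx, hxσ⟩

theorem normalizer_V_eq : Subgroup.normalizer (V z g : Set G) =
    X Q g ⊔ Subgroup.centralizer (V z g : Set G) := by
  refine le_antisymm (fun n hn => ?_) (sup_le c.X_le_normalizer (Subgroup.centralizer_le_normalizer _))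
  obtain ⟨x, hx, hxn⟩ := c.exists_perm (c.permHom ⟨n, hn⟩)
  have h1 : c.permHom (⟨x, c.X_le_normalizer hx⟩⁻¹ * ⟨n, hn⟩) = 1 := by
    rw [map_mul, map_inv, hxn, inv_mul_cancel]
  rw [c.permHom_eq_one_iff] at h1
  have := mul_mem (Subgroup.mem_sup_left (T := Subgroup.centralizer (V z g : Set G)) hx)
    (Subgroup.mem_sup_right (S := X Q g) h1)
  simpa using this

theorem normalizer_V_le_normalizer_X :
    Subgroup.normalizer (V z g : Set G) ≤ Subgroup.normalizer (X Q g : Set G) := by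
  rw [c.normalizer_V_eq]
  exact sup_le Subgroup.le_normalizer c.centralizer_le_normalizer_X

theorem relIndex_centralizer_V :
    (Subgroup.centralizer (V z g : Set G)).relIndex (Subgroup.normalizer (V z g : Set G)) = 6 := by
  have hk : (Subgroup.centralizer (V z g : Set G)).subgroupOf (Subgroup.normalizer (V z g : Set G)) =
      c.permHom.ker := by
    ext n
    rw [Subgroup.mem_subgroupOf, MonoidHom.mem_ker, c.permHom_eq_one_iff]
  have hs : Function.Surjective c.permHom := fun σ => by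
    obtain ⟨x, hx, h⟩ := c.exists_perm σ
    exact ⟨_, h⟩
  rw [Subgroup.relIndex, hk, Subgroup.index_ker, MonoidHom.range_eq_top.mpr hs, Subgroup.card_top,
    Nat.card_eq_fintype_card]
  decide

omit c in
/-- A group generated by two involutions satisfying the braid relation has at most six elements. -/
theorem card_le_six {K : Type*} [Group K] (a b : K) (ha : a * a = 1) (hb : b * b = 1)
    (hab : b * a * b = a * b * a) (hgen : Subgroup.closure ({a, b} : Set K) = ⊤) : Nat.card K ≤ 6 := by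
  classical
  let l : List K := [1, a, b, a * b, b * a, a * b * a]
  have hmul : ∀ s ∈ ({a, b} : Set K), ∀ w ∈ l, s * w ∈ l := by
    intro s hs w hw
    simp only [l, List.mem_cons, List.not_mem_nil, or_false] at hw ⊢
    have e1 : a * (a * b) = b := by rw [← mul_assoc, ha, one_mul]
    have e2 : b * (b * a) = a := by rw [← mul_assoc, hb, one_mul]
    have e3 : a * (a * b * a) = b * a := by rw [← mul_assoc, ← mul_assoc, ha, one_mul]
    have e4 : b * (a * b * a) = a * b := by
      rw [← hab, ← mul_assoc, ← mul_assoc, hb, one_mul]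
    have e5 : b * (a * b) = a * b * a := by rw [← mul_assoc, hab]
    have e6 : a * (b * a) = a * b * a := by rw [mul_assoc]
    rcases hs with rfl | rfl <;> rcases hw with rfl | rfl | rfl | rfl | rfl | rfl <;>
      simp only [mul_one, ha, hb, e1, e2, e3, e4, e5, e6, true_or, or_true]
  have hall : ∀ x : K, x ∈ l := by
    intro x
    induction (hgen.ge (Subgroup.mem_top x)) using Subgroup.closure_induction_left with
    | one => simp [l]
    | mul_left s hs y _ hy => exact hmul s hs y hy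
    | inv_mul_cancel s hs y _ hy =>
      have e : s⁻¹ = s := inv_eq_of_mul_eq_one_right (by rcases hs with rfl | rfl <;> assumption)
      rw [e]
      exact hmul s hs y hy
  have : Fintype K := ⟨l.toFinset, fun x => List.mem_toFinset.mpr (hall x)⟩
  rw [Nat.card_eq_fintype_card, ← Finset.card_univ]
  calc (Finset.univ : Finset K).card ≤ l.toFinset.card :=
        Finset.card_le_card fun x _ => List.mem_toFinset.mpr (hall x)
    _ ≤ l.length := List.toFinset_card_le l
    _ = 6 := rfl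

theorem R_eq : R Q z g = X Q g ⊓ Subgroup.centralizer (V z g : Set G) := by
  classical
  set Xs := X Q g with hXs
  set K : Subgroup Xs := (Subgroup.centralizer (V z g : Set G)).subgroupOf Xs with hK
  set R0 : Subgroup Xs := (R Q z g).subgroupOf Xs with hR0
  haveI : R0.Normal := (Subgroup.normal_subgroupOf_iff_le_normalizer c.R_le_X).mpr c.X_le_normalizer_R
  -- the index of the kernel
  let f : Xs →* Equiv.Perm (Fin 3) := c.permHom.comp (Subgroup.inclusion c.X_le_normalizer)
  have hfk : f.ker = K := by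
    ext x
    rw [MonoidHom.mem_ker, hK, Subgroup.mem_subgroupOf]
    exact c.permHom_eq_one_iff _
  have hK6 : K.index = 6 := by
    have hs : Function.Surjective f := fun σ => by
      obtain ⟨x, hx, h⟩ := c.exists_perm σ
      exact ⟨⟨x, hx⟩, h⟩
    rw [← hfk, Subgroup.index_ker, MonoidHom.range_eq_top.mpr hs, Subgroup.card_top,
      Nat.card_eq_fintype_card]
    decide
  -- the index of `R`
  obtain ⟨u, hu, hu1, hu2, hu3⟩ := c.exists_swap
  obtain ⟨v, hv, hv1, hv2, hv3⟩ := c.exists_swap'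
  let π := QuotientGroup.mk' R0
  have hπ1 : ∀ x : Xs, (x : G) ∈ R Q z g → π x = 1 := fun x hx =>
    (QuotientGroup.eq_one_iff x).mpr (Subgroup.mem_subgroupOf.mpr hx)
  set uX : Xs := ⟨u, Subgroup.mem_sup_left hu⟩ with huX
  set vX : Xs := ⟨v, Subgroup.mem_sup_right hv⟩ with hvX
  have hzP : z ∈ P Q z g := (c.mem_P_iff c.s.z_mem).mpr (by rw [c.comm, mul_inv_cancel_right])
  have hzP' : z' ∈ P' Q z g :=
    (c.mem_P'_iff c.s'.z_mem).mpr (by rw [← c.comm, mul_inv_cancel_right])
  have hsq : π uX * π uX = 1 := by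
    rw [← map_mul]
    refine hπ1 _ ?_
    show u * u ∈ R Q z g
    rcases c.s.sq_cases hu with h | h <;> rw [h]
    · exact one_mem _
    · exact Subgroup.mem_sup_right hzP
  have hsq' : π vX * π vX = 1 := by
    rw [← map_mul]
    refine hπ1 _ ?_
    show v * v ∈ R Q z g
    rcases c.s'.sq_cases hv with h | h <;> rw [h]
    · exact one_mem _
    · exact Subgroup.mem_sup_left hzP'
  have hQ'split : ∀ q ∈ Q', q ∈ P' Q z g ∨ v⁻¹ * q ∈ P' Q z g := fun q hq =>
    c.symm_P ▸ c.symm.Q_split (u := v) hv (by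
      rw [show g⁻¹ * z' * g⁻¹⁻¹ = z by group, hv2, c.comm]) hq
  have hbraid : π vX * π uX * π vX = π uX * π vX * π uX := by
    have hmem : v * u * v⁻¹ ∈ (Subgroup.map (MulEquiv.toMonoidHom (MulAut.conj u)) Q') := by
      rw [← c.third hu2 hv2]
      exact ⟨u, hu, rfl⟩
    obtain ⟨q, hq, hqe⟩ := hmem
    replace hqe : u * q * u⁻¹ = v * u * v⁻¹ := hqe
    rcases hQ'split q hq with h | h
    · exfalso
      have h1 : q * z * q⁻¹ = z := (c.mem_P'_iff hq).mp h
      have h2 : (v * u * v⁻¹) * z * (v * u * v⁻¹)⁻¹ = z := by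
        rw [← hqe]
        calc u * q * u⁻¹ * z * (u * q * u⁻¹)⁻¹ = u * (q * (u⁻¹ * z * u) * q⁻¹) * u⁻¹ := by group
          _ = u * (q * z * q⁻¹) * u⁻¹ := by
              rw [show u⁻¹ * z * u = z by rw [mul_assoc, ← c.s.z_comm hu, inv_mul_cancel_left]]
          _ = z := by rw [h1, hu1]
      have h3 : v⁻¹ * z * v = z * z' := by
        calc v⁻¹ * z * v = v⁻¹ * (v * (z * z') * v⁻¹) * v := by rw [hv3]
          _ = _ := by group
      have h4 : (v * u * v⁻¹) * z * (v * u * v⁻¹)⁻¹ = z' := by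
        calc (v * u * v⁻¹) * z * (v * u * v⁻¹)⁻¹ = v * (u * (v⁻¹ * z * v) * u⁻¹) * v⁻¹ := by group
          _ = _ := by rw [h3, hu3, hv1]
      exact c.ne (h4.symm.trans h2)
    · have h1 := hπ1 ⟨v⁻¹ * q, mul_mem (inv_mem vX.2) (Subgroup.mem_sup_right hq)⟩ (Subgroup.mem_sup_left h)
      have h2 : π vX * π uX * (π vX)⁻¹ = π uX * π vX * (π uX)⁻¹ := by
        have e : vX * uX * vX⁻¹ = uX * vX * ⟨v⁻¹ * q, mul_mem (inv_mem vX.2) (Subgroup.mem_sup_right hq)⟩ * uX⁻¹ :=
          Subtype.ext (by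
            show v * u * v⁻¹ = u * v * (v⁻¹ * q) * u⁻¹
            rw [← hqe]; group)
        have := congrArg π e
        simpa only [map_mul, map_inv, h1, mul_one] using this
      rwa [inv_eq_of_mul_eq_one_right hsq, inv_eq_of_mul_eq_one_right hsq'] at h2
  have hgen : Subgroup.closure ({π uX, π vX} : Set (Xs ⧸ R0)) = ⊤ := by
    set C := Subgroup.closure ({π uX, π vX} : Set (Xs ⧸ R0))
    rw [eq_top_iff]
    intro w _
    obtain ⟨⟨x, hx⟩, rfl⟩ := QuotientGroup.mk'_surjective R0 w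
    suffices Xs ≤ (C.comap π).map Xs.subtype by
      obtain ⟨y, hy, hyx⟩ := this hx
      rwa [show y = ⟨x, hx⟩ from Subtype.ext hyx] at hy
    refine sup_le (fun q hq => ⟨⟨q, Subgroup.mem_sup_left hq⟩, ?_, rfl⟩)
      fun q hq => ⟨⟨q, Subgroup.mem_sup_right hq⟩, ?_, rfl⟩
    · show π ⟨q, _⟩ ∈ C
      rcases c.Q_split hu hu2 hq with h | h
      · rw [hπ1 _ (Subgroup.mem_sup_right h)]; exact one_mem _
      · have h1 := hπ1 (uX⁻¹ * ⟨q, Subgroup.mem_sup_left hq⟩) (Subgroup.mem_sup_right h)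
        rw [map_mul, map_inv, inv_mul_eq_one] at h1
        rw [← h1]
        exact Subgroup.subset_closure (by simp)
    · show π ⟨q, _⟩ ∈ C
      rcases hQ'split q hq with h | h
      · rw [hπ1 _ (Subgroup.mem_sup_left h)]; exact one_mem _
      · have h1 := hπ1 (vX⁻¹ * ⟨q, Subgroup.mem_sup_right hq⟩) (Subgroup.mem_sup_left h)
        rw [map_mul, map_inv, inv_mul_eq_one] at h1
        rw [← h1]
        exact Subgroup.subset_closure (by simp)
  have h6 : R0.index ≤ 6 := by
    rw [Subgroup.index_eq_card]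
    exact card_le_six _ _ hsq hsq' hbraid hgen
  have hle : R0 ≤ K := fun x hx => c.R_le_centralizer hx
  have heq : R0 = K := by
    refine Subgroup.eq_of_le_of_card_ge hle ?_
    have h1 := R0.card_mul_index
    have h2 := K.card_mul_index
    rw [hK6] at h2
    have h3 : Nat.card R0 * R0.index ≤ Nat.card R0 * 6 := Nat.mul_le_mul_left _ h6
    have h4 : Nat.card K * 6 = Nat.card R0 * R0.index := h2.trans h1.symm
    omega
  ext x
  refine ⟨fun hx => ⟨c.R_le_X hx, c.R_le_centralizer hx⟩, fun hx => ?_⟩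
  have : (⟨x, hx.1⟩ : Xs) ∈ R0 := heq.ge (Subgroup.mem_subgroupOf.mpr hx.2)
  exact Subgroup.mem_subgroupOf.mp this

end Pair

end CfsgLib.Extraspecial
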