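import Cfsg.Agent.Lib.Extraspecial.Pair
import Cfsg.Agent.Lib.FourOrbit.Invol
import Cfsg.Prelude.Def_MonsterType

/-!
# Large extraspecial two-groups and their pairs
-/

set_option autoImplicit false
set_option linter.style.haveILetI false
set_option linter.unusedSectionVars false

open Cfsg

namespace CfsgLib.Extraspecial

variable {G : Type*} [Group G] [Finite G]

theorem Setting.of_large {Q : Subgroup G} (hQ : IsLargeExtraspecial Q) {z : G}
    (hz : (Subgroup.center Q).map Q.subtype = Subgroup.zpowers z) (hz2 : orderOf z = 2) : Setting Q z where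
  ex := hQ.1
  center := hz
  ordz := hz2
  cQ := hQ.2.1.trans hz
  cz := fun x hx => hQ.2.2.1 (by
    rw [hz, Subgroup.mem_centralizer_iff]
    intro v hv
    obtain ⟨n, rfl⟩ := Subgroup.mem_zpowers_iff.mp hv
    exact ((show Commute z x from (Subgroup.mem_centralizer_singleton_iff.mp hx).symm).zpow_left n).eq)

namespace Setting

variable {Q : Subgroup G} {z : G} (s : Setting Q z)
include s

theorem isLargeExtraspecial (h : ∀ K : Subgroup G, Odd (Nat.card K) →
    Q ≤ Subgroup.normalizer (K : Set G) → K = ⊥) : IsLargeExtraspecial Q := by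
  refine ⟨s.ex, s.cQ.trans s.center.symm, fun x hx => s.cz ?_, h⟩
  rw [Subgroup.mem_centralizer_iff] at hx
  exact Subgroup.mem_centralizer_singleton_iff.mpr (hx z (s.center.ge (Subgroup.mem_zpowers z))).symm

/-- An odd order subgroup normalized by `Q` is trivial when, for a noncentral involution `u` of `Q`,
its fixed points under `u` commute with `z`. -/
theorem odd_eq_bot_of {u : G} (hu : u ∈ Q) (huu : u * u = 1) (hu1 : u ≠ 1) (huz : u ≠ z) (K : Subgroup G)
    (hK : Odd (Nat.card K)) (hQK : Q ≤ Subgroup.normalizer (K : Set G))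
    (hfix : ∀ x ∈ K, u * x = x * u → z * x = x * z) : K = ⊥ := by
  have hmeet : ∀ x, x ∈ K → orderOf x ∣ 2 → x = 1 := fun x hx h => by
    rw [← orderOf_eq_one_iff]
    exact Nat.eq_one_of_dvd_coprimes (Nat.coprime_two_right.mpr hK) (K.orderOf_dvd_natCard hx) h
  have hnorm : ∀ q ∈ Q, ∀ x ∈ K, q * x * q⁻¹ ∈ K := fun q hq x hx =>
    (Subgroup.mem_normalizer_iff.mp (hQK hq) x).mp hx
  have hfz : ∀ x ∈ K, z * x = x * z → x = 1 := by
    intro x hx hxz
    have hxN := s.cz (Subgroup.mem_centralizer_singleton_iff.mpr hxz.symm)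
    have hxC : x ∈ Subgroup.centralizer (Q : Set G) := Subgroup.mem_centralizer_iff.mpr fun q hq => by
      rw [← commutatorElement_eq_one_iff_mul_comm, commutatorElement_def]
      obtain ⟨k, hk⟩ := IsPGroup.iff_card.mp s.ex.1.1
      have h1 : q * x * q⁻¹ * x⁻¹ ∈ Q := by
        have := Q.mul_mem hq ((Subgroup.mem_normalizer_iff.mp hxN q⁻¹).mp (Q.inv_mem hq))
        simpa [mul_assoc] using this
      rw [← orderOf_eq_one_iff]
      exact Nat.eq_one_of_dvd_coprimes ((Nat.coprime_two_right.mpr hK).pow_right k)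
        (K.orderOf_dvd_natCard (K.mul_mem (hnorm q hq x hx) (K.inv_mem hx)))
        (hk ▸ Q.orderOf_dvd_natCard h1)
    rw [s.cQ] at hxC
    exact hmeet x hx (by rw [← s.ordz]; exact orderOf_dvd_of_mem_zpowers hxC)
  have hfu : ∀ x ∈ K, u * x = x * u → x = 1 := fun x hx h => hfz x hx (hfix x hx h)
  obtain ⟨w, hw, hwu⟩ := s.exists_move hu hu1 huz
  have hfzu : ∀ x ∈ K, (z * u) * x = x * (z * u) → x = 1 := by
    intro x hx hxz
    refine conj_eq_one_iff.mp (hfu (w⁻¹ * x * w⁻¹⁻¹) (hnorm w⁻¹ (Q.inv_mem hw) x hx) ?_)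
    rw [← hwu] at hxz
    calc u * (w⁻¹ * x * w⁻¹⁻¹) = w⁻¹ * ((w * u * w⁻¹) * x) * w := by group
      _ = w⁻¹ * (x * (w * u * w⁻¹)) * w := by rw [hxz]
      _ = _ := by group
  have hzu : z * u = u * z := (s.z_comm hu).symm
  have hzuu : z * u * (z * u) = 1 := by
    rw [mul_assoc, ← mul_assoc u, ← hzu, mul_assoc z u u, huu, mul_one, s.zz]
  have hinv : ∀ w ∈ Q, w * w = 1 → (∀ x ∈ K, w * x = x * w → x = 1) → ∀ x ∈ K, w * x * w = x⁻¹ :=
    fun w hw hww hf => FourOrbit.inverts_of_fpf hww (fun v hv => by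
      have := hnorm w hw v hv
      rwa [inv_eq_of_mul_eq_one_right hww] at this) hf
  refine (Subgroup.eq_bot_iff_forall _).mpr fun x hx => ?_
  have i1 := hinv z s.z_mem s.zz hfz
  have i2 := hinv u hu huu hfu
  have i3 := hinv _ (Q.mul_mem s.z_mem hu) hzuu hfzu x hx
  have h : z * u * x * (z * u) = x := by
    calc z * u * x * (z * u) = z * u * x * (u * z) := by rw [hzu]
      _ = z * (u * x * u) * z := by group
      _ = z * x⁻¹ * z := by rw [i2 x hx]
      _ = x := by rw [i1 _ (K.inv_mem hx), inv_inv]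
  rw [h, eq_inv_iff_mul_eq_one, ← pow_two] at i3
  exact hmeet x hx (orderOf_dvd_of_pow_eq_one i3)

/-- A nontrivial normal subgroup contains `z`. -/
theorem z_mem_normal (hodd : ∀ K : Subgroup G, Odd (Nat.card K) → Q ≤ Subgroup.normalizer (K : Set G) → K = ⊥)
    (N : Subgroup G) [N.Normal] (hN : N ≠ ⊥) : z ∈ N := by
  haveI := Fact.mk Nat.prime_two
  obtain ⟨T, hQT⟩ := s.ex.1.1.exists_le_sylow
  have hTN : N ⊓ (T : Subgroup G) ≠ ⊥ := by
    intro h
    refine hN (hodd N ?_ (fun q _ => by rw [Subgroup.normalizer_eq_top]; exact Subgroup.mem_top q))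
    by_contra hev
    rw [Nat.not_odd_iff_even, even_iff_two_dvd] at hev
    obtain ⟨x, hx⟩ := exists_prime_orderOf_dvd_card' 2 hev
    have hx' : orderOf (x : G) = 2 := by rw [Subgroup.orderOf_coe, hx]
    obtain ⟨T', hT'⟩ := (IsPGroup.of_card (p := 2) (n := 1)
      (by rw [Nat.card_zpowers, hx', pow_one]) : IsPGroup 2 (Subgroup.zpowers (x : G))).exists_le_sylow
    obtain ⟨γ, hγ⟩ := MulAction.exists_smul_eq G T' T
    have h1 : γ * x * γ⁻¹ ∈ N ⊓ (T : Subgroup G) := by
      refine Subgroup.mem_inf.mpr ⟨(inferInstance : N.Normal).conj_mem _ x.2 γ, ?_⟩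
      rw [← hγ, Sylow.coe_subgroup_smul, Subgroup.mem_pointwise_smul_iff_inv_smul_mem]
      simpa [MulAut.smul_def, mul_assoc] using hT' (Subgroup.mem_zpowers (x : G))
    rw [h, Subgroup.mem_bot, conj_eq_one_iff] at h1
    rw [h1, orderOf_one] at hx'
    exact absurd hx' (by norm_num)
  haveI : Group.IsNilpotent ↥(T : Subgroup G) := T.2.isNilpotent
  haveI : ((N ⊓ (T : Subgroup G)).subgroupOf (T : Subgroup G)).Normal := by
    rw [Subgroup.inf_subgroupOf_right]; infer_instance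
  have h := Critical.inf_center_ne_bot ((N ⊓ (T : Subgroup G)).subgroupOf (T : Subgroup G))
    (fun h => hTN (by
      rw [Subgroup.subgroupOf_eq_bot] at h
      exact disjoint_self.mp (h.mono_right inf_le_right)))
  obtain ⟨⟨x, hx⟩, hx1⟩ := (Subgroup.bot_or_exists_ne_one _).resolve_left h
  have hxN : x ∈ N := (Subgroup.mem_inf.mp (Subgroup.mem_subgroupOf.mp hx1.1.1)).1
  have hxC : x ∈ Subgroup.centralizer (Q : Set G) := Subgroup.mem_centralizer_iff.mpr fun q hq =>
    congrArg Subtype.val (Subgroup.mem_center_iff.mp hx1.1.2 ⟨q, hQT hq⟩)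
  rw [s.cQ] at hxC
  rcases s.mem_zpowers hxC with e | e
  · exact absurd (Subtype.ext e) hx1.2
  · exact e ▸ hxN

/-- A normal subgroup containing `C(z)` is everything. -/
theorem eq_top_of_centralizer_le (N : Subgroup G) [N.Normal]
    (hC : Subgroup.centralizer ({z} : Set G) ≤ N) : N = ⊤ := by
  haveI := Fact.mk Nat.prime_two
  obtain ⟨T, hQT⟩ := s.ex.1.1.exists_le_sylow
  -- the centre of `T` is `⟨z⟩`
  have hTz : ∀ x ∈ (T : Subgroup G), (∀ y ∈ (T : Subgroup G), y * x = x * y) → x = 1 ∨ x = z := by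
    intro x _ h
    refine s.mem_zpowers ?_
    rw [← s.cQ]
    exact Subgroup.mem_centralizer_iff.mpr fun q hq => h q (hQT hq)
  haveI : Group.IsNilpotent ↥(T : Subgroup G) := T.2.isNilpotent
  haveI : Nontrivial ↥(T : Subgroup G) :=
    ⟨⟨⟨z, hQT s.z_mem⟩, 1, fun h => s.ne_one (congrArg Subtype.val h)⟩⟩
  have hnb : Subgroup.center ↥(T : Subgroup G) ≠ ⊥ :=
    (Subgroup.nontrivial_iff_ne_bot _).mp T.2.center_nontrivial
  obtain ⟨⟨x, hxT⟩, hxc, hx1⟩ :=
    (Subgroup.bot_or_exists_ne_one (Subgroup.center ↥(T : Subgroup G))).resolve_left hnb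
  have hcen : ∀ y ∈ (T : Subgroup G), y * z = z * y := by
    intro y hy
    have h := fun y hy => congrArg Subtype.val (Subgroup.mem_center_iff.mp hxc ⟨y, hy⟩)
    rcases hTz x hxT h with e | e
    · exact absurd (Subtype.ext e) hx1
    · exact e ▸ h y hy
  have hTN : (T : Subgroup G) ≤ N := fun y hy => hC (Subgroup.mem_centralizer_singleton_iff.mpr (hcen y hy))
  have hNT : Subgroup.normalizer ((T : Subgroup G) : Set G) ≤ N := by
    intro n hn
    refine hC (Subgroup.mem_centralizer_singleton_iff.mpr ?_)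
    have h1 : n * z * n⁻¹ ∈ (T : Subgroup G) := (Subgroup.mem_normalizer_iff.mp hn z).mp (hQT s.z_mem)
    have h2 : ∀ y ∈ (T : Subgroup G), y * (n * z * n⁻¹) = n * z * n⁻¹ * y := by
      intro y hy
      have h3 : n⁻¹ * y * n ∈ (T : Subgroup G) := by
        have := (Subgroup.mem_normalizer_iff.mp (inv_mem hn) y).mp hy
        rwa [inv_inv] at this
      calc y * (n * z * n⁻¹) = n * (n⁻¹ * y * n * z) * n⁻¹ := by group
        _ = n * (z * (n⁻¹ * y * n)) * n⁻¹ := by rw [hcen _ h3]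
        _ = _ := by group
    rcases hTz _ h1 h2 with e | e
    · exact absurd (conj_eq_one_iff.mp e) s.ne_one
    · exact mul_inv_eq_iff_eq_mul.mp e
  have h := Sylow.normalizer_sup_eq_top (T.subtype hTN)
  rw [Sylow.coe_subtype, Subgroup.map_subgroupOf_eq_of_le hTN] at h
  exact eq_top_iff.mpr (h ▸ sup_le hNT le_rfl)

/-- `C_Q(t)` moves everything outside `⟨t, z⟩`. -/
theorem exists_move_in {t w : G} (ht : t ∈ Q) (ht1 : t ≠ 1) (htz : t ≠ z) (hw : w ∈ Q)
    (hw1 : w ≠ 1) (hwz : w ≠ z) (hwt : w ≠ t) (hwzt : w ≠ z * t) :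
    ∃ x ∈ Q, x * t = t * x ∧ x * w * x⁻¹ = z * w := by
  by_contra h
  push Not at h
  have hwc : ∀ q ∈ Q, q * t = t * q → q * w * q⁻¹ = w := fun q hq hqt =>
    (s.comm_cases hq hw).resolve_right (h q hq hqt)
  obtain ⟨u, hu, hut⟩ := s.exists_move ht ht1 htz
  have hsplit : ∀ q ∈ Q, q * t = t * q ∨ (u⁻¹ * q) * t = t * (u⁻¹ * q) := by
    intro q hq
    rcases s.comm_cases hq ht with e | e
    · exact Or.inl (mul_inv_eq_iff_eq_mul.mp e)
    · refine Or.inr (mul_inv_eq_iff_eq_mul.mp ?_)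
      calc u⁻¹ * q * t * (u⁻¹ * q)⁻¹ = u⁻¹ * (q * t * q⁻¹) * u := by group
        _ = u⁻¹ * (u * t * u⁻¹) * u := by rw [e, hut]
        _ = _ := by group
  have key : ∀ v ∈ Q, (∀ q ∈ Q, q * t = t * q → q * v * q⁻¹ = v) → u * v * u⁻¹ = v → v = 1 ∨ v = z := by
    intro v hv hvc hvu
    refine s.eq_of_forall hv fun q hq => mul_inv_eq_iff_eq_mul.mp ?_
    rcases hsplit q hq with e | e
    · exact hvc q hq e
    · calc q * v * q⁻¹ = u * (u⁻¹ * q * v * (u⁻¹ * q)⁻¹) * u⁻¹ := by group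
        _ = _ := by rw [hvc _ (Q.mul_mem (Q.inv_mem hu) hq) e, hvu]
  rcases s.comm_cases hu hw with e | e
  · rcases key w hw hwc e with e' | e'
    exacts [hw1 e', hwz e']
  · have h2 : u * (w * t⁻¹) * u⁻¹ = w * t⁻¹ := by
      calc u * (w * t⁻¹) * u⁻¹ = (u * w * u⁻¹) * (u * t * u⁻¹)⁻¹ := by group
        _ = z * w * (t⁻¹ * z⁻¹) := by rw [e, hut, mul_inv_rev]
        _ = z * (w * t⁻¹) * z⁻¹ := by group
        _ = _ := by rw [← s.z_comm (Q.mul_mem hw (Q.inv_mem ht)), mul_inv_cancel_right]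
    rcases key _ (Q.mul_mem hw (Q.inv_mem ht)) (fun q hq hqt => by
      calc q * (w * t⁻¹) * q⁻¹ = (q * w * q⁻¹) * (q * t * q⁻¹)⁻¹ := by group
        _ = _ := by rw [hwc q hq hqt, hqt, mul_inv_cancel_right]) h2 with e' | e'
    · exact hwt (mul_inv_eq_one.mp e')
    · exact hwzt (mul_inv_eq_iff_eq_mul.mp e')

end Setting

namespace Pair

variable {Q : Subgroup G} {z g : G} (c : Pair Q z g)
include c

/-- An odd order subgroup normalized by `Q` is trivial. -/
theorem odd_eq_bot (K : Subgroup G) (hK : Odd (Nat.card K))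
    (hQK : Q ≤ Subgroup.normalizer (K : Set G)) : K = ⊥ := by
  refine c.s.odd_eq_bot_of c.mem c.s'.zz c.ne_one' c.ne K hK hQK fun x hx hxz => ?_
  have hxN := c.s'.cz (Subgroup.mem_centralizer_singleton_iff.mpr hxz.symm)
  obtain ⟨k, hk⟩ := IsPGroup.iff_card.mp c.s'.ex.1.1
  rw [← commutatorElement_eq_one_iff_mul_comm, commutatorElement_def, ← orderOf_eq_one_iff]
  have h1 : z * x * z⁻¹ * x⁻¹ ∈ Q.map (MulAut.conj g).toMonoidHom := by
    have := (Q.map (MulAut.conj g).toMonoidHom).mul_mem c.mem'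
      ((Subgroup.mem_normalizer_iff.mp hxN z⁻¹).mp (Subgroup.inv_mem _ c.mem'))
    simpa [mul_assoc] using this
  exact Nat.eq_one_of_dvd_coprimes ((Nat.coprime_two_right.mpr hK).pow_right k)
    (K.orderOf_dvd_natCard (K.mul_mem ((Subgroup.mem_normalizer_iff.mp (hQK c.s.z_mem) x).mp hx) (K.inv_mem hx)))
    (hk ▸ (Q.map (MulAut.conj g).toMonoidHom).orderOf_dvd_natCard h1)

end Pair

end CfsgLib.Extraspecial
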