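import Mathlib
import Cfsg.Agent.Lib.Extraspecial.Uniqueness
import Cfsg.Agent.Lib.PGroup.NormalSub
import Cfsg.Agent.Lib.PGroup.SelfCentralizing

/-!
Basic facts about extraspecial groups.
-/

set_option autoImplicit false
set_option linter.style.haveILetI false

open Cfsg
open scoped commutatorElement

namespace CfsgLib.Extraspecial

universe u

variable {p : ℕ} [hp : Fact p.Prime]

/-- The order is an odd power of `p`. -/
theorem card_eq : ∀ (n : ℕ) (E : Type u) [Group E] [Finite E], IsExtraspecial p E → Nat.card E = n →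
    ∃ m, 1 ≤ m ∧ Nat.card E = p ^ (1 + 2 * m) := by
  intro n
  induction n using Nat.strong_induction_on with
  | _ n ih =>
  intro E _ _ h hn
  obtain ⟨x, hx⟩ := exists_not_central h
  obtain ⟨z, hz, hz1⟩ := exists_center_ne h
  obtain ⟨y, hy⟩ := exists_comm_eq h hz hz1 hx
  have hne : ⁅x, y⁆ ≠ 1 := fun e => hz1 (by rw [← hy, ← commutatorElement_inv, e, inv_one])
  have hc := card_pairC h hne
  rcases pairC_trichotomy h hne with hC | hC
  · exact ⟨1, le_rfl, by rw [hc, hC, h.2]; ring⟩
  · obtain ⟨m, -, hm⟩ := ih _ (by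
      rw [← hn, hc]
      exact lt_mul_of_one_lt_left Nat.card_pos (Nat.one_lt_pow two_ne_zero hp.out.one_lt)) _ hC rfl
    exact ⟨m + 1, by omega, by rw [hc, hm]; ring⟩

/-- A central-valued homomorphism killing the centre is a commutator map. -/
theorem exists_comm_eq_hom : ∀ (n : ℕ) (E : Type u) [Group E] [Finite E], IsExtraspecial p E →
    Nat.card E = n → ∀ χ : E →* E, (∀ g, χ g ∈ Subgroup.center E) →
      (∀ z ∈ Subgroup.center E, χ z = 1) → ∃ g : E, ∀ e, χ e = ⁅g, e⁆ := by
  intro n
  induction n using Nat.strong_induction_on with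
  | _ n ih =>
  intro E _ _ h hn χ hval hkill
  obtain ⟨x, hx⟩ := exists_not_central h
  obtain ⟨z, hz, hz1⟩ := exists_center_ne h
  obtain ⟨y, hy⟩ := exists_comm_eq h hz hz1 hx
  have hne : ⁅x, y⁆ ≠ 1 := fun e => hz1 (by rw [← hy, ← commutatorElement_inv, e, inv_one])
  have hne' : ⁅y, x⁆ ≠ 1 := hy ▸ hz1
  obtain ⟨a, ha⟩ := Subgroup.mem_zpowers_iff.mp ((center_eq h (comm_mem h x y) hne).1.ge (hval y))
  obtain ⟨b, hb⟩ := Subgroup.mem_zpowers_iff.mp ((center_eq h (comm_mem h y x) hne').1.ge (hval x))
  obtain ⟨g₁, hg₁C, hg₁⟩ : ∃ g₁ ∈ pairC x y, ∀ c ∈ pairC x y, χ c = ⁅g₁, c⁆ := by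
    rcases pairC_trichotomy h hne with hC | hC
    · exact ⟨1, one_mem _, fun c hc => by rw [hkill c (hC.le hc), commutatorElement_one_left]⟩
    · have hcv : ∀ c : pairC x y, χ c ∈ pairC x y := fun c => center_le_pairC (hval c)
      let χ' : pairC x y →* pairC x y := (χ.comp (pairC x y).subtype).codRestrict _ hcv
      obtain ⟨g, hg⟩ := ih _ (by
        rw [← hn, card_pairC h hne]
        exact lt_mul_of_one_lt_left Nat.card_pos (Nat.one_lt_pow two_ne_zero hp.out.one_lt)) _ hC rfl
        χ' (fun c => by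
          rw [center_pairC h hne, Subgroup.mem_subgroupOf]; exact hval c)
        (fun c hc => by
          rw [center_pairC h hne, Subgroup.mem_subgroupOf] at hc
          exact Subtype.ext (hkill c hc))
      exact ⟨g, g.2, fun c hc => congrArg Subtype.val (hg ⟨c, hc⟩)⟩
  refine ⟨x ^ a * y ^ b * g₁, fun e => ?_⟩
  obtain ⟨i, j, c, rfl⟩ := surj h hne e
  have key : ∀ w : E, ⁅x ^ a * y ^ b * g₁, w⁆ = ⁅x, w⁆ ^ a * ⁅y, w⁆ ^ b * ⁅g₁, w⁆ := fun w => by
    rw [comm_mul_left h, comm_mul_left h, zpow_comm h, zpow_comm h]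
  have hgx : ⁅x ^ a * y ^ b * g₁, x⁆ = χ x := by
    rw [key, commutatorElement_self, one_zpow, one_mul, (mem_pairC.mp hg₁C).1, mul_one, hb]
  have hgy : ⁅x ^ a * y ^ b * g₁, y⁆ = χ y := by
    rw [key, commutatorElement_self, one_zpow, mul_one, (mem_pairC.mp hg₁C).2, mul_one, ha]
  have hgc : ⁅x ^ a * y ^ b * g₁, (c : E)⁆ = χ c := by
    have e1 : ⁅x, (c : E)⁆ = 1 := commutatorElement_eq_one_iff_mul_comm.mpr
      ((commute_pairC (x := x) (y := y)).1 c c.2)
    have e2 : ⁅y, (c : E)⁆ = 1 := commutatorElement_eq_one_iff_mul_comm.mpr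
      ((commute_pairC (x := x) (y := y)).2 c c.2)
    rw [key, e1, e2, one_zpow, one_zpow, one_mul, one_mul, hg₁ c c.2]
  set g := x ^ a * y ^ b * g₁
  have hright : ∀ u v : E, ⁅g, u * v⁆ = ⁅g, u⁆ * ⁅g, v⁆ := fun u v => by
    rw [show ⁅g, u * v⁆ = ⁅g, u⁆ * (u * ⁅g, v⁆ * u⁻¹) by simp only [commutatorElement_def]; group,
      ← (comm_central h g v u).eq, mul_inv_cancel_right]
  have hT := fun (u : E) (k : ℤ) => map_zpow (MonoidHom.mk' (fun w => ⁅g, w⁆) hright) u k
  rw [hright, hright, show ⁅g, x ^ i⁆ = ⁅g, x⁆ ^ i from hT x i,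
    show ⁅g, y ^ j⁆ = ⁅g, y⁆ ^ j from hT y j, hgx, hgy, hgc, map_mul, map_mul, map_zpow, map_zpow]

variable {E : Type u} [Group E] [Finite E]

/-- An extraspecial group with an abelian subgroup of index `p` has order `p ^ 3`. -/
theorem card_le_of_abelian (h : IsExtraspecial p E) (B : Subgroup E) (hB : IsMulCommutative B)
    (hi : B.index = p) : Nat.card E ≤ p ^ 3 := by
  obtain ⟨x, hx⟩ : ∃ x, x ∉ B := by
    by_contra hall
    push Not at hall
    rw [(Subgroup.eq_top_iff' B).mpr hall, Subgroup.index_top] at hi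
    exact hp.out.one_lt.ne hi
  let φ : B →* E := (leftComm h x).comp B.subtype
  have hle : φ.range ≤ Subgroup.center E := by
    rintro _ ⟨b, rfl⟩
    exact comm_mem h (b : E) x
  have hker : φ.ker.map B.subtype ≤ Subgroup.center E := by
    rintro _ ⟨b, hb, rfl⟩
    have hbx : (b : E) * x = x * b := commutatorElement_eq_one_iff_mul_comm.mp hb
    set D := Subgroup.centralizer ({(b : E)} : Set E)
    have hBD : B ≤ D := fun c hc => Subgroup.mem_centralizer_singleton_iff.mpr
      (congrArg Subtype.val (hB.is_comm.comm ⟨c, hc⟩ b))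
    have hxD : x ∈ D := Subgroup.mem_centralizer_singleton_iff.mpr hbx.symm
    have hD : D = ⊤ := by
      rw [← Subgroup.index_eq_one]
      refine ((Nat.dvd_prime hp.out).mp (hi ▸ Subgroup.index_dvd_of_le hBD)).resolve_right fun e => hx ?_
      have := Subgroup.relIndex_mul_index hBD
      rw [e, hi] at this
      exact Subgroup.relIndex_eq_one.mp
        (Nat.eq_of_mul_eq_mul_right hp.out.pos (this.trans (one_mul p).symm)) hxD
    rw [Subgroup.mem_center_iff]
    exact fun g => Subgroup.mem_centralizer_singleton_iff.mp (hD.ge (Subgroup.mem_top g))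
  have h1 := B.card_mul_index
  have h2 := φ.ker.card_mul_index
  rw [Subgroup.index_ker] at h2
  have h3 : Nat.card φ.ker ≤ p := by
    rw [← Subgroup.card_map_of_injective B.subtype_injective, ← h.2]
    exact Subgroup.card_le_of_le hker
  have h4 : Nat.card φ.range ≤ p := h.2 ▸ Subgroup.card_le_of_le hle
  rw [← h1, hi, ← h2, show p ^ 3 = p * p * p by ring]
  exact Nat.mul_le_mul_right p (Nat.mul_le_mul h3 h4)

/-- A `p`-group of order `p ^ 4` has an abelian subgroup of index `p`. -/
theorem exists_abelian_index {S : Type u} [Group S] [Finite S] (hS : Nat.card S = p ^ 4) :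
    ∃ A : Subgroup S, IsMulCommutative A ∧ A.index = p := by
  have hP : IsPGroup p S := IsPGroup.of_card hS
  haveI := hP.isNilpotent
  obtain ⟨N, hN, -, hNc⟩ := CfsgLib.CyclicMax.exists_normal_le_card_pow hP 2 (j := 2) ⊤ inferInstance
    (by rw [Subgroup.card_top, hS])
  haveI := hN
  obtain ⟨M, hNM, hM3, hNcent⟩ : ∃ M : Subgroup S, N ≤ M ∧ Nat.card M = p ^ 3 ∧
      M ≤ Subgroup.centralizer (N : Set S) := by
    set C := Subgroup.centralizer (N : Set S) with hC
    have hNC : N ≤ C := by
      intro a ha b hb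
      letI := IsPGroup.commGroupOfCardEqPrimeSq hNc
      exact congrArg Subtype.val (mul_comm (⟨b, hb⟩ : N) ⟨a, ha⟩)
    obtain ⟨k, hk⟩ := IsPGroup.iff_card.mp (hP.to_subgroup C)
    have hk3 : 3 ≤ k := by
      by_contra hk2
      have hCN : C = N := (Subgroup.eq_of_le_of_card_ge hNC (by
        rw [hNc, hk]; exact Nat.pow_le_pow_right hp.out.pos (by omega))).symm
      -- the group acts on `N` through an abelian `p`-group of order at most `p`
      have hcl : ⁅N, (⊤ : Subgroup S)⁆ < N := by
        refine lt_of_le_of_ne (Subgroup.commutator_le_left _ _) fun heq => ?_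
        obtain ⟨c, hc⟩ := (Subgroup.isNilpotent_iff_lowerCentralSeries (⊤ : Subgroup S)).mp inferInstance
        have : ∀ i, N ≤ (⊤ : Subgroup S).lowerCentralSeries i := by
          intro i
          induction i with
          | zero => rw [Subgroup.lowerCentralSeries_zero]; exact le_top
          | succ i ih =>
            rw [Subgroup.lowerCentralSeries_succ, ← heq]
            exact Subgroup.commutator_mono ih le_rfl
        have hb := le_bot_iff.mp ((this c).trans hc.le)
        rw [hb, Subgroup.card_bot] at hNc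
        exact (Nat.one_lt_pow two_ne_zero hp.out.one_lt).ne hNc
      obtain ⟨z, hz, hz1⟩ := (N ⊓ Subgroup.center S).bot_or_exists_ne_one.resolve_left
        (CfsgLib.Critical.inf_center_ne_bot N (ne_bot_of_gt hcl))
      obtain ⟨a, ha, haz⟩ : ∃ a ∈ N, a ∉ Subgroup.zpowers z := by
        refine SetLike.not_le_iff_exists.mp fun hle => ?_
        have h1 := Subgroup.card_le_of_le hle
        rw [hNc, Nat.card_zpowers] at h1
        have h2 : orderOf z ≤ p := by
          obtain ⟨i, hi⟩ := IsPGroup.iff_card.mp (hP.to_subgroup (N ⊓ Subgroup.center S))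
          by_contra hgt
          have hle' : N ≤ Subgroup.center S := by
            have : Subgroup.zpowers z = N := Subgroup.eq_of_le_of_card_ge
              (Subgroup.zpowers_le.mpr (Subgroup.mem_inf.mp hz).1) (by
                rw [Nat.card_zpowers, hNc]; exact h1)
            rw [← this]; exact Subgroup.zpowers_le.mpr (Subgroup.mem_inf.mp hz).2
          have : C = ⊤ := eq_top_iff.mpr fun g _ b hb => (Subgroup.mem_center_iff.mp (hle' hb) g).symm
          rw [this, Subgroup.card_top, hS] at hk
          have := Nat.pow_right_injective hp.out.two_le hk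
          omega
        have : p < p ^ 2 := by
          calc p = p ^ 1 := (pow_one p).symm
            _ < p ^ 2 := Nat.pow_lt_pow_right hp.out.one_lt (by norm_num)
        omega
      have hCa : Subgroup.centralizer ({a} : Set S) ≤ C := by
        intro g hg b hb
        set D := N ⊓ Subgroup.centralizer ({g} : Set S) with hD
        have hzD : z ∈ D := ⟨(Subgroup.mem_inf.mp hz).1, Subgroup.mem_centralizer_singleton_iff.mpr
          (Subgroup.mem_center_iff.mp (Subgroup.mem_inf.mp hz).2 g).symm⟩
        have haD : a ∈ D := ⟨ha, Subgroup.mem_centralizer_singleton_iff.mpr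
          (Subgroup.mem_centralizer_singleton_iff.mp hg).symm⟩
        obtain ⟨d, hd⟩ := IsPGroup.iff_card.mp (hP.to_subgroup D)
        have hDN : D = N := by
          refine Subgroup.eq_of_le_of_card_ge inf_le_left ?_
          have hlt : 1 < Nat.card (Subgroup.zpowers z) := by
            rw [Nat.card_zpowers]
            exact Nat.one_lt_iff_ne_zero_and_ne_one.mpr ⟨(orderOf_pos z).ne',
              fun e => hz1 (orderOf_eq_one_iff.mp e)⟩
          have hlt2 : Nat.card (Subgroup.zpowers z) < Nat.card D := by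
            by_contra hc
            exact haz ((Subgroup.eq_of_le_of_card_ge (Subgroup.zpowers_le.mpr hzD)
              (not_lt.mp hc)).ge haD)
          obtain ⟨e, he⟩ := IsPGroup.iff_card.mp (hP.to_subgroup (Subgroup.zpowers z))
          rw [he] at hlt hlt2
          rw [hd] at hlt2
          rw [hNc, hd]
          refine Nat.pow_le_pow_right hp.out.pos ?_
          have := (Nat.pow_lt_pow_iff_right hp.out.one_lt).mp hlt2
          have : e ≠ 0 := by rintro rfl; simp at hlt
          omega
        exact Subgroup.mem_centralizer_singleton_iff.mp (hDN.ge hb).2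
      have h3 := CfsgLib.PGroup.card_normalizer_le hP N hNc a ha
        (fun e => haz (e ▸ one_mem _)) (hCa.trans hCN.le)
      rw [Subgroup.normalizer_eq_top_iff.mpr hN, Subgroup.card_top, hS] at h3
      have := (Nat.pow_le_pow_iff_right hp.out.one_lt).mp h3
      omega
    obtain ⟨D, hD, hND⟩ := Sylow.exists_subgroup_card_pow_prime_le p (n := 2) (m := 3) (G := C)
      (by rw [hk]; exact pow_dvd_pow p hk3) (N.subgroupOf C)
      (by rw [Nat.card_congr (Subgroup.subgroupOfEquivOfLe hNC).toEquiv, hNc]) (by norm_num)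
    refine ⟨D.map C.subtype, fun a ha => ⟨⟨a, hNC ha⟩, hND (by rw [Subgroup.mem_subgroupOf]; exact ha), rfl⟩,
      ?_, Subgroup.map_subtype_le D⟩
    rw [← hD, Nat.card_congr (D.equivMapOfInjective C.subtype C.subtype_injective).toEquiv]
  refine ⟨M, ?_, ?_⟩
  · have hNZ : N.subgroupOf M ≤ Subgroup.center M := fun a ha => by
      rw [Subgroup.mem_center_iff]
      intro g
      exact Subtype.ext (hNcent g.2 a ha).symm
    have hcyc : IsCyclic (M ⧸ Subgroup.center M) := by
      have h1 : (Subgroup.center M).index ∣ (N.subgroupOf M).index := Subgroup.index_dvd_of_le hNZ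
      have h2 : (N.subgroupOf M).index = p := by
        have := (N.subgroupOf M).card_mul_index
        rw [Nat.card_congr (Subgroup.subgroupOfEquivOfLe hNM).toEquiv, hNc, hM3,
          show p ^ 3 = p ^ 2 * p by ring] at this
        exact Nat.eq_of_mul_eq_mul_left (pow_pos hp.out.pos 2) this
      rw [h2, Subgroup.index_eq_card] at h1
      rcases (Nat.dvd_prime hp.out).mp h1 with h3 | h3
      · haveI : Subsingleton (M ⧸ Subgroup.center M) := (Nat.card_eq_one_iff_unique.mp h3).1
        exact isCyclic_of_subsingleton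
      · exact isCyclic_of_prime_card h3
    refine ⟨⟨fun a b => ?_⟩⟩
    exact commutative_of_cyclic_center_quotient (QuotientGroup.mk' (Subgroup.center M))
      (by rw [QuotientGroup.ker_mk']) a b
  · have := M.card_mul_index
    rw [hM3, hS, show p ^ 4 = p ^ 3 * p by ring] at this
    exact Nat.eq_of_mul_eq_mul_left (pow_pos hp.out.pos 3) this

end CfsgLib.Extraspecial
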