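import Mathlib

/-!
A group with central commutators, whose centre acts by faithful scalars, has a faithful module of
dimension at least the square root of the index of the centre.
-/

set_option autoImplicit false
set_option linter.style.haveILetI false

namespace CfsgLib.Extraspecial

open Module
open scoped commutatorElement

theorem index_center_le_finrank_sq {E : Type*} [Group E] [Finite E] {K : Type*} [Field K]
    {W : Type*} [AddCommGroup W] [Module K W] [FiniteDimensional K W] [Nontrivial W]
    (F : E →* Module.End K W) (hs : ∀ c ∈ Subgroup.center E, ∃ a : K, F c = a • 1)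
    (hfaith : ∀ c ∈ Subgroup.center E, F c = 1 → c = 1)
    (hcomm : ∀ g h : E, ⁅g, h⁆ ∈ Subgroup.center E) (hK : (Nat.card E : K) ≠ 0) :
    (Subgroup.center E).index ≤ finrank K W ^ 2 := by
  classical
  haveI := Fintype.ofFinite E
  haveI := Fintype.ofFinite (E ⧸ Subgroup.center E)
  have hinj : Function.Injective fun a : K => a • (1 : Module.End K W) :=
    smul_left_injective K one_ne_zero
  choose s hs using hs
  let χ : E → E →* K := fun k => MonoidHom.mk
    { toFun := fun h => s ⁅h, k⁆ (hcomm h k)
      map_one' := hinj (by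
        show s ⁅(1 : E), k⁆ _ • (1 : Module.End K W) = (1 : K) • 1
        rw [← hs, commutatorElement_one_left, map_one, one_smul]) }
    fun a b => hinj (by
      show s ⁅a * b, k⁆ _ • (1 : Module.End K W) = (s ⁅a, k⁆ _ * s ⁅b, k⁆ _) • 1
      have e : ⁅a * b, k⁆ = ⁅a, k⁆ * ⁅b, k⁆ := by
        have h1 : a * ⁅b, k⁆ = ⁅b, k⁆ * a := (Subgroup.mem_center_iff.mp (hcomm b k) a)
        have h2 : ⁅b, k⁆ * ⁅a, k⁆ = ⁅a, k⁆ * ⁅b, k⁆ := (Subgroup.mem_center_iff.mp (hcomm a k) _)
        have h0 : ⁅a * b, k⁆ = a * ⁅b, k⁆ * a⁻¹ * ⁅a, k⁆ := by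
          simp only [commutatorElement_def]; group
        rw [h0, h1, mul_inv_cancel_right, h2]
      rw [← hs, e, map_mul, hs _ (hcomm a k), hs _ (hcomm b k), smul_mul_smul_comm, one_mul])
  have hχ : ∀ h k, F (h * k * h⁻¹) = χ k h • F k := fun h k => by
    show F (h * k * h⁻¹) = s ⁅h, k⁆ (hcomm h k) • F k
    rw [show h * k * h⁻¹ = ⁅h, k⁆ * k by simp [commutatorElement_def], map_mul, hs _ (hcomm h k),
      smul_mul_assoc, one_mul]
  have hχ1 : ∀ k, χ k = 1 → k ∈ Subgroup.center E := fun k hk => by
    rw [Subgroup.mem_center_iff]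
    intro h
    rw [← commutatorElement_eq_one_iff_mul_comm]
    refine hfaith _ (hcomm h k) ?_
    rw [hs _ (hcomm h k), show s ⁅h, k⁆ (hcomm h k) = 1 from DFunLike.congr_fun hk h, one_smul]
  have hF0 : ∀ k, F k ≠ 0 := fun k h0 => by
    have h1 := map_mul F k k⁻¹
    rw [mul_inv_cancel, map_one, h0, zero_mul] at h1
    exact one_ne_zero h1
  have hli : LinearIndependent K fun q : E ⧸ Subgroup.center E => F q.out := by
    rw [Fintype.linearIndependent_iff]
    intro c hc q0
    have h0 : ∑ q : E ⧸ Subgroup.center E, c q • F (q0.out⁻¹ * q.out) = 0 := by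
      have := congrArg (fun X => F q0.out⁻¹ * X) hc
      simpa [Finset.mul_sum, mul_smul_comm, ← map_mul] using this
    have h1 : ∑ q : E ⧸ Subgroup.center E, c q • (∑ h : E, χ (q0.out⁻¹ * q.out) h) •
        F (q0.out⁻¹ * q.out) = 0 := by
      have h2 : ∀ h : E, ∑ q : E ⧸ Subgroup.center E,
          c q • χ (q0.out⁻¹ * q.out) h • F (q0.out⁻¹ * q.out) = 0 := fun h => by
        have := congrArg (fun X => F h * X * F h⁻¹) h0
        simpa [Finset.mul_sum, Finset.sum_mul, mul_smul_comm, smul_mul_assoc, ← map_mul, hχ]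
          using this
      simp only [Finset.sum_smul, Finset.smul_sum]
      rw [Finset.sum_comm]
      exact Finset.sum_eq_zero fun h _ => h2 h
    rw [Finset.sum_eq_single q0] at h1
    · have e : χ (1 : E) = 1 := MonoidHom.ext fun h => hinj (by
        show s ⁅h, (1 : E)⁆ _ • (1 : Module.End K W) = (1 : K) • 1
        rw [← hs, commutatorElement_one_right, map_one, one_smul])
      rw [inv_mul_cancel, e, map_one, smul_smul] at h1
      have h3 := (smul_eq_zero.mp h1).resolve_right one_ne_zero
      refine (mul_eq_zero.mp h3).resolve_right ?_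
      simpa [← Nat.card_eq_fintype_card] using hK
    · intro q _ hq
      have hne : χ (q0.out⁻¹ * q.out) ≠ 1 := fun he => hq (by
        have := hχ1 _ he
        rw [← QuotientGroup.eq, QuotientGroup.out_eq', QuotientGroup.out_eq'] at this
        exact this.symm)
      rw [sum_hom_units_eq_zero _ hne, zero_smul, smul_zero]
    · exact fun h => absurd (Finset.mem_univ _) h
  have h := hli.fintype_card_le_finrank
  rwa [Module.finrank_linearMap, ← Nat.card_eq_fintype_card, ← pow_two] at h

end CfsgLib.Extraspecial
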