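import Cfsg.Agent.Lib.Extraspecial.Uniqueness
import Cfsg.Agent.Lib.Fitting.Basic

/-!
Symmetry of orthogonality between involutions with extraspecial cores.
-/

set_option autoImplicit false
set_option linter.style.haveILetI false

open Cfsg
open scoped commutatorElement

namespace CfsgLib.Extraspecial.Symm

variable {G : Type*} [Group G]

/-- `Q` behaves like an extraspecial `2`-group with centre `{1, z}`. -/
structure Zdata (Q : Subgroup G) (z : G) : Prop where
  mem : z ∈ Q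
  two : z * z = 1
  ne : z ≠ 1
  cases : ∀ a ∈ Q, (∀ b ∈ Q, a * b = b * a) → a = 1 ∨ a = z
  sq : ∀ a ∈ Q, a * a = 1 ∨ a * a = z
  comm : ∀ a ∈ Q, ∀ b ∈ Q, a * b = b * a ∨ a * b = z * (b * a)

theorem zdata_of [Finite G] {Q : Subgroup G} {z : G} (h : IsExtraspecial 2 ↥Q) (hz : z ∈ Q) (hne : z ≠ 1)
    (hc : ∀ b ∈ Q, z * b = b * z) : Zdata Q z := by
  haveI : Fact (Nat.Prime 2) := ⟨Nat.prime_two⟩
  have hzc : (⟨z, hz⟩ : Q) ∈ Subgroup.center Q :=
    Subgroup.mem_center_iff.2 fun b => Subtype.ext (hc b b.2).symm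
  have hz1 : (⟨z, hz⟩ : Q) ≠ 1 := fun e => hne (congrArg Subtype.val e)
  have hval : ∀ a : Q, a ∈ Subgroup.center Q → (a : G) = 1 ∨ (a : G) = z := by
    intro a ha
    by_cases ha1 : a = 1
    · exact Or.inl (by rw [ha1]; rfl)
    · exact Or.inr (congrArg Subtype.val (two_eq h ha hzc ha1 hz1))
  refine ⟨hz, ?_, hne, fun a ha hab => ?_, fun a ha => ?_, fun a ha b hb => ?_⟩
  · have := (center_eq h hzc hz1).2
    rw [← Subgroup.orderOf_coe] at this
    rw [← sq, ← this]; exact pow_orderOf_eq_one z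
  · exact hval ⟨a, ha⟩ (Subgroup.mem_center_iff.2 fun b => Subtype.ext (hab b b.2).symm)
  · have := hval _ (pow_mem_center h (⟨a, ha⟩ : Q))
    rwa [Subgroup.coe_pow, sq] at this
  · rcases hval _ (comm_mem h (⟨a, ha⟩ : Q) ⟨b, hb⟩) with e | e
    · refine Or.inl ?_
      have e' : a * b * a⁻¹ * b⁻¹ = 1 := by simpa [commutatorElement_def] using e
      calc a * b = a * b * a⁻¹ * b⁻¹ * (b * a) := by group
        _ = b * a := by rw [e', one_mul]
    · refine Or.inr ?_
      have e' : a * b * a⁻¹ * b⁻¹ = z := by simpa [commutatorElement_def] using e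
      calc a * b = a * b * a⁻¹ * b⁻¹ * (b * a) := by group
        _ = z * (b * a) := by rw [e']

/-- orthogonality is symmetric -/
theorem mem_of_mem (Q : G → Subgroup G) (hle : ∀ y, ∀ q ∈ Q y, q * y = y * q)
    (hnorm : ∀ y c, c * y = y * c → ∀ q ∈ Q y, c * q * c⁻¹ ∈ Q y)
    (heqv : ∀ h y, ∀ q ∈ Q y, h * q * h⁻¹ ∈ Q (h * y * h⁻¹))
    {z x : G} (hz : Zdata (Q z) z) (hx : Zdata (Q x) x)
    (hCz : ∀ c, (∀ q ∈ Q z, c * q = q * c) → c ∈ Q z)
    (hCx : ∀ c, (∀ q ∈ Q x, c * q = q * c) → c ∈ Q x)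
    (hxQ : x ∈ Q z) : z ∈ Q x := by
  by_cases hxz : x = z
  · subst hxz; exact hxQ
  by_contra hzn
  have hzi : z⁻¹ = z := inv_eq_of_mul_eq_one_right hz.two
  have hxi : x⁻¹ = x := inv_eq_of_mul_eq_one_right hx.two
  have hxzc : x * z = z * x := hle z x hxQ
  obtain ⟨q0, hq0, hq0x⟩ : ∃ q0 ∈ Q z, q0 * x * q0⁻¹ = z * x := by
    by_contra hno
    push Not at hno
    rcases hz.cases x hxQ (fun b hb => by
      rcases hz.comm b hb x hxQ with e | e
      · exact e.symm
      · exact absurd (by rw [e]; group) (hno b hb)) with e | e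
    · exact hx.ne e
    · exact hxz e
  have hq0z : q0 * z * q0⁻¹ = z := by rw [hle z q0 hq0, mul_inv_cancel_right]
  have hexcl : ∀ c : G, c * x = x * c → c * z * c⁻¹ ≠ x * z := by
    intro c hcx hc
    have hcx' : c * x * c⁻¹ = x := by rw [hcx, mul_inv_cancel_right]
    have e0 : q0 * (x * z) * q0⁻¹ = x := by
      rw [conj_mul.symm, hq0x, hq0z, mul_assoc, hxzc, ← mul_assoc, hz.two, one_mul]
    have e1 : (q0 * c * q0) * x * (q0 * c * q0)⁻¹ = z := by
      calc (q0 * c * q0) * x * (q0 * c * q0)⁻¹ = q0 * (c * (q0 * x * q0⁻¹) * c⁻¹) * q0⁻¹ := by group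
        _ = q0 * ((c * z * c⁻¹) * (c * x * c⁻¹)) * q0⁻¹ := by rw [hq0x]; group
        _ = q0 * z * q0⁻¹ := by rw [hc, hcx', mul_assoc x z x, ← hxzc, ← mul_assoc x x z, hx.two, one_mul]
        _ = z := hq0z
    have e2 : (q0 * c * q0) * z * (q0 * c * q0)⁻¹ = x := by
      calc (q0 * c * q0) * z * (q0 * c * q0)⁻¹ = q0 * (c * (q0 * z * q0⁻¹) * c⁻¹) * q0⁻¹ := by group
        _ = x := by rw [hq0z, hc, e0]
    have := heqv (q0 * c * q0) z x hxQ
    rw [e1, e2] at this
    exact hzn this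
  have hflip : ∀ a ∈ Q x, z * a * z = a ∨ z * a * z = x * a → z * a = a * z := by
    rintro a ha (e | e)
    · calc z * a = z * a * z * z := by rw [mul_assoc _ z z, hz.two, mul_one]
        _ = a * z := by rw [e]
    · refine absurd ?_ (hexcl a⁻¹ (by rw [← inv_inj]; simp [hxi, hle x a ha]))
      calc a⁻¹ * z * a⁻¹⁻¹ = a⁻¹ * (z * a * z) * z := by simp [mul_assoc, hz.two]
        _ = x * z := by rw [e, ← hle x a ha]; group
  have hsplit : ∀ q ∈ Q z, q * x = x * q ∨ q * x * q⁻¹ = z * x := by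
    intro q hq
    rcases hz.comm q hq x hxQ with e | e
    · exact Or.inl e
    · exact Or.inr (by rw [e]; group)
  have hq0x' : q0⁻¹ * x * q0 = z * x := by
    calc q0⁻¹ * x * q0 = q0⁻¹ * (z * (q0 * x * q0⁻¹)) * q0 := by
          rw [hq0x, ← mul_assoc z z x, hz.two, one_mul]
      _ = q0⁻¹ * z * q0 * x := by group
      _ = z * x := by rw [mul_assoc _ z q0, ← hle z q0 hq0, inv_mul_cancel_left]
  have hdec : ∀ q ∈ Q z, q * x * q⁻¹ = z * x → (q0⁻¹ * q) * x = x * (q0⁻¹ * q) := by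
    intro q hq e
    calc q0⁻¹ * q * x = q0⁻¹ * (q * x * q⁻¹) * q := by group
      _ = q0⁻¹ * (q0 * x * q0⁻¹) * q := by rw [e, hq0x]
      _ = x * (q0⁻¹ * q) := by group
  have hcen : ∀ r : G, (∀ e ∈ Q z, e * x = x * e → r * e = e * r) → r * q0 = q0 * r →
      ∀ q ∈ Q z, r * q = q * r := by
    intro r hr hrq q hq
    rcases hsplit q hq with e | e
    · exact hr q hq e
    · have h1 := hr _ (mul_mem (inv_mem hq0) hq) (hdec q hq e)
      calc r * q = r * q0 * (q0⁻¹ * q) := by group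
        _ = q0 * (r * (q0⁻¹ * q)) := by rw [hrq]; group
        _ = q * r := by rw [h1]; group
  have hZE : ∀ r ∈ Q z, r * x = x * r → (∀ e ∈ Q z, e * x = x * e → r * e = e * r) →
      r = 1 ∨ r = z ∨ r = x ∨ r = x * z := by
    intro r hr hrx hre
    rcases hz.comm r hr q0 hq0 with e | e
    · rcases hz.cases r hr (hcen r hre e) with h | h
      · exact Or.inl h
      · exact Or.inr (Or.inl h)
    · have hre' : ∀ e ∈ Q z, e * x = x * e → (r * x) * e = e * (r * x) := fun e he hex => by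
        rw [mul_assoc, ← hex, ← mul_assoc, hre e he hex, mul_assoc]
      have hq : (r * x) * q0 = q0 * (r * x) := by
        calc r * x * q0 = r * q0 * (q0⁻¹ * x * q0) := by group
          _ = z * (q0 * r) * (z * x) := by rw [hq0x', e]
          _ = (z * (q0 * r) * z) * x := by group
          _ = q0 * (r * x) := by
            rw [← hle z (q0 * r) (mul_mem hq0 hr), mul_assoc (q0 * r) z z, hz.two, mul_one, mul_assoc]
      rcases hz.cases _ (mul_mem hr hxQ) (hcen _ hre' hq) with h | h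
      · exact Or.inr (Or.inr (Or.inl (by rw [← hxi]; exact eq_inv_of_mul_eq_one_left h)))
      · refine Or.inr (Or.inr (Or.inr ?_))
        calc r = r * x * x := by rw [mul_assoc, hx.two, mul_one]
          _ = x * z := by rw [h, hxzc]
  have hxzn : x * z ∉ Q x := fun h => hzn ((Subgroup.mul_mem_cancel_left _ hx.mem).1 h)
  have hR : ∀ r ∈ Q z, r ∈ Q x → r = 1 ∨ r = x := by
    intro r hr hr'
    have hre : ∀ e ∈ Q z, e * x = x * e → r * e = e * r := by
      intro e he hex
      rcases hz.comm r hr e he with h | h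
      · exact h
      · refine absurd ?_ hzn
        have h1 : r * (e * r⁻¹ * e⁻¹) ∈ Q x := mul_mem hr' (hnorm x e hex _ (inv_mem hr'))
        rwa [show r * (e * r⁻¹ * e⁻¹) = (r * e) * (e * r)⁻¹ by group, h, mul_inv_cancel_right] at h1
    rcases hZE r hr (hle x r hr') hre with h | h | h | h
    · exact Or.inl h
    · exact absurd (h ▸ hr') hzn
    · exact Or.inr h
    · exact absurd (h ▸ hr') hxzn
  have hEF : ∀ e ∈ Q z, e * x = x * e → ∀ f ∈ Q x, f * z = z * f →
      e * f * e⁻¹ = f ∨ e * f * e⁻¹ = x * f := by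
    intro e he hex f hf hfz
    have h1 : e * f * e⁻¹ * f⁻¹ ∈ Q z := by
      rw [show e * f * e⁻¹ * f⁻¹ = e * (f * e⁻¹ * f⁻¹) by group]
      exact mul_mem he (hnorm z f hfz _ (inv_mem he))
    have h2 : e * f * e⁻¹ * f⁻¹ ∈ Q x := mul_mem (hnorm x e hex _ hf) (inv_mem hf)
    rcases hR _ h1 h2 with h | h
    · exact Or.inl (mul_inv_eq_one.1 h)
    · exact Or.inr (mul_inv_eq_iff_eq_mul.1 h)
  have hcF : ∀ q ∈ Q x, z * q * z * q⁻¹ ∈ Q x ∧ (z * q * z * q⁻¹) * z = z * (z * q * z * q⁻¹) := by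
    intro q hq
    set d := z * q * z * q⁻¹ with hd
    have hdQ : d ∈ Q x := by
      have h := mul_mem (hnorm x z hxzc.symm q hq) (inv_mem hq)
      rwa [hzi] at h
    have hinv : z * d * z = d⁻¹ := by
      calc z * d * z = z * z * q * z * q⁻¹ * z := by rw [hd]; group
        _ = q * z * q⁻¹ * z := by rw [hz.two, one_mul]
        _ = d⁻¹ := by rw [hd, mul_inv_rev, mul_inv_rev, mul_inv_rev, inv_inv, hzi]; group
    refine ⟨hdQ, ((hflip d hdQ) ?_).symm⟩
    rcases hx.sq d hdQ with h | h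
    · exact Or.inl (hinv.trans (inv_eq_of_mul_eq_one_right h))
    · refine Or.inr (hinv.trans ?_)
      calc d⁻¹ = x * (x * d⁻¹) := by rw [← mul_assoc, hx.two, one_mul]
        _ = x * d := by rw [← h]; group
  have hcQ : ∀ a ∈ Q x, ∀ c ∈ Q x, c * a * c⁻¹ = a ∨ c * a * c⁻¹ = x * a := by
    intro a ha c hc
    rcases hx.comm c hc a ha with h | h
    · exact Or.inl (by rw [h, mul_inv_cancel_right])
    · exact Or.inr (by rw [h]; group)
  have hmod : ∀ {a b c : G}, (a = b ∨ a = x * b) → (b = c ∨ b = x * c) → (a = c ∨ a = x * c) := by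
    rintro a b c (rfl | rfl) (rfl | rfl)
    · exact Or.inl rfl
    · exact Or.inr rfl
    · exact Or.inr rfl
    · exact Or.inl (by rw [← mul_assoc, hx.two, one_mul])
  have hmulr : ∀ {a b : G} (c : G), (a = b ∨ a = x * b) → (a * c = b * c ∨ a * c = x * (b * c)) := by
    rintro a b c (rfl | rfl)
    · exact Or.inl rfl
    · exact Or.inr (mul_assoc _ _ _)
  have hE : ∀ e ∈ Q z, e * x = x * e → ∀ q ∈ Q x,
      e * q * e⁻¹ * q⁻¹ ∈ Q x ∧ (e * q * e⁻¹ * q⁻¹) * z = z * (e * q * e⁻¹ * q⁻¹) := by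
    intro e he hex q hq
    set a := e * q * e⁻¹ * q⁻¹ with ha
    have haQ : a ∈ Q x := mul_mem (hnorm x e hex _ hq) (inv_mem hq)
    obtain ⟨hcQx, hcz⟩ := hcF q hq
    set c := z * q * z * q⁻¹ with hc
    refine ⟨haQ, ((hflip a haQ) ?_).symm⟩
    have hconj : ∀ u v : G, z * (u * v) * z = (z * u * z) * (z * v * z) := fun u v => by
      calc z * (u * v) * z = z * u * (z * z) * v * z := by rw [hz.two]; group
        _ = _ := by group
    have he' : z * e * z = e := by rw [← hle z e he, mul_assoc, hz.two, mul_one]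
    have hei : z * e⁻¹ * z = e⁻¹ := by rw [← hle z _ (inv_mem he), mul_assoc, hz.two, mul_one]
    have e1 : z * a * z = (e * c * e⁻¹) * a * c⁻¹ := by
      have hq' : z * q * z = c * q := by rw [hc]; group
      have hqi : z * q⁻¹ * z = q⁻¹ * c⁻¹ := by
        calc z * q⁻¹ * z = (z * q * z)⁻¹ := by rw [mul_inv_rev, mul_inv_rev, hzi]; group
          _ = q⁻¹ * c⁻¹ := by rw [hq', mul_inv_rev]
      rw [ha, hconj, hconj, hconj, he', hei, hq', hqi]; group
    rw [e1]
    have h2 : c * a * c⁻¹ = a ∨ c * a * c⁻¹ = x * a := hcQ a haQ c hcQx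
    have h1 := hmulr c⁻¹ (hmulr a (hEF e he hex c hcQx hcz))
    exact hmod h1 h2
  by_cases hab : ∃ e ∈ Q z, e * x = x * e ∧ ∃ f ∈ Q z, f * x = x * f ∧ e * f ≠ f * e
  · obtain ⟨e, he, hex, f, hf, hfx, hne⟩ := hab
    have hzef : z * (f * e) = e * f := ((hz.comm e he f hf).resolve_left hne).symm
    refine hzn (hCx z fun p hp => ?_)
    have hfe : (f * e)⁻¹ * x = x * (f * e)⁻¹ := (Commute.inv_left (Commute.mul_left hfx hex))
    set q := (f * e)⁻¹ * p * ((f * e)⁻¹)⁻¹ with hq
    have hqQ : q ∈ Q x := hnorm x _ hfe p hp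
    obtain ⟨haQ, haz⟩ := hE e he hex q hqQ
    obtain ⟨hbQ, hbz⟩ := hE f hf hfx q hqQ
    set a := e * q * e⁻¹ * q⁻¹ with ha
    set b := f * q * f⁻¹ * q⁻¹ with hb
    refine hflip p hp ?_
    have hp' : p = (f * a * f⁻¹) * b * q := by rw [ha, hb, hq]; group
    have hzp : z * p * z = (e * b * e⁻¹) * a * q := by
      calc z * p * z = (z * (f * e)) * q * (z * (f * e))⁻¹ := by
            rw [mul_inv_rev, hzi, hq]; group
        _ = _ := by rw [hzef, ha, hb]; group
    have l1 := hmulr q (hmulr a (hEF e he hex b hbQ hbz))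
    have l2 : b * a * q = a * b * q ∨ b * a * q = x * (a * b * q) := by
      rcases hx.comm b hbQ a haQ with h | h
      · exact Or.inl (by rw [h])
      · exact Or.inr (by rw [h, mul_assoc])
    have l3 : a * b * q = f * a * f⁻¹ * b * q ∨ a * b * q = x * (f * a * f⁻¹ * b * q) := by
      rcases hmulr q (hmulr b (hEF f hf hfx a haQ haz)) with h | h
      · exact Or.inl h.symm
      · exact Or.inr (by rw [h, ← mul_assoc x x, hx.two, one_mul])
    rw [hzp, hp']
    exact hmod l1 (hmod l2 l3)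
  · push Not at hab
    obtain ⟨q, hq, hqz⟩ : ∃ q ∈ Q x, z * q ≠ q * z := by
      by_contra h
      push Not at h
      exact hzn (hCx z h)
    obtain ⟨hcQx, hcz⟩ := hcF q hq
    set c := z * q * z * q⁻¹ with hc
    have hzq : z * q * z = c * q := by rw [hc]; group
    have hc1 : c ≠ 1 := fun h => hqz (by
      rw [h, one_mul] at hzq
      calc z * q = z * q * z * z := by rw [mul_assoc _ z z, hz.two, mul_one]
        _ = q * z := by rw [hzq])
    have hcx : c ≠ x := fun h => hqz (hflip q hq (Or.inr (by rw [hzq, h])))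
    have hcn : c ∉ Q z := fun h => by
      rcases hR c h hcQx with e | e
      exacts [hc1 e, hcx e]
    have hcxc : c * x = x * c := hle x c hcQx
    have hE4 : ∀ e ∈ Q z, e * x = x * e → e = 1 ∨ e = z ∨ e = x ∨ e = x * z := fun e he hex =>
      hZE e he hex fun f hf hfx => hab e he hex f hf hfx
    have hcE : ∀ e ∈ Q z, e * x = x * e → c * e = e * c := fun e he hex => by
      rcases hE4 e he hex with rfl | rfl | rfl | rfl
      · simp
      · exact hcz
      · exact hcxc
      · rw [← mul_assoc, hcxc, mul_assoc, hcz, ← mul_assoc]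
    have hq' : c * q0 * c⁻¹ ∈ Q z := hnorm z c hcz q0 hq0
    have hq'x : c * q0 * c⁻¹ * x * (c * q0 * c⁻¹)⁻¹ = z * x := by
      have hci : c⁻¹ * x * c = x := by rw [mul_assoc, ← hcxc, inv_mul_cancel_left]
      calc c * q0 * c⁻¹ * x * (c * q0 * c⁻¹)⁻¹ = c * (q0 * (c⁻¹ * x * c) * q0⁻¹) * c⁻¹ := by group
        _ = z * x := by
          rw [hci, hq0x, ← mul_assoc, hcz, mul_assoc z c x, hcxc]; group
    have hkill : ∀ d : G, d * q0 = q0 * d → (∀ e ∈ Q z, e * x = x * e → d * e = e * d) → d ∈ Q z :=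
      fun d h1 h2 => hCz d (hcen d h2 h1)
    rcases hE4 _ (mul_mem (inv_mem hq0) hq') (hdec _ hq' hq'x) with h | h | h | h
    · refine hcn (hkill c ?_ hcE)
      rw [inv_mul_eq_one] at h
      exact (mul_inv_eq_iff_eq_mul.1 h.symm)
    · refine hcn ((Subgroup.mul_mem_cancel_left _ hxQ).1 (hkill (x * c) ?_ fun e he hex => by
        rw [mul_assoc, hcE e he hex, ← mul_assoc, ← hex, mul_assoc]))
      have h' : c * q0 * c⁻¹ = q0 * z := by rw [← h]; group
      calc x * c * q0 = x * (c * q0 * c⁻¹) * c := by group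
        _ = q0 * (q0⁻¹ * x * q0) * z * c := by rw [h']; group
        _ = q0 * ((z * x) * z) * c := by rw [hq0x']; group
        _ = q0 * (x * c) := by
          rw [mul_assoc z x z, hxzc, ← mul_assoc z z x, hz.two, one_mul]; group
    all_goals
      have h' : c * q0 * c⁻¹ = q0 * _ := inv_mul_eq_iff_eq_mul.1 h
      have hsq : (c * q0 * c⁻¹) * (c * q0 * c⁻¹) = q0 * q0 := by
        rcases hz.sq q0 hq0 with e | e
        · rw [show c * q0 * c⁻¹ * (c * q0 * c⁻¹) = c * (q0 * q0) * c⁻¹ by group, e]; group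
        · rw [show c * q0 * c⁻¹ * (c * q0 * c⁻¹) = c * (q0 * q0) * c⁻¹ by group, e, hcz,
            mul_inv_cancel_right]
      rw [h'] at hsq
      refine hz.ne ?_
    · have e2 : q0 * x * (q0 * x) = q0 * q0 * ((z * x) * x) := by rw [← hq0x']; group
      rw [e2, mul_assoc z x x, hx.two, mul_one] at hsq
      exact mul_eq_left.1 hsq
    · have e2 : q0 * (x * z) * (q0 * (x * z)) = q0 * q0 * ((q0⁻¹ * (x * z) * q0) * (x * z)) := by group
      have e3 : q0⁻¹ * (x * z) * q0 = x := by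
        calc q0⁻¹ * (x * z) * q0 = q0⁻¹ * x * (z * q0) := by group
          _ = (q0⁻¹ * x * q0) * z := by rw [← hle z q0 hq0]; group
          _ = x := by rw [hq0x', mul_assoc, hxzc, ← mul_assoc, hz.two, one_mul]
      rw [e2, e3, ← mul_assoc x x z, hx.two, one_mul] at hsq
      exact mul_eq_left.1 hsq

/-- the core of the centraliser, transported by conjugation -/
theorem conj_mem_core (p : ℕ) (h y : G) {q : G}
    (hq : q ∈ (Cfsg.pCore p ↥(Subgroup.centralizer ({y} : Set G))).map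
      (Subgroup.centralizer ({y} : Set G)).subtype) :
    h * q * h⁻¹ ∈ (Cfsg.pCore p ↥(Subgroup.centralizer ({h * y * h⁻¹} : Set G))).map
      (Subgroup.centralizer ({h * y * h⁻¹} : Set G)).subtype := by
  obtain ⟨a, ha, rfl⟩ := Subgroup.mem_map.1 hq
  let e : ↥(Subgroup.centralizer ({y} : Set G)) ≃* ↥(Subgroup.centralizer ({h * y * h⁻¹} : Set G)) :=
    { toFun := fun c => ⟨h * c * h⁻¹, Subgroup.mem_centralizer_singleton_iff.2 (by
        have hc := Subgroup.mem_centralizer_singleton_iff.1 c.2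
        calc h * c * h⁻¹ * (h * y * h⁻¹) = h * ((c : G) * y) * h⁻¹ := by group
          _ = _ := by rw [hc]; group)⟩
      invFun := fun d => ⟨h⁻¹ * d * h, Subgroup.mem_centralizer_singleton_iff.2 (by
        have hd := Subgroup.mem_centralizer_singleton_iff.1 d.2
        calc h⁻¹ * d * h * y = h⁻¹ * ((d : G) * (h * y * h⁻¹)) * h := by group
          _ = _ := by rw [hd]; group)⟩
      left_inv := fun c => Subtype.ext (by show h⁻¹ * (h * (c : G) * h⁻¹) * h = c; group)
      right_inv := fun d => Subtype.ext (by show h * (h⁻¹ * (d : G) * h) * h⁻¹ = d; group)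
      map_mul' := fun c d => Subtype.ext (by
        show h * ((c : G) * d) * h⁻¹ = (h * c * h⁻¹) * (h * d * h⁻¹); group) }
  exact Subgroup.mem_map.2 ⟨e a, CfsgLib.Fitting.le_pCore
    ((CfsgLib.Fitting.pCore_normal p).map e.toMonoidHom e.surjective)
    ((CfsgLib.Fitting.pCore_isPGroup p).map e.toMonoidHom) (Subgroup.mem_map_of_mem _ ha), rfl⟩

theorem core_orthogonal [Finite G] (Q : G → Subgroup G)
    (hQ : ∀ x : G, Q x = (Cfsg.pCore 2 ↥(Subgroup.centralizer ({x} : Set G))).map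
      (Subgroup.centralizer ({x} : Set G)).subtype)
    (z : G) (hz : orderOf z = 2) (hE : IsExtraspecial 2 ↥(Q z))
    (hC : Subgroup.centralizer ((Q z : Subgroup G) : Set G) ≤ Q z)
    (g : G) (hx : g * z * g⁻¹ ∈ Q z) : z ∈ Q (g * z * g⁻¹) := by
  have hle : ∀ y, ∀ q ∈ Q y, q * y = y * q := fun y q hq => by
    rw [hQ] at hq
    obtain ⟨a, -, rfl⟩ := Subgroup.mem_map.1 hq
    exact Subgroup.mem_centralizer_singleton_iff.1 a.2
  have hnorm : ∀ y c, c * y = y * c → ∀ q ∈ Q y, c * q * c⁻¹ ∈ Q y := fun y c hc q hq => by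
    rw [hQ] at hq ⊢
    have := conj_mem_core 2 c y hq
    rwa [hc, mul_inv_cancel_right] at this
  have heqv : ∀ h y, ∀ q ∈ Q y, h * q * h⁻¹ ∈ Q (h * y * h⁻¹) := fun h y q hq => by
    rw [hQ] at hq ⊢
    exact conj_mem_core 2 h y hq
  have hne : z ≠ 1 := fun e => by rw [e, orderOf_one] at hz; norm_num at hz
  have hzm : z ∈ Q z := hC (Subgroup.mem_centralizer_iff.2 fun q hq => hle z q hq)
  have dz := zdata_of hE hzm hne fun b hb => (hle z b hb).symm
  have hgeq : ∀ q ∈ Q (g * z * g⁻¹), g⁻¹ * q * g ∈ Q z := fun q hq => by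
    have := heqv g⁻¹ _ q hq
    rw [inv_inv] at this
    rwa [show g⁻¹ * (g * z * g⁻¹) * g = z by group] at this
  have hback : ∀ a, g⁻¹ * a * g ∈ Q z → a ∈ Q (g * z * g⁻¹) := fun a ha => by
    have := heqv g z _ ha
    rwa [show g * (g⁻¹ * a * g) * g⁻¹ = a by group] at this
  refine mem_of_mem Q hle hnorm heqv dz ⟨?_, ?_, ?_, ?_, ?_, ?_⟩
    (fun c hc => hC (Subgroup.mem_centralizer_iff.2 fun q hq => (hc q hq).symm)) (fun c hc => ?_) hx
  · exact heqv g z z hzm
  · calc g * z * g⁻¹ * (g * z * g⁻¹) = g * (z * z) * g⁻¹ := by group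
      _ = 1 := by rw [dz.two]; group
  · exact fun e => hne (by simpa using conj_eq_one_iff.1 e)
  · intro a ha hab
    rcases dz.cases _ (hgeq a ha) (fun b hb => by
      have h := hab _ (heqv g z b hb)
      calc g⁻¹ * a * g * b = g⁻¹ * (a * (g * b * g⁻¹)) * g := by group
        _ = _ := by rw [h]; group) with h | h
    · exact Or.inl (calc a = g * (g⁻¹ * a * g) * g⁻¹ := by group
        _ = 1 := by rw [h]; group)
    · exact Or.inr (calc a = g * (g⁻¹ * a * g) * g⁻¹ := by group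
        _ = _ := by rw [h])
  · intro a ha
    have e : a * a = g * ((g⁻¹ * a * g) * (g⁻¹ * a * g)) * g⁻¹ := by group
    rcases dz.sq _ (hgeq a ha) with h | h
    · exact Or.inl (by rw [e, h]; group)
    · exact Or.inr (by rw [e, h])
  · intro a ha b hb
    have e : a * b = g * ((g⁻¹ * a * g) * (g⁻¹ * b * g)) * g⁻¹ := by group
    rcases dz.comm _ (hgeq a ha) _ (hgeq b hb) with h | h
    · exact Or.inl (by rw [e, h]; group)
    · exact Or.inr (by rw [e, h]; group)
  · refine hback c (hC (Subgroup.mem_centralizer_iff.2 fun q hq => ?_))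
    have h := hc _ (heqv g z q hq)
    calc q * (g⁻¹ * c * g) = g⁻¹ * (g * q * g⁻¹ * c) * g := by group
      _ = _ := by rw [← h]; group

end CfsgLib.Extraspecial.Symm
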