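import Cfsg.Prelude.Def_MonsterType
import Cfsg.Agent.Lib.Extraspecial.Symmetry
import Cfsg.Agent.Lib.Coprime.Generation

/-!
Criteria for large extraspecial subgroups and two-central involutions.
-/

set_option autoImplicit false
set_option linter.style.haveILetI false

open Cfsg
open scoped Pointwise

namespace CfsgLib.Extraspecial.Large

variable {G : Type*} [Group G]

/-- the centre of `Q` as a subgroup of `G` -/
abbrev cen (Q : Subgroup G) : Subgroup G := (Subgroup.center ↥Q).map Q.subtype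

theorem cen_le (Q : Subgroup G) : cen Q ≤ Q := Subgroup.map_subtype_le _

theorem cen_spec [Finite G] {Q : Subgroup G} (h : IsExtraspecial 2 ↥Q) :
    ∃ z, Symm.Zdata Q z ∧ (∀ c, c ∈ cen Q ↔ c = 1 ∨ c = z) ∧ ∀ q ∈ Q, z * q = q * z := by
  haveI : Nontrivial ↥(Subgroup.center ↥Q) := Finite.one_lt_card_iff_nontrivial.1 (by rw [h.2]; norm_num)
  obtain ⟨w, hw⟩ := exists_ne (1 : ↥(Subgroup.center ↥Q))
  have hne : ((w : Q) : G) ≠ 1 := fun e => hw (Subtype.ext (Subtype.ext e))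
  have hc : ∀ q ∈ Q, ((w : Q) : G) * q = q * ((w : Q) : G) := fun q hq =>
    (congrArg Subtype.val (Subgroup.mem_center_iff.1 w.2 ⟨q, hq⟩)).symm
  refine ⟨_, Symm.zdata_of h (w : Q).2 hne hc, fun c => ⟨?_, ?_⟩, hc⟩
  · intro hcm
    obtain ⟨a, ha, rfl⟩ := Subgroup.mem_map.1 hcm
    exact (Symm.zdata_of h (w : Q).2 hne hc).cases a a.2 fun b hb =>
      (congrArg Subtype.val (Subgroup.mem_center_iff.1 ha ⟨b, hb⟩)).symm
  · rintro (rfl | rfl)
    · exact one_mem _
    · exact Subgroup.mem_map_of_mem _ w.2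

theorem eq_one_of_mem [Finite G] {Q K : Subgroup G} (hQ : IsPGroup 2 ↥Q) (hK : Odd (Nat.card K)) {x : G}
    (hx : x ∈ Q) (hx' : x ∈ K) : x = 1 := by
  haveI : Fact (Nat.Prime 2) := ⟨Nat.prime_two⟩
  obtain ⟨k, hk⟩ := hQ.exists_card_eq
  refine (Subgroup.eq_bot_iff_forall _).1 (Subgroup.inf_eq_bot_of_coprime (H := Q) (K := K) ?_) x ⟨hx, hx'⟩
  rw [hk]
  exact Nat.Coprime.pow_left k hK.coprime_two_left

theorem mem_conj {K : Subgroup G} {c x : G} (hc : c ∈ Subgroup.normalizer (K : Set G)) (hx : x ∈ K) :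
    c * x * c⁻¹ ∈ K :=
  (Subgroup.mem_normalizer_iff.1 hc x).1 hx

theorem eq_bot_of_commute [Finite G] {Q K : Subgroup G} (hE : IsExtraspecial 2 ↥Q)
    (hL2 : Subgroup.centralizer (Q : Set G) = cen Q)
    (hL3 : Subgroup.centralizer (cen Q : Set G) ≤ Subgroup.normalizer (Q : Set G))
    (hK : Odd (Nat.card K)) (hQK : Q ≤ Subgroup.normalizer (K : Set G))
    (hc : ∀ k ∈ K, ∀ c ∈ cen Q, c * k = k * c) : K = ⊥ := by
  refine (Subgroup.eq_bot_iff_forall _).2 fun k hk => ?_
  have hkN : k ∈ Subgroup.normalizer (Q : Set G) := hL3 (Subgroup.mem_centralizer_iff.2 fun c hc' => hc k hk c hc')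
  have hk' : k ∈ Subgroup.centralizer (Q : Set G) := Subgroup.mem_centralizer_iff.2 fun q hq => by
    have h1 : k * q * k⁻¹ * q⁻¹ ∈ K := by
      rw [show k * q * k⁻¹ * q⁻¹ = k * (q * k⁻¹ * q⁻¹) by group]
      exact mul_mem hk (mem_conj (hQK hq) (inv_mem hk))
    have h := mul_inv_eq_one.1 (eq_one_of_mem hE.1.1 hK (mul_mem (mem_conj hkN hq) (inv_mem hq)) h1)
    exact (mul_inv_eq_iff_eq_mul.1 h).symm
  exact eq_one_of_mem hE.1.1 hK (cen_le Q (hL2 ▸ hk')) hk

theorem commute_of_mem_core [Finite G] {K : Subgroup G} {c : G} {O : Subgroup G} (hO : IsPGroup 2 ↥O)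
    (hK : Odd (Nat.card K)) (hcK : c ∈ Subgroup.normalizer (K : Set G)) (hcO : c ∈ O) {k : G}
    (hk : k ∈ K) (hkO : ∀ o ∈ O, k * o * k⁻¹ ∈ O) : c * k = k * c := by
  have h1 : c * k * c⁻¹ * k⁻¹ ∈ K := mul_mem (mem_conj hcK hk) (inv_mem hk)
  have h2 : c * k * c⁻¹ * k⁻¹ ∈ O := by
    rw [show c * k * c⁻¹ * k⁻¹ = c * (k * c⁻¹ * k⁻¹) by group]
    exact mul_mem hcO (hkO _ (inv_mem hcO))
  exact mul_inv_eq_iff_eq_mul.1 (mul_inv_eq_one.1 (eq_one_of_mem hO hK h2 h1))

theorem large_of_core [Finite G] {Q : Subgroup G} (hL1 : IsExtraspecial 2 ↥Q)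
    (hL2 : Subgroup.centralizer (Q : Set G) = cen Q)
    (hL3 : Subgroup.centralizer (cen Q : Set G) ≤ Subgroup.normalizer (Q : Set G))
    (hZ : cen Q ≤ Cfsg.pCore 2 G) : IsLargeExtraspecial Q :=
  ⟨hL1, hL2, hL3, fun _ hK hQK => eq_bot_of_commute hL1 hL2 hL3 hK hQK fun _ hk c hc =>
    commute_of_mem_core (CfsgLib.Fitting.pCore_isPGroup 2) hK (hQK (cen_le Q hc)) (hZ hc) hk
      fun o ho => (CfsgLib.Fitting.pCore_normal (G := G) 2).conj_mem o ho _⟩

theorem large_of_involution [Finite G] {Q : Subgroup G} (hL1 : IsExtraspecial 2 ↥Q)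
    (hL2 : Subgroup.centralizer (Q : Set G) = cen Q)
    (hL3 : Subgroup.centralizer (cen Q : Set G) ≤ Subgroup.normalizer (Q : Set G))
    {b : G} (hbQ : b ∈ Q) (hbZ : b ∉ cen Q) (hb : orderOf b = 2)
    (hZ : cen Q ≤ (Cfsg.pCore 2 ↥(Subgroup.centralizer ({b} : Set G))).map
      (Subgroup.centralizer ({b} : Set G)).subtype) : IsLargeExtraspecial Q := by
  refine ⟨hL1, hL2, hL3, fun K hK hQK => eq_bot_of_commute hL1 hL2 hL3 hK hQK ?_⟩
  obtain ⟨z, hd, hmem, hzc⟩ := cen_spec hL1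
  have hzC : z ∈ cen Q := (hmem z).2 (Or.inr rfl)
  have hb2 : b * b = 1 := by rw [← sq, ← hb]; exact pow_orderOf_eq_one b
  have hbz : b * z = z * b := (hzc b hbQ).symm
  obtain ⟨q, hq, hqb⟩ : ∃ q ∈ Q, q * b * q⁻¹ = z * b := by
    by_contra hno
    push Not at hno
    refine hbZ ((hmem b).2 (hd.cases b hbQ fun q hq => ?_))
    rcases hd.comm q hq b hbQ with e | e
    · exact e.symm
    · exact absurd (by rw [e]; group) (hno q hq)
  have hCb : ∀ k ∈ K, k * b = b * k → z * k = k * z := by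
    intro k hk hkb
    refine commute_of_mem_core ((CfsgLib.Fitting.pCore_isPGroup 2).map _) hK (hQK hd.mem) (hZ hzC) hk
      fun o ho => ?_
    have := Symm.conj_mem_core 2 k b ho
    rwa [hkb, mul_inv_cancel_right] at this
  let A : Subgroup G :=
    { carrier := {a | a = 1 ∨ a = b ∨ a = z ∨ a = z * b}
      one_mem' := Or.inl rfl
      mul_mem' := by
        have e1 : b * (z * b) = z := by rw [← mul_assoc, hbz, mul_assoc, hb2, mul_one]
        have e2 : z * (z * b) = b := by rw [← mul_assoc, hd.two, one_mul]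
        have e3 : z * b * b = z := by rw [mul_assoc, hb2, mul_one]
        have e4 : z * b * z = b := by rw [mul_assoc, hbz, ← mul_assoc, hd.two, one_mul]
        have e5 : z * b * (z * b) = 1 := by rw [← mul_assoc, e4, hb2]
        rintro u v (rfl | rfl | rfl | rfl) (rfl | rfl | rfl | rfl) <;>
          simp only [Set.mem_ofPred_eq, one_mul, mul_one, hb2, hd.two, hbz, e1, e2, e3, e4, e5, true_or, or_true]
      inv_mem' := by
        rintro u (rfl | rfl | rfl | rfl)
        · exact Or.inl inv_one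
        · exact Or.inr (Or.inl (inv_eq_of_mul_eq_one_right hb2))
        · exact Or.inr (Or.inr (Or.inl (inv_eq_of_mul_eq_one_right hd.two)))
        · refine Or.inr (Or.inr (Or.inr (inv_eq_of_mul_eq_one_right ?_)))
          calc z * b * (z * b) = z * (b * z) * b := by group
            _ = 1 := by rw [hbz, ← mul_assoc, hd.two, one_mul, hb2] }
  have hAQ : A ≤ Q := by
    rintro a (rfl | rfl | rfl | rfl)
    exacts [one_mem _, hbQ, hd.mem, mul_mem hd.mem hbQ]
  haveI : IsMulCommutative A := ⟨⟨fun u v => Subtype.ext (by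
    have hz' : ∀ w ∈ A, z * w = w * z := fun w hw => hzc w (hAQ hw)
    obtain ⟨hu, hv⟩ := And.intro u.2 v.2
    show (u : G) * v = v * u
    rcases hu with e | e | e | e <;> rcases hv with e' | e' | e' | e' <;> rw [e, e'] <;>
      first
      | rfl
      | simp
      | exact hz' _ (Or.inr (Or.inl rfl))
      | exact (hz' _ (Or.inr (Or.inl rfl))).symm
      | exact hz' _ (Or.inr (Or.inr (Or.inr rfl)))
      | exact (hz' _ (Or.inr (Or.inr (Or.inr rfl)))).symm
      | rw [← mul_assoc, hbz]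
      | rw [← mul_assoc, ← hbz])⟩⟩
  have hexp : ∀ a ∈ A, a ^ 2 = 1 := by
    rintro a (rfl | rfl | rfl | rfl) <;> rw [sq]
    · exact one_mul _
    · exact hb2
    · exact hd.two
    · calc z * b * (z * b) = z * (b * z) * b := by group
        _ = 1 := by rw [hbz, ← mul_assoc, hd.two, one_mul, hb2]
  have hb1 : b ≠ 1 := fun e => by rw [e, orderOf_one] at hb; norm_num at hb
  have hbne : b ≠ z := fun e => hbZ (e ▸ hzC)
  have hcardA : 2 < Nat.card A := by
    have : ({1, b, z} : Set G).ncard ≤ Nat.card A := by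
      rw [← SetLike.coe_sort_coe, Nat.card_coe_set_eq]
      refine Set.ncard_le_ncard ?_ (Set.toFinite _)
      rintro a (rfl | rfl | rfl)
      exacts [Or.inl rfl, Or.inr (Or.inl rfl), Or.inr (Or.inr (Or.inl rfl))]
    rw [Set.ncard_eq_three.2 ⟨1, b, z, hb1.symm, hd.ne.symm, hbne, rfl⟩] at this
    omega
  have hcop : (Nat.card A).Coprime (Nat.card K) := by
    haveI : Fact (Nat.Prime 2) := ⟨Nat.prime_two⟩
    obtain ⟨m, hm⟩ := (hL1.1.1.to_le hAQ).exists_card_eq
    rw [hm]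
    exact Nat.Coprime.pow_left m hK.coprime_two_left
  have hKY : K ≤ Subgroup.centralizer ({z} : Set G) :=
    CfsgLib.Coprime.le_of_centralizer_le (CfsgLib.Coprime.not_isCyclic_of_exponent hexp (by norm_num) hcardA)
      (hAQ.trans hQK) hcop fun a ha ha1 => by
      rintro k ⟨hk, hka⟩
      refine Subgroup.mem_centralizer_singleton_iff.2 ?_
      have hka' : k * a = a * k := Subgroup.mem_centralizer_singleton_iff.1 hka
      rcases ha with e | e | e | e
      · exact absurd e ha1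
      · exact (hCb k hk (e ▸ hka')).symm
      · exact e ▸ hka'
      · have hk' : q⁻¹ * k * q ∈ K := by
          have := mem_conj (inv_mem (hQK hq) : q⁻¹ ∈ Subgroup.normalizer (K : Set G)) hk
          rwa [inv_inv] at this
        have hb' : q⁻¹ * k * q * b = b * (q⁻¹ * k * q) := by
          have h0 : k * (q * b * q⁻¹) = q * b * q⁻¹ * k := by rw [hqb]; exact e ▸ hka'
          calc q⁻¹ * k * q * b = q⁻¹ * (k * (q * b * q⁻¹)) * q := by group
            _ = _ := by rw [h0]; group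
        have h := hCb _ hk' hb'
        calc k * z = q * (q⁻¹ * k * q * z) * q⁻¹ := by
              rw [mul_assoc (q⁻¹ * k) q z, ← hzc q hq]; group
          _ = z * k := by
              rw [← h, ← mul_assoc, ← hzc q hq]; group
  intro k hk c hc
  rcases (hmem c).1 hc with rfl | rfl
  · simp
  · exact (Subgroup.mem_centralizer_singleton_iff.1 (hKY hk)).symm

theorem exists_center_ne_one [Finite G] (S : Sylow 2 G) (h : (S : Subgroup G) ≠ ⊥) :
    ∃ w ∈ (S : Subgroup G), w ≠ 1 ∧ orderOf w = 2 ∧ ∀ s ∈ (S : Subgroup G), s * w = w * s := by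
  haveI : Fact (Nat.Prime 2) := ⟨Nat.prime_two⟩
  haveI : Nontrivial ↥(S : Subgroup G) := (Subgroup.nontrivial_iff_ne_bot _).2 h
  haveI : Nontrivial ↥(Subgroup.center ↥(S : Subgroup G)) := S.2.center_nontrivial
  obtain ⟨w, hw⟩ := exists_prime_orderOf_dvd_card' (G := ↥(Subgroup.center ↥(S : Subgroup G))) 2
    (by
      obtain ⟨k, hk⟩ := (S.2.to_subgroup (Subgroup.center _)).exists_card_eq
      have : 1 < Nat.card ↥(Subgroup.center ↥(S : Subgroup G)) := Finite.one_lt_card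
      rw [hk] at this ⊢
      exact dvd_pow_self 2 (by rintro rfl; simp at this))
  rw [← Subgroup.orderOf_coe, ← Subgroup.orderOf_coe] at hw
  exact ⟨_, (w : ↥(S : Subgroup G)).2, fun e => by rw [e, orderOf_one] at hw; norm_num at hw, hw,
    fun s hs => congrArg Subtype.val (Subgroup.mem_center_iff.1 w.2 ⟨s, hs⟩)⟩

theorem mem_sylow_of_central [Finite G] (S : Sylow 2 G) {u : G} (hu : orderOf u = 2)
    (h : ∀ s ∈ (S : Subgroup G), s * u = u * s) : u ∈ (S : Subgroup G) := by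
  haveI : Fact (Nat.Prime 2) := ⟨Nat.prime_two⟩
  have hU : IsPGroup 2 ↥(Subgroup.zpowers u) := IsPGroup.of_card (n := 1) (by rw [Nat.card_zpowers, hu, pow_one])
  have hle : Subgroup.zpowers u ≤ Subgroup.normalizer ((S : Subgroup G) : Set G) := by
    rw [Subgroup.zpowers_le]
    refine Subgroup.centralizer_le_normalizer _ (Subgroup.mem_centralizer_iff.2 ?_)
    exact fun s hs => h s hs
  have h2 : IsPGroup 2 ↥((S : Subgroup G) ⊔ Subgroup.zpowers u) := S.2.to_sup_of_normal_left' hU hle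
  exact S.3 h2 le_sup_left ▸ Subgroup.mem_sup_right (Subgroup.mem_zpowers u)

theorem frattini_large [Finite G] {Q : Subgroup G} (hQ : IsLargeExtraspecial Q) (L : Subgroup G) [L.Normal]
    (hQL : Q ≤ L) : L ⊔ Subgroup.normalizer (Q : Set G) = ⊤ := by
  obtain ⟨hE, hL2, hL3, -⟩ := hQ
  haveI : Fact (Nat.Prime 2) := ⟨Nat.prime_two⟩
  obtain ⟨z, hd, hmem, hzc⟩ := cen_spec hE
  have hp : IsPGroup 2 ↥(Q.subgroupOf L) := hE.1.1.of_equiv (Subgroup.subgroupOfEquivOfLe hQL).symm
  obtain ⟨P, hP⟩ := hp.exists_le_sylow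
  set S := (P : Subgroup L).map L.subtype with hS
  have hQS : Q ≤ S := fun q hq => Subgroup.mem_map.2 ⟨⟨q, hQL hq⟩, hP hq, rfl⟩
  have hN : Subgroup.normalizer (S : Set G) ≤ Subgroup.normalizer (Q : Set G) := by
    refine fun g hg => hL3 (Subgroup.mem_centralizer_iff.2 fun c hc => ?_)
    have hcenS : ∀ w ∈ S, (∀ s ∈ S, s * w = w * s) → w = 1 ∨ w = z := fun w _ hw => (hmem w).1 (by
      show w ∈ cen Q
      rw [cen, ← hL2]
      exact Subgroup.mem_centralizer_iff.2 fun q hq => hw q (hQS hq))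
    have hSp : IsPGroup 2 ↥S := P.2.map _
    haveI : Nontrivial ↥S := ⟨⟨⟨z, hQS hd.mem⟩, 1, fun e => hd.ne (congrArg Subtype.val e)⟩⟩
    haveI : Nontrivial ↥(Subgroup.center ↥S) := hSp.center_nontrivial
    obtain ⟨w, hw⟩ := exists_ne (1 : ↥(Subgroup.center ↥S))
    have hwS : ∀ s ∈ S, s * ((w : S) : G) = ((w : S) : G) * s := fun s hs =>
      congrArg Subtype.val (Subgroup.mem_center_iff.1 w.2 ⟨s, hs⟩)
    have hwz : ((w : S) : G) = z := (hcenS _ (w : S).2 hwS).resolve_left fun e => hw (Subtype.ext (Subtype.ext e))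
    rw [hwz] at hwS
    rcases (hmem c).1 hc with rfl | rfl
    · simp
    have hg' : ∀ s ∈ S, g⁻¹ * s * g ∈ S := fun s hs => by
      have := mem_conj (inv_mem hg) hs
      rwa [inv_inv] at this
    rcases hcenS (g * c * g⁻¹) (mem_conj hg (hQS hd.mem)) (fun s hs => by
      have h := hwS _ (hg' s hs)
      calc s * (g * c * g⁻¹) = g * (g⁻¹ * s * g * c) * g⁻¹ := by group
        _ = _ := by rw [h]; group) with e | e
    · exact absurd (conj_eq_one_iff.1 e) hd.ne
    · exact (mul_inv_eq_iff_eq_mul.1 e).symm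
  rw [eq_top_iff, ← Sylow.normalizer_sup_eq_top P]
  exact sup_le (hN.trans le_sup_right) le_sup_left

theorem two_central_of_large [Finite G] {z : G} (hz : orderOf z = 2) {Q : Subgroup G}
    (hQC : Q ≤ Subgroup.centralizer ({z} : Set G))
    (hQn : ∀ g ∈ Subgroup.centralizer ({z} : Set G), ∀ q ∈ Q, g * q * g⁻¹ ∈ Q) (hQ2 : IsPGroup 2 ↥Q)
    (hZ : Nat.card (Subgroup.center ↥Q) = 2) (hlarge : Subgroup.centralizer (Q : Set G) ≤ Q) :
    (∃ P : Sylow 2 G, (P : Subgroup G) ≤ Subgroup.centralizer ({z} : Set G)) ∧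
      ∀ u : G, orderOf u = 2 → (∃ P : Sylow 2 G, (P : Subgroup G) ≤ Subgroup.centralizer ({u} : Set G)) →
        IsConj z u := by
  haveI : Fact (Nat.Prime 2) := ⟨Nat.prime_two⟩
  set C := Subgroup.centralizer ({z} : Set G)
  have hcz : ∀ q ∈ Q, q * z = z * q := fun q hq => Subgroup.mem_centralizer_singleton_iff.1 (hQC hq)
  have hzQ : z ∈ Q := hlarge (Subgroup.mem_centralizer_iff.2 hcz)
  have hne : z ≠ 1 := fun e => by rw [e, orderOf_one] at hz; norm_num at hz
  have hcen : ∀ w, (∀ q ∈ Q, q * w = w * q) → w = 1 ∨ w = z := by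
    intro w hw
    have hwQ : w ∈ Q := hlarge (Subgroup.mem_centralizer_iff.2 hw)
    have hzc : (⟨z, hzQ⟩ : Q) ∈ Subgroup.center Q := Subgroup.mem_center_iff.2 fun b => Subtype.ext (hcz b b.2)
    have hwc : (⟨w, hwQ⟩ : Q) ∈ Subgroup.center Q := Subgroup.mem_center_iff.2 fun b => Subtype.ext (hw b b.2)
    rw [or_iff_not_imp_left]
    intro hw1
    obtain ⟨a, b, hab, he⟩ := Nat.card_eq_two_iff.1 hZ
    have h3 : ∀ c : ↥(Subgroup.center ↥Q), c = a ∨ c = b := fun c => by
      have : c ∈ (Set.univ : Set ↥(Subgroup.center ↥Q)) := trivial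
      rw [← he] at this
      exact this
    have h1 : ((a : Q) : G) = 1 ∨ ((b : Q) : G) = 1 := by
      rcases h3 1 with e | e
      · exact Or.inl (by rw [← e]; rfl)
      · exact Or.inr (by rw [← e]; rfl)
    have ew : w = ((a : Q) : G) ∨ w = ((b : Q) : G) := (h3 ⟨_, hwc⟩).imp
      (fun e => congrArg (fun c : ↥(Subgroup.center ↥Q) => ((c : Q) : G)) e)
      (fun e => congrArg (fun c : ↥(Subgroup.center ↥Q) => ((c : Q) : G)) e)
    have ez : z = ((a : Q) : G) ∨ z = ((b : Q) : G) := (h3 ⟨_, hzc⟩).imp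
      (fun e => congrArg (fun c : ↥(Subgroup.center ↥Q) => ((c : Q) : G)) e)
      (fun e => congrArg (fun c : ↥(Subgroup.center ↥Q) => ((c : Q) : G)) e)
    rcases h1 with e1 | e1 <;> rcases ew with e2 | e2 <;> rcases ez with e3 | e3 <;>
      first
      | exact absurd (e2.trans e1) hw1
      | exact absurd (e3.trans e1) hne
      | exact e2.trans e3.symm
  obtain ⟨S, hS⟩ := hQ2.exists_le_sylow
  have hSne : (S : Subgroup G) ≠ ⊥ := fun e => hne (by
    have := hS hzQ; rw [e] at this; exact Subgroup.mem_bot.1 this)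
  obtain ⟨w, -, hw1, -, hwc⟩ := exists_center_ne_one S hSne
  have hwz : w = z := (hcen w fun q hq => hwc q (hS hq)).resolve_left hw1
  subst hwz
  refine ⟨⟨S, fun s hs => Subgroup.mem_centralizer_singleton_iff.2 (hwc s hs)⟩, fun u hu hP => ?_⟩
  obtain ⟨P, hP⟩ := hP
  obtain ⟨g, hg⟩ := MulAction.exists_smul_eq G P S
  have hmem : ∀ s ∈ (S : Subgroup G), g⁻¹ * s * g ∈ (P : Subgroup G) := fun s hs => by
    rw [← hg] at hs
    rw [Sylow.coe_subgroup_smul, Subgroup.mem_pointwise_smul_iff_inv_smul_mem] at hs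
    simpa [mul_assoc] using hs
  have hc : ∀ s ∈ (S : Subgroup G), s * (g * u * g⁻¹) = g * u * g⁻¹ * s := fun s hs => by
    have h := Subgroup.mem_centralizer_singleton_iff.1 (hP (hmem s hs))
    calc s * (g * u * g⁻¹) = g * (g⁻¹ * s * g * u) * g⁻¹ := by group
      _ = _ := by rw [h]; group
  have hu1 : g * u * g⁻¹ ≠ 1 := fun e => by
    rw [conj_eq_one_iff.1 e, orderOf_one] at hu; norm_num at hu
  have he : g * u * g⁻¹ = w := (hcen _ fun q hq => hc q (hS hq)).resolve_left hu1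
  exact (isConj_iff.2 ⟨g, he⟩).symm

end CfsgLib.Extraspecial.Large
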