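import Cfsg.Agent.Lib.Extraspecial.LargeCriteria
import Cfsg.Agent.Lib.Extraspecial.Setting
import Cfsg.Agent.Lib.Fitting.Basic

/-!
The centralizer of a vector in an affine general linear group over the field of two elements has an
extraspecial core which is large in every group with the same centralizer.
-/

set_option autoImplicit false
set_option linter.style.haveILetI false

open Cfsg CfsgLib.Extraspecial.Large

namespace CfsgLib.Extraspecial.AffineModel

/-- the vectors of length `n` -/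
abbrev W (n : ℕ) : Type := Fin n → ZMod 2

/-- the space with a distinguished vector -/
abbrev V (n : ℕ) : Type := ZMod 2 × W n

/-- the distinguished vector -/
def e (n : ℕ) : V n := (1, 0)

theorem two_cases : ∀ a : ZMod 2, a = 0 ∨ a = 1 := by decide +kernel

theorem add_self (n : ℕ) (v : V n) : v + v = 0 := by
  ext <;> simp [CharTwo.add_self_eq_zero]

theorem add_self_fun {m : ℕ} (v : W m) : v + v = 0 := by
  funext i; exact CharTwo.add_self_eq_zero (v i)

variable {n : ℕ}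

/-- the transvections fixing the distinguished vector -/
def tA (a : W n) : V n ≃ₗ[ZMod 2] V n where
  toFun x := (x.1 + a ⬝ᵥ x.2, x.2)
  map_add' x y := by ext <;> simp [dotProduct_add, add_add_add_comm]
  map_smul' c x := by ext <;> simp [mul_add]
  invFun x := (x.1 + a ⬝ᵥ x.2, x.2)
  left_inv x := by ext <;> simp [add_assoc, CharTwo.add_self_eq_zero]
  right_inv x := by ext <;> simp [add_assoc, CharTwo.add_self_eq_zero]

theorem tA_apply (a : W n) (x : V n) : tA a x = (x.1 + a ⬝ᵥ x.2, x.2) := rfl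

theorem tA_mul (a b : W n) : tA a * tA b = tA (a + b) := by
  apply LinearEquiv.ext
  intro x
  show tA a (tA b x) = _
  simp [tA_apply, add_dotProduct, add_assoc, add_comm (b ⬝ᵥ x.2)]

theorem tA_zero : tA (0 : W n) = 1 := by
  apply LinearEquiv.ext
  intro x
  simp [tA_apply, LinearEquiv.coe_one]

theorem tA_injective : Function.Injective (tA (n := n)) := by
  intro a b h
  funext i
  have := congrArg Prod.fst (LinearEquiv.congr_fun h (0, Pi.single i 1))
  simpa [tA_apply] using this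

/-- the extension of an automorphism of the last coordinates -/
def kA : (W n ≃ₗ[ZMod 2] W n) →* (V n ≃ₗ[ZMod 2] V n) where
  toFun h := (LinearEquiv.refl (ZMod 2) (ZMod 2)).prodCongr h
  map_one' := LinearEquiv.ext fun _ => rfl
  map_mul' _ _ := LinearEquiv.ext fun _ => rfl

theorem kA_apply (h : W n ≃ₗ[ZMod 2] W n) (x : V n) : kA h x = (x.1, h x.2) := rfl

theorem kA_injective : Function.Injective (kA (n := n)) := by
  intro h h' e
  apply LinearEquiv.ext
  intro w
  exact congrArg Prod.snd (LinearEquiv.congr_fun e (0, w))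

theorem exists_dual (h : W n →ₗ[ZMod 2] ZMod 2) : ∃ a : W n, ∀ w, h w = a ⬝ᵥ w :=
  ⟨fun i => h (Pi.single i 1), fun w => by
    conv_lhs => rw [pi_eq_sum_univ' w]
    simp [dotProduct, mul_comm]⟩

theorem decompose {φ : V n ≃ₗ[ZMod 2] V n} (hφ : φ (e n) = e n) : ∃ a h, φ = tA a * kA h := by
  let hl : W n →ₗ[ZMod 2] W n :=
    (LinearMap.snd (ZMod 2) (ZMod 2) (W n)).comp (φ.toLinearMap.comp (LinearMap.inr (ZMod 2) (ZMod 2) (W n)))
  have hinj : Function.Injective hl := by
    intro w w' hw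
    have hd : (φ (0, w - w')).2 = 0 := by
      have : hl (w - w') = 0 := by rw [map_sub, hw, sub_self]
      exact this
    have e1 : φ (0, w - w') = φ ((φ (0, w - w')).1 • e n) := by
      rw [map_smul, hφ]
      ext <;> simp [e, hd]
    exact sub_eq_zero.1 (by simpa [e] using congrArg Prod.snd (φ.injective e1))
  let h : W n ≃ₗ[ZMod 2] W n := LinearEquiv.ofBijective hl ⟨hinj, Finite.injective_iff_surjective.1 hinj⟩
  obtain ⟨a, ha⟩ := exists_dual ((LinearMap.fst (ZMod 2) (ZMod 2) (W n)).comp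
    (φ.toLinearMap.comp ((LinearMap.inr (ZMod 2) (ZMod 2) (W n)).comp h.symm.toLinearMap)))
  refine ⟨a, h, LinearEquiv.ext fun x => ?_⟩
  show φ x = tA a (kA h x)
  have hx : x = x.1 • e n + (0, x.2) := by ext <;> simp [e]
  conv_lhs => rw [hx, map_add, map_smul, hφ]
  have hfst : (φ (0, x.2)).1 = a ⬝ᵥ h x.2 := by
    rw [← ha (h x.2)]
    simp
  ext
  · simp [tA_apply, kA_apply, e, hfst]
  · have hsnd : (φ (0, x.2)).2 = h x.2 := rfl
    simp [tA_apply, kA_apply, e, hsnd]

theorem conj_kA (h : W n ≃ₗ[ZMod 2] W n) (a : W n) :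
    ∃ a', kA h * tA a * (kA h)⁻¹ = tA a' := by
  obtain ⟨a', ha'⟩ := exists_dual ((dotProductBilin (ZMod 2) (ZMod 2) a).comp h.symm.toLinearMap)
  refine ⟨a', ?_⟩
  rw [mul_inv_eq_iff_eq_mul]
  apply LinearEquiv.ext
  intro x
  show kA h (tA a x) = tA a' (kA h x)
  have := ha' (h x.2)
  simp at this
  simp [kA_apply, tA_apply, ← this]

/-- Two nonzero vectors are conjugate. -/
theorem exists_move {m : ℕ} {x y : W m} (hx : x ≠ 0) (hy : y ≠ 0) :
    ∃ g : W m ≃ₗ[ZMod 2] W m, g x = y := by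
  obtain ⟨a, ha, hb⟩ : ∃ a : W m, a ⬝ᵥ x = 1 ∧ a ⬝ᵥ y = 1 := by
    obtain ⟨i, hi⟩ := Function.ne_iff.1 hx
    obtain ⟨j, hj⟩ := Function.ne_iff.1 hy
    replace hi : x i = 1 := (two_cases (x i)).resolve_left hi
    replace hj : y j = 1 := (two_cases (y j)).resolve_left hj
    rcases two_cases (y i) with hyi | hyi
    · rcases two_cases (x j) with hxj | hxj
      · exact ⟨Pi.single i 1 + Pi.single j 1, by simp [add_dotProduct, hi, hxj],
          by simp [add_dotProduct, hyi, hj]⟩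
      · exact ⟨Pi.single j 1, by simp [hxj], by simp [hj]⟩
    · exact ⟨Pi.single i 1, by simp [hi], by simp [hyi]⟩
  have hz : a ⬝ᵥ (x + y) = 0 := by rw [dotProduct_add, ha, hb]; decide +kernel
  have key : ∀ w, (w + (a ⬝ᵥ w) • (x + y)) + (a ⬝ᵥ (w + (a ⬝ᵥ w) • (x + y))) • (x + y) = w := by
    intro w
    rw [dotProduct_add, dotProduct_smul, hz, smul_zero, add_zero, add_assoc, add_self_fun, add_zero]
  refine ⟨{ toFun := fun w => w + (a ⬝ᵥ w) • (x + y)
            map_add' := fun u v => by rw [dotProduct_add, add_smul]; abel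
            map_smul' := fun c u => by simp [smul_add, smul_smul]
            invFun := fun w => w + (a ⬝ᵥ w) • (x + y)
            left_inv := key
            right_inv := key }, ?_⟩
  show x + (a ⬝ᵥ x) • (x + y) = y
  rw [ha, one_smul, ← add_assoc, add_self_fun, zero_add]

/-- The general linear group over the field of two elements has trivial two-core. -/
theorem eq_bot_of_normal {m : ℕ} {R : Subgroup (W m ≃ₗ[ZMod 2] W m)} [R.Normal] (hR : IsPGroup 2 R) :
    R = ⊥ := by
  haveI : Fact (Nat.Prime 2) := ⟨Nat.prime_two⟩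
  rw [Subgroup.eq_bot_iff_forall]
  intro r hr
  apply LinearEquiv.ext
  intro w
  by_cases hw : w = 0
  · subst hw; simp
  have hdvd : 2 ∣ Nat.card (W m) := by
    rcases Nat.eq_zero_or_pos m with rfl | hm
    · exact absurd (Subsingleton.elim w 0) hw
    · rw [Nat.card_fun, Nat.card_zmod, Nat.card_eq_fintype_card, Fintype.card_fin]
      exact dvd_pow_self 2 hm.ne'
  have h0 : (0 : W m) ∈ MulAction.fixedPoints R (W m) := fun g => map_zero (g : W m ≃ₗ[ZMod 2] W m)
  obtain ⟨w₀, hw₀, hne⟩ := hR.exists_fixed_point_of_prime_dvd_card_of_fixed_point (W m) hdvd h0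
  obtain ⟨g, hg⟩ := exists_move hne.symm hw
  have := hw₀ ⟨g⁻¹ * r * g⁻¹⁻¹, (inferInstance : R.Normal).conj_mem r hr _⟩
  have e1 : g.symm (r (g w₀)) = w₀ := this
  rw [hg, LinearEquiv.symm_apply_eq, hg] at e1
  simpa using e1

/-- An affine group inside `G` containing the centralizer of the distinguished vector. -/
structure Affine (G : Type*) [Group G] (n : ℕ) where
  iU : V n → G
  iU_add : ∀ v w, iU (v + w) = iU v * iU w
  iU_inj : Function.Injective iU
  iM : (V n ≃ₗ[ZMod 2] V n) →* G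
  conj : ∀ φ v, iM φ * iU v * (iM φ)⁻¹ = iU (φ v)
  disj : ∀ φ v, iM φ = iU v → φ = 1
  cent : ∀ c, c * iU (e n) = iU (e n) * c → ∃ φ v, c = iM φ * iU v

namespace Affine

variable {G : Type*} [Group G] (A : Affine G n)

theorem iU_zero : A.iU 0 = 1 := by
  have := A.iU_add 0 0
  rw [add_zero] at this
  exact left_eq_mul.1 this

theorem iU_two (v : V n) : A.iU v * A.iU v = 1 := by rw [← A.iU_add, add_self, A.iU_zero]

theorem iU_inv (v : V n) : (A.iU v)⁻¹ = A.iU v := inv_eq_of_mul_eq_one_right (A.iU_two v)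

theorem push (φ : V n ≃ₗ[ZMod 2] V n) (v : V n) : A.iM φ * A.iU v = A.iU (φ v) * A.iM φ :=
  mul_inv_eq_iff_eq_mul.1 (A.conj φ v)

theorem iM_inj : Function.Injective A.iM := (injective_iff_map_eq_one _).2 fun φ h =>
  A.disj φ 0 (h.trans A.iU_zero.symm)

theorem unique {v v' : V n} {φ φ' : V n ≃ₗ[ZMod 2] V n} (h : A.iU v * A.iM φ = A.iU v' * A.iM φ') :
    v = v' ∧ φ = φ' := by
  have h1 : A.iM (φ * φ'⁻¹) = A.iU (v + v') := by
    rw [map_mul, map_inv, A.iU_add, mul_inv_eq_iff_eq_mul, mul_assoc, ← h, ← mul_assoc, A.iU_two, one_mul]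
  have h2 := mul_inv_eq_one.1 (A.disj _ _ h1)
  subst h2
  exact ⟨A.iU_inj (mul_right_cancel h), rfl⟩

/-- the involution -/
def z : G := A.iU (e n)

theorem cent' {c : G} (h : c * A.z = A.z * c) : ∃ v a k, c = A.iU v * A.iM (tA a * kA k) := by
  obtain ⟨φ, v, rfl⟩ := A.cent c h
  have hfix : φ (e n) = e n := by
    have h' : A.iM φ * A.iU v * A.iU (e n) * (A.iM φ * A.iU v)⁻¹ = A.iU (e n) := mul_inv_eq_iff_eq_mul.2 h
    refine A.iU_inj (Eq.trans ?_ h')
    rw [← A.conj φ (e n)]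
    have : A.iU v * A.iU (e n) * (A.iU v)⁻¹ = A.iU (e n) := by
      rw [← A.iU_add, add_comm, A.iU_add, mul_inv_cancel_right]
    calc A.iM φ * A.iU (e n) * (A.iM φ)⁻¹ = A.iM φ * (A.iU v * A.iU (e n) * (A.iU v)⁻¹) * (A.iM φ)⁻¹ := by
          rw [this]
      _ = _ := by group
  obtain ⟨a, k, rfl⟩ := decompose hfix
  exact ⟨_, a, k, A.push _ v⟩

theorem q_mul (v w : V n) (a b : W n) :
    A.iU v * A.iM (tA a) * (A.iU w * A.iM (tA b)) = A.iU (v + tA a w) * A.iM (tA (a + b)) := by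
  calc A.iU v * A.iM (tA a) * (A.iU w * A.iM (tA b)) = A.iU v * (A.iM (tA a) * A.iU w) * A.iM (tA b) := by group
    _ = A.iU v * A.iU (tA a w) * (A.iM (tA a) * A.iM (tA b)) := by rw [A.push]; group
    _ = _ := by rw [← A.iU_add, ← map_mul, tA_mul]

/-- the extraspecial subgroup -/
def core : Subgroup G where
  carrier := {g | ∃ v a, g = A.iU v * A.iM (tA a)}
  one_mem' := ⟨0, 0, by rw [A.iU_zero, tA_zero, map_one, mul_one]⟩
  mul_mem' := by
    rintro _ _ ⟨v, a, rfl⟩ ⟨w, b, rfl⟩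
    exact ⟨_, _, A.q_mul v w a b⟩
  inv_mem' := by
    rintro _ ⟨v, a, rfl⟩
    refine ⟨tA a v, a, inv_eq_of_mul_eq_one_right ?_⟩
    rw [A.q_mul, show tA a (tA a v) = (tA a * tA a) v from rfl, tA_mul, add_self_fun, tA_zero]
    simp [add_self, A.iU_zero]

theorem mem_core {g : G} : g ∈ A.core ↔ ∃ v a, g = A.iU v * A.iM (tA a) := Iff.rfl

theorem iU_mem (v : V n) : A.iU v ∈ A.core := ⟨v, 0, by rw [tA_zero, map_one, mul_one]⟩

theorem tA_mem (a : W n) : A.iM (tA a) ∈ A.core := ⟨0, a, by rw [A.iU_zero, one_mul]⟩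

/-- the parametrisation of the core -/
noncomputable def coreEquiv : V n × W n ≃ A.core :=
  Equiv.ofBijective (fun p => ⟨_, p.1, p.2, rfl⟩) ⟨fun p q h => by
    obtain ⟨h1, h2⟩ := A.unique (congrArg Subtype.val h)
    exact Prod.ext h1 (tA_injective h2), fun ⟨g, v, a, h⟩ => ⟨(v, a), Subtype.ext h.symm⟩⟩

theorem card_core : Nat.card A.core = 2 ^ (2 * n + 1) := by
  rw [← Nat.card_congr A.coreEquiv]
  simp [Nat.card_prod, Nat.card_fun, Nat.card_zmod, Nat.card_eq_fintype_card]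
  ring

theorem core_commutes_z {g : G} (hg : g ∈ A.core) : g * A.z = A.z * g := by
  obtain ⟨v, a, rfl⟩ := hg
  show A.iU v * A.iM (tA a) * A.iU (e n) = A.iU (e n) * (A.iU v * A.iM (tA a))
  rw [mul_assoc, A.push, show tA a (e n) = e n by simp [tA_apply, e], ← mul_assoc, ← mul_assoc, ← A.iU_add,
    ← A.iU_add, add_comm v]

theorem center_cases {g : G} (hg : g ∈ A.core) (h : ∀ b ∈ A.core, g * b = b * g) : g = 1 ∨ g = A.z := by
  obtain ⟨v, a, rfl⟩ := hg
  have ha : a = 0 := by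
    funext i
    have h1 := h _ (A.iU_mem (0, Pi.single i 1))
    rw [show A.iU (0, Pi.single i 1) = A.iU (0, Pi.single i 1) * A.iM (tA 0) by rw [tA_zero, map_one, mul_one],
      A.q_mul, A.q_mul] at h1
    have h2 := congrArg Prod.fst (A.unique h1).1
    simp [tA_apply] at h2
    exact h2
  subst ha
  have hv : v.2 = 0 := by
    funext i
    have h1 := h _ (A.tA_mem (Pi.single i 1))
    rw [show A.iM (tA (Pi.single i 1)) = A.iU 0 * A.iM (tA (Pi.single i 1)) by rw [A.iU_zero, one_mul],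
      A.q_mul, A.q_mul] at h1
    have h2 := congrArg Prod.fst (A.unique h1).1
    simp [tA_apply] at h2
    exact h2
  rw [tA_zero, map_one, mul_one]
  rcases two_cases v.1 with h0 | h0
  · exact Or.inl (by rw [show v = 0 from Prod.ext h0 hv]; exact A.iU_zero)
  · exact Or.inr (by rw [show v = e n from Prod.ext h0 hv]; rfl)

theorem z_pow (t : ZMod 2) : A.iU (t, 0) = 1 ∨ A.iU (t, 0) = A.z := by
  rcases two_cases t with rfl | rfl
  · exact Or.inl A.iU_zero
  · exact Or.inr rfl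

theorem comm_cases {g h : G} (hg : g ∈ A.core) (hh : h ∈ A.core) :
    g * h * g⁻¹ * h⁻¹ = 1 ∨ g * h * g⁻¹ * h⁻¹ = A.z := by
  obtain ⟨v, a, rfl⟩ := hg
  obtain ⟨w, b, rfl⟩ := hh
  have key : A.iU v * A.iM (tA a) * (A.iU w * A.iM (tA b)) =
      A.iU (a ⬝ᵥ w.2 + b ⬝ᵥ v.2, 0) * (A.iU w * A.iM (tA b) * (A.iU v * A.iM (tA a))) := by
    rw [A.q_mul, A.q_mul, ← mul_assoc, ← A.iU_add, add_comm b a]
    congr 2
    ext <;> simp [tA_apply] <;> (first | ring1 | linear_combination CharTwo.add_self_eq_zero (b ⬝ᵥ v.2) | linear_combination -CharTwo.add_self_eq_zero (b ⬝ᵥ v.2))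
  have e1 : ∀ g h t : G, g * h = t * (h * g) → g * h * g⁻¹ * h⁻¹ = t := fun g h t e => by rw [e]; group
  rw [e1 _ _ _ key]
  exact A.z_pow _

theorem sq_cases {g : G} (hg : g ∈ A.core) : g * g = 1 ∨ g * g = A.z := by
  obtain ⟨v, a, rfl⟩ := hg
  rw [A.q_mul, add_self_fun, tA_zero, map_one, mul_one,
    show v + tA a v = (a ⬝ᵥ v.2, 0) by ext <;> simp [tA_apply, ← add_assoc, CharTwo.add_self_eq_zero]]
  exact A.z_pow _

theorem z_ne : A.z ≠ 1 := fun h => one_ne_zero (congrArg Prod.fst (A.iU_inj (h.trans A.iU_zero.symm)))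

theorem core_two_group : IsPGroup 2 A.core := by
  haveI : Fact (Nat.Prime 2) := ⟨Nat.prime_two⟩
  exact IsPGroup.of_card A.card_core

variable [Finite G]

theorem extraspecial (hn : 1 ≤ n) : IsExtraspecial 2 A.core := by
  haveI : Fact (Nat.Prime 2) := ⟨Nat.prime_two⟩
  have hzc : (⟨A.z, A.iU_mem _⟩ : A.core) ∈ Subgroup.center A.core :=
    Subgroup.mem_center_iff.2 fun g => Subtype.ext (A.core_commutes_z g.2)
  have hcen : ∀ g : A.core, ((g : G) = 1 ∨ (g : G) = A.z) → g ∈ Subgroup.center A.core := by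
    rintro g (h | h)
    · rw [show g = 1 from Subtype.ext h]; exact one_mem _
    · rw [show g = ⟨A.z, A.iU_mem _⟩ from Subtype.ext h]; exact hzc
  refine isExtraspecial_of A.core_two_group ?_ (fun a b => hcen _ ?_) (fun a => hcen _ ?_) ?_
  · have hz1 : (⟨A.z, A.iU_mem _⟩ : A.core) ≠ 1 := fun h => A.z_ne (congrArg Subtype.val h)
    have : (Subgroup.center A.core : Set A.core) = {1, ⟨A.z, A.iU_mem _⟩} := by
      ext g
      constructor
      · intro hg
        rcases A.center_cases g.2 (fun b hb => (congrArg Subtype.val (Subgroup.mem_center_iff.1 hg ⟨b, hb⟩)).symm)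
          with h | h
        · exact Or.inl (Subtype.ext h)
        · exact Or.inr (Subtype.ext h)
      · rintro (rfl | rfl)
        exacts [one_mem _, hzc]
    rw [← SetLike.coe_sort_coe, Nat.card_coe_set_eq, this, Set.ncard_pair hz1.symm]
  · simpa [commutatorElement_def] using A.comm_cases a.2 b.2
  · simpa [sq] using A.sq_cases a.2
  · refine ⟨⟨_, A.tA_mem (Pi.single ⟨0, hn⟩ 1)⟩, ⟨_, A.iU_mem (0, Pi.single ⟨0, hn⟩ 1)⟩, fun h => ?_⟩
    have h' := congrArg Subtype.val (commutatorElement_eq_one_iff_mul_comm.1 h)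
    simp only [Subgroup.coe_mul] at h'
    rw [A.push] at h'
    have := congrArg Prod.fst (A.unique h').1
    simp [tA_apply] at this

theorem le_centralizer : A.core ≤ Subgroup.centralizer ({A.z} : Set G) := fun _ hg =>
  Subgroup.mem_centralizer_singleton_iff.2 (A.core_commutes_z hg)

theorem kA_mem (k : W n ≃ₗ[ZMod 2] W n) : A.iM (kA k) ∈ Subgroup.centralizer ({A.z} : Set G) := by
  refine Subgroup.mem_centralizer_singleton_iff.2 ?_
  show A.iM (kA k) * A.iU (e n) = A.iU (e n) * A.iM (kA k)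
  rw [A.push]
  simp [kA_apply, e]

/-- the complement, as a homomorphism -/
def kHom : (W n ≃ₗ[ZMod 2] W n) →* Subgroup.centralizer ({A.z} : Set G) :=
  (A.iM.comp kA).codRestrict _ A.kA_mem

theorem kHom_injective : Function.Injective A.kHom := fun _ _ h =>
  kA_injective (A.iM_inj (congrArg Subtype.val h))

theorem factor {c : G} (hc : c ∈ Subgroup.centralizer ({A.z} : Set G)) : ∃ q ∈ A.core, ∃ k, c = q * A.iM (kA k) := by
  obtain ⟨v, a, k, rfl⟩ := A.cent' (Subgroup.mem_centralizer_singleton_iff.1 hc)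
  exact ⟨_, ⟨v, a, rfl⟩, k, by rw [map_mul, mul_assoc]⟩

theorem kA_conj_core (k : W n ≃ₗ[ZMod 2] W n) {q : G} (hq : q ∈ A.core) :
    A.iM (kA k) * q * (A.iM (kA k))⁻¹ ∈ A.core := by
  obtain ⟨v, a, rfl⟩ := hq
  obtain ⟨a', ha'⟩ := conj_kA k a
  refine ⟨kA k v, a', ?_⟩
  rw [← ha', map_mul, map_mul, map_inv, ← A.conj]
  group

theorem conj_core {c q : G} (hc : c ∈ Subgroup.centralizer ({A.z} : Set G)) (hq : q ∈ A.core) :
    c * q * c⁻¹ ∈ A.core := by
  obtain ⟨p, hp, k, rfl⟩ := A.factor hc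
  rw [show p * A.iM (kA k) * q * (p * A.iM (kA k))⁻¹ = p * (A.iM (kA k) * q * (A.iM (kA k))⁻¹) * p⁻¹ by group]
  exact mul_mem (mul_mem hp (A.kA_conj_core k hq)) (inv_mem hp)

theorem core_eq :
    A.core = (Cfsg.pCore 2 ↥(Subgroup.centralizer ({A.z} : Set G))).map
      (Subgroup.centralizer ({A.z} : Set G)).subtype := by
  haveI : Fact (Nat.Prime 2) := ⟨Nat.prime_two⟩
  set C := Subgroup.centralizer ({A.z} : Set G) with hC
  have hle : A.core.subgroupOf C ≤ Cfsg.pCore 2 C := Fitting.le_pCore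
    ⟨fun x hx g => Subgroup.mem_subgroupOf.2 (A.conj_core g.2 (Subgroup.mem_subgroupOf.1 hx))⟩
    (A.core_two_group.comap_of_injective C.subtype C.subtype_injective)
  haveI := Fitting.pCore_normal (G := C) 2
  have hR : (Cfsg.pCore 2 C).comap A.kHom = ⊥ :=
    eq_bot_of_normal ((Fitting.pCore_isPGroup 2).comap_of_injective A.kHom A.kHom_injective)
  refine le_antisymm (fun q hq => ⟨⟨q, A.le_centralizer hq⟩, hle (Subgroup.mem_subgroupOf.2 hq), rfl⟩) ?_
  rintro _ ⟨⟨c, hc⟩, hcP, rfl⟩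
  obtain ⟨q, hq, k, rfl⟩ := A.factor hc
  have hk : A.kHom k ∈ Cfsg.pCore 2 C := by
    have h1 : (⟨q, A.le_centralizer hq⟩ : C) ∈ Cfsg.pCore 2 C := hle (Subgroup.mem_subgroupOf.2 hq)
    have := mul_mem (inv_mem h1) hcP
    convert this using 1
    exact Subtype.ext (by show A.iM (kA k) = q⁻¹ * (q * A.iM (kA k)); group)
  have hk1 : k = 1 := by
    rw [← Subgroup.mem_bot, ← hR]; exact hk
  show q * A.iM (kA k) ∈ A.core
  rw [hk1, map_one, map_one, mul_one]
  exact hq

theorem centralizer_core : Subgroup.centralizer (A.core : Set G) = cen A.core ∧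
    ∀ g, g ∈ cen A.core ↔ g = 1 ∨ g = A.z := by
  have hcen : ∀ g, g ∈ cen A.core ↔ g = 1 ∨ g = A.z := by
    intro g
    constructor
    · rintro ⟨w, hw, rfl⟩
      exact A.center_cases w.2 fun b hb => (congrArg Subtype.val (Subgroup.mem_center_iff.1 hw ⟨b, hb⟩)).symm
    · rintro (rfl | rfl)
      · exact one_mem _
      · exact ⟨⟨A.z, A.iU_mem _⟩, Subgroup.mem_center_iff.2 fun g => Subtype.ext (A.core_commutes_z g.2), rfl⟩
  refine ⟨le_antisymm (fun c hc => ?_) fun c hc => ?_, hcen⟩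
  · rw [Subgroup.mem_centralizer_iff] at hc
    obtain ⟨φ, v, rfl⟩ := A.cent c (hc _ (A.iU_mem (e n))).symm
    have h1 : φ = 1 := by
      apply LinearEquiv.ext
      intro w
      refine A.iU_inj ?_
      have := hc _ (A.iU_mem w)
      rw [mul_assoc (A.iM φ) (A.iU v), ← A.iU_add, add_comm v w, A.iU_add, ← mul_assoc (A.iM φ) (A.iU w),
        A.push φ w, ← mul_assoc, mul_left_inj, mul_left_inj] at this
      exact this.symm
    subst h1
    rw [map_one, one_mul] at hc ⊢
    exact (hcen _).2 (A.center_cases (A.iU_mem v) fun b hb => (hc b hb).symm)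
  · refine Subgroup.mem_centralizer_iff.2 fun q hq => ?_
    rcases (hcen c).1 hc with rfl | rfl
    · rw [one_mul, mul_one]
    · exact A.core_commutes_z hq

theorem large (hn : 1 ≤ n) : IsLargeExtraspecial A.core := by
  haveI : Fact (Nat.Prime 2) := ⟨Nat.prime_two⟩
  obtain ⟨hcq, hcen⟩ := A.centralizer_core
  set s : W n := Pi.single ⟨0, hn⟩ 1 with hs
  have hs0 : s ≠ 0 := fun h => by simpa [hs] using congrFun h ⟨0, hn⟩
  have hnorm : Subgroup.centralizer (cen A.core : Set G) ≤ Subgroup.normalizer (A.core : Set G) := by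
    intro c hc
    have hcz : c ∈ Subgroup.centralizer ({A.z} : Set G) := Subgroup.mem_centralizer_singleton_iff.2
      (Subgroup.mem_centralizer_iff.1 hc A.z ((hcen _).2 (Or.inr rfl))).symm
    exact Subgroup.mem_normalizer_fintype fun q hq => A.conj_core hcz hq
  refine large_of_involution (A.extraspecial hn) hcq hnorm (A.iU_mem (0, s)) ?_ ?_ ?_
  · intro h
    rcases (hcen _).1 h with h | h
    · exact hs0 (congrArg Prod.snd (A.iU_inj (h.trans A.iU_zero.symm)))
    · exact hs0 (congrArg Prod.snd (A.iU_inj h))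
  · refine orderOf_eq_prime (by rw [sq]; exact A.iU_two _) fun h => ?_
    exact hs0 (congrArg Prod.snd (A.iU_inj (h.trans A.iU_zero.symm)))
  · intro c hc
    obtain ⟨φ, hφ⟩ : ∃ φ : V n ≃ₗ[ZMod 2] V n, φ (e n) = (0, s) := by
      let L : V n ≃ₗ[ZMod 2] W (n + 1) := Fin.consLinearEquiv (ZMod 2) fun _ => ZMod 2
      obtain ⟨g, hg⟩ := exists_move (x := L (e n)) (y := L (0, s))
        (fun h => one_ne_zero (congrArg Prod.fst (L.map_eq_zero_iff.1 h)))
        (fun h => hs0 (congrArg Prod.snd (L.map_eq_zero_iff.1 h)))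
      exact ⟨(L.trans g).trans L.symm, by simp [hg]⟩
    have hmem : ∀ w : V n, A.iU w ∈ (Cfsg.pCore 2 ↥(Subgroup.centralizer ({A.iU (0, s)} : Set G))).map
        (Subgroup.centralizer ({A.iU (0, s)} : Set G)).subtype := by
      intro w
      have h := Symm.conj_mem_core 2 (A.iM φ) A.z (q := A.iU (φ.symm w)) (by
        rw [← A.core_eq]; exact A.iU_mem _)
      rw [A.conj, show A.iM φ * A.z * (A.iM φ)⁻¹ = A.iU (0, s) by rw [z, A.conj, hφ],
        φ.apply_symm_apply] at h
      exact h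
    rcases (hcen c).1 hc with rfl | rfl
    · exact one_mem _
    · exact hmem _

theorem main (hn : 1 ≤ n) (Q : Subgroup G)
    (hQ : Q = (Cfsg.pCore 2 ↥(Subgroup.centralizer ({A.z} : Set G))).map
      (Subgroup.centralizer ({A.z} : Set G)).subtype) :
    IsExtraspecial 2 Q ∧ Nat.card Q = 2 ^ (2 * n + 1) ∧
    (∃ E : Subgroup G, E ≤ Q ∧ IsElementaryAbelian 2 E ∧ Nat.card E = 2 ^ (n + 1)) ∧
    IsLargeExtraspecial Q ∧
    ∃ K : Subgroup G, K ≤ Subgroup.centralizer ({A.z} : Set G) ∧ Q ⊓ K = ⊥ ∧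
      Q ⊔ K = Subgroup.centralizer ({A.z} : Set G) ∧ Nonempty (K ≃* Matrix.GeneralLinearGroup (Fin n) (ZMod 2)) := by
  rw [← A.core_eq] at hQ
  subst hQ
  refine ⟨A.extraspecial hn, A.card_core, ?_, A.large hn, ?_⟩
  · let f : Multiplicative (V n) →* G :=
      { toFun := fun v => A.iU v.toAdd
        map_one' := A.iU_zero
        map_mul' := fun v w => A.iU_add _ _ }
    refine ⟨f.range, ?_, ⟨?_, ?_⟩, ?_⟩
    · rintro _ ⟨v, rfl⟩; exact A.iU_mem _
    · refine ⟨⟨fun ⟨_, v, rfl⟩ ⟨_, w, rfl⟩ => Subtype.ext ?_⟩⟩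
      show f v * f w = f w * f v
      rw [← map_mul, mul_comm, map_mul]
    · rintro _ ⟨v, rfl⟩
      rw [sq]; exact A.iU_two _
    · rw [← Nat.card_congr (MonoidHom.ofInjective (f := f) fun v w h => A.iU_inj h).toEquiv,
        Nat.card_congr Multiplicative.toAdd]
      simp [Nat.card_prod, Nat.card_fun, Nat.card_zmod, Nat.card_eq_fintype_card, pow_succ, mul_comm]
  · refine ⟨(A.iM.comp kA).range, ?_, ?_, ?_, ?_⟩
    · rintro _ ⟨k, rfl⟩; exact A.kA_mem k
    · rw [Subgroup.eq_bot_iff_forall]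
      rintro _ ⟨⟨v, a, h⟩, k, rfl⟩
      have h' : A.iU 0 * A.iM (kA k) = A.iU v * A.iM (tA a) := by rw [A.iU_zero, one_mul]; exact h
      obtain ⟨-, hk⟩ := A.unique h'
      have hk1 : k = 1 := LinearEquiv.ext fun w => congrArg Prod.snd (LinearEquiv.congr_fun hk (0, w))
      rw [hk1, map_one]
    · refine le_antisymm (sup_le A.le_centralizer ?_) fun c hc => ?_
      · rintro _ ⟨k, rfl⟩; exact A.kA_mem k
      · obtain ⟨q, hq, k, rfl⟩ := A.factor hc
        exact Subgroup.mul_mem_sup hq ⟨k, rfl⟩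
    · exact ⟨(MonoidHom.ofInjective (f := A.iM.comp kA) (A.iM_inj.comp kA_injective)).symm.trans
        ((LinearMap.GeneralLinearGroup.generalLinearEquiv (ZMod 2) (W n)).symm.trans
          Matrix.GeneralLinearGroup.toLin.symm)⟩

end Affine

end CfsgLib.Extraspecial.AffineModel
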