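import Cfsg.Agent.Lib.Extraspecial.AffineModel
import Mathlib.Algebra.Module.ZMod

/-!
An affine structure from a normalised elementary abelian subgroup with full automorphism action.
-/

set_option autoImplicit false
set_option linter.style.haveILetI false

open Cfsg

namespace CfsgLib.Extraspecial.AffineModel

variable {G : Type*} [Group G] [Finite G] {n : ℕ}

theorem exists_param (U : Subgroup G) (hU : IsElementaryAbelian 2 U) (hcard : Nat.card U = 2 ^ (n + 1))
    {z : G} (hz : z ∈ U) (hz1 : z ≠ 1) :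
    ∃ iU : V n → G, (∀ v w, iU (v + w) = iU v * iU w) ∧ Function.Injective iU ∧
      (∀ g, g ∈ U ↔ ∃ v, iU v = g) ∧ iU (e n) = z := by
  haveI : Fact (Nat.Prime 2) := ⟨Nat.prime_two⟩
  haveI := hU.1
  open scoped IsMulCommutative in
  letI : Module (ZMod 2) (Additive U) := AddCommGroup.zmodModule (n := 2) (by
    intro x
    apply Additive.toMul.injective
    apply Subtype.ext
    exact hU.2 _ x.toMul.2)
  have hfr : Module.finrank (ZMod 2) (Additive U) = n + 1 := by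
    have h := Module.natCard_eq_pow_finrank (K := ZMod 2) (V := Additive U)
    rw [Nat.card_congr Additive.toMul, hcard, Nat.card_zmod] at h
    exact (Nat.pow_right_injective le_rfl h).symm
  let L₀ : Additive U ≃ₗ[ZMod 2] W (n + 1) := (Module.finBasisOfFinrankEq _ _ hfr).equivFun
  let C : V n ≃ₗ[ZMod 2] W (n + 1) := Fin.consLinearEquiv (ZMod 2) fun _ => ZMod 2
  obtain ⟨g, hg⟩ := exists_move (x := L₀ (Additive.ofMul ⟨z, hz⟩)) (y := C (e n))
    (fun h => hz1 (congrArg (fun u : Additive U => (u.toMul : G)) (L₀.map_eq_zero_iff.1 h)))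
    (fun h => one_ne_zero (congrArg Prod.fst (C.map_eq_zero_iff.1 h)))
  let L : V n ≃ₗ[ZMod 2] Additive U := ((L₀.trans g).trans C.symm).symm
  refine ⟨fun v => ((L v).toMul : G), fun v w => ?_, fun v w h => ?_, fun x => ⟨fun hx => ?_, ?_⟩, ?_⟩
  · simp [map_add]
  · exact L.injective (Additive.toMul.injective (Subtype.ext h))
  · exact ⟨L.symm (Additive.ofMul ⟨x, hx⟩), by simp⟩
  · rintro ⟨v, rfl⟩; exact (L v).toMul.2
  · have hLz : L (e n) = Additive.ofMul ⟨z, hz⟩ := by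
      apply L.symm.injective
      rw [LinearEquiv.symm_apply_apply]
      show e n = C.symm (g (L₀ (Additive.ofMul ⟨z, hz⟩)))
      rw [hg, LinearEquiv.symm_apply_apply]
    show ((L (e n)).toMul : G) = z
    rw [hLz]; rfl

theorem exists_affine (U M : Subgroup G) (hU : IsElementaryAbelian 2 U) (hcard : Nat.card U = 2 ^ (n + 1))
    (hnorm : ∀ m ∈ M, ∀ u ∈ U, m * u * m⁻¹ ∈ U) (hdisj : U ⊓ M = ⊥)
    (hfaith : ∀ m ∈ M, (∀ u ∈ U, m * u * m⁻¹ = u) → m = 1)
    (hfull : ∀ φ : ↥U ≃* ↥U, ∃ m ∈ M, ∀ u : ↥U, ((φ u : ↥U) : G) = m * u * m⁻¹)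
    {z : G} (hz : z ∈ U) (hz1 : z ≠ 1)
    (hcent : ∀ c, c * z = z * c → ∃ m ∈ M, ∃ u ∈ U, c = m * u) :
    ∃ A : Affine G n, A.z = z := by
  classical
  obtain ⟨iU, hadd, hinj, hrange, hze⟩ := exists_param U hU hcard hz hz1
  have hex : ∀ (m : M) (v : V n), ∃ w, iU w = (m : G) * iU v * (m : G)⁻¹ := fun m v =>
    (hrange _).1 (hnorm m m.2 _ ((hrange _).2 ⟨v, rfl⟩))
  choose f hf using hex
  have hlin : ∀ m v w, f m (v + w) = f m v + f m w := fun m v w => hinj (by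
    rw [hf, hadd, hadd, hf, hf]; group)
  let fl : M → (V n →ₗ[ZMod 2] V n) := fun m => (AddMonoidHom.mk' (f m) (hlin m)).toZModLinearMap 2
  have hfl : ∀ m v, fl m v = f m v := fun _ _ => rfl
  have hfinj : ∀ m, Function.Injective (fl m) := fun m v w h => hinj (by
    have := congrArg iU h
    rw [hfl, hfl, hf, hf] at this
    exact mul_left_cancel (mul_right_cancel this))
  let ρ : M →* (V n ≃ₗ[ZMod 2] V n) := MonoidHom.mk'
    (fun m => LinearEquiv.ofBijective (fl m) ⟨hfinj m, Finite.injective_iff_surjective.1 (hfinj m)⟩)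
    (fun a b => LinearEquiv.ext fun v => hinj (by
      show iU (f (a * b) v) = iU (f a (f b v))
      rw [hf, hf, hf, Subgroup.coe_mul]; group))
  have hρ : ∀ (m : M) v, iU (ρ m v) = (m : G) * iU v * (m : G)⁻¹ := fun m v => hf m v
  have hρb : Function.Bijective ρ := by
    refine ⟨(injective_iff_map_eq_one _).2 fun m hm => Subtype.ext (hfaith m m.2 fun u hu => ?_), fun φ => ?_⟩
    · obtain ⟨v, rfl⟩ := (hrange u).1 hu
      rw [← hρ, hm]; rfl
    · let b : V n ≃ U := Equiv.ofBijective (fun v => ⟨iU v, (hrange _).2 ⟨v, rfl⟩⟩)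
        ⟨fun v w h => hinj (congrArg Subtype.val h), fun u => by
          obtain ⟨v, hv⟩ := (hrange _).1 u.2; exact ⟨v, Subtype.ext hv⟩⟩
      have hb : ∀ v w, b (v + w) = b v * b w := fun v w => Subtype.ext (hadd v w)
      let ψ : U ≃* U :=
        { toEquiv := (b.symm.trans φ.toEquiv).trans b
          map_mul' := fun x y => by
            obtain ⟨v, rfl⟩ := b.surjective x
            obtain ⟨w, rfl⟩ := b.surjective y
            simp [← hb] }
      obtain ⟨m, hm, hmφ⟩ := hfull ψ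
      refine ⟨⟨m, hm⟩, LinearEquiv.ext fun v => hinj ?_⟩
      rw [hρ]
      have := hmφ (b v)
      rw [show ψ (b v) = b (φ v) by simp [ψ]] at this
      exact this.symm
  let eq := MulEquiv.ofBijective ρ hρb
  refine ⟨{ iU := iU, iU_add := hadd, iU_inj := hinj, iM := M.subtype.comp eq.symm.toMonoidHom,
            conj := fun φ v => ?_, disj := fun φ v h => ?_, cent := fun c hc => ?_ }, hze⟩
  · show ((eq.symm φ : M) : G) * iU v * ((eq.symm φ : M) : G)⁻¹ = _
    rw [← hρ]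
    show iU (eq (eq.symm φ) v) = _
    rw [MulEquiv.apply_symm_apply]
  · have h1 : (eq.symm φ : M) = 1 := Subtype.ext (Subgroup.mem_bot.1
      (hdisj ▸ (⟨(hrange _).2 ⟨v, h.symm⟩, (eq.symm φ).2⟩ : ((eq.symm φ : M) : G) ∈ U ⊓ M)))
    rw [← eq.apply_symm_apply φ, h1, map_one]
  · rw [hze] at hc
    obtain ⟨m, hm, u, hu, rfl⟩ := hcent c hc
    obtain ⟨v, rfl⟩ := (hrange u).1 hu
    exact ⟨eq ⟨m, hm⟩, v, by simp⟩

/-- The conclusion for the centralizer of a vector in an affine group. -/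
theorem large_of_affine (hn : 1 ≤ n) (U M : Subgroup G) (hU : IsElementaryAbelian 2 U)
    (hcard : Nat.card U = 2 ^ (n + 1))
    (hnorm : ∀ m ∈ M, ∀ u ∈ U, m * u * m⁻¹ ∈ U) (hdisj : U ⊓ M = ⊥)
    (hfaith : ∀ m ∈ M, (∀ u ∈ U, m * u * m⁻¹ = u) → m = 1)
    (hfull : ∀ φ : ↥U ≃* ↥U, ∃ m ∈ M, ∀ u : ↥U, ((φ u : ↥U) : G) = m * u * m⁻¹)
    {z : G} (hz : z ∈ U) (hz1 : z ≠ 1)
    (hcent : ∀ c, c * z = z * c → ∃ m ∈ M, ∃ u ∈ U, c = m * u) (Q : Subgroup G)
    (hQ : Q = (Cfsg.pCore 2 ↥(Subgroup.centralizer ({z} : Set G))).map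
      (Subgroup.centralizer ({z} : Set G)).subtype) :
    IsExtraspecial 2 Q ∧ Nat.card Q = 2 ^ (2 * n + 1) ∧
    (∃ E : Subgroup G, E ≤ Q ∧ IsElementaryAbelian 2 E ∧ Nat.card E = 2 ^ (n + 1)) ∧
    IsLargeExtraspecial Q ∧
    ∃ K : Subgroup G, K ≤ Subgroup.centralizer ({z} : Set G) ∧ Q ⊓ K = ⊥ ∧
      Q ⊔ K = Subgroup.centralizer ({z} : Set G) ∧ Nonempty (K ≃* Matrix.GeneralLinearGroup (Fin n) (ZMod 2)) := by
  obtain ⟨A, rfl⟩ := exists_affine U M hU hcard hnorm hdisj hfaith hfull hz hz1 hcent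
  exact A.main hn Q hQ

end CfsgLib.Extraspecial.AffineModel
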