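import Mathlib
import Cfsg.Prelude.Def_GeometricClasses
import Cfsg.Agent.Lib.PSolvable.Omega

/-!
Eigenspaces of matrices normalising an absolutely irreducible extraspecial group.
-/

set_option autoImplicit false
set_option linter.unusedSectionVars false
set_option linter.style.haveILetI false

open scoped commutatorElement
open Module

namespace CfsgLib.EigBound

variable {F : Type*} [Field F] {n : ℕ}

theorem sum_finrank_le_of_indep {V ι : Type*} [AddCommGroup V] [Module F V] [FiniteDimensional F V]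
    {W : ι → Submodule F V} (h : iSupIndep W) (s : Finset ι) {U : Submodule F V} (hU : ∀ i ∈ s, W i ≤ U) :
    ∑ i ∈ s, finrank F (W i) ≤ finrank F U := by
  classical
  refine le_trans ?_ (Submodule.finrank_mono (Finset.sup_le hU))
  clear hU
  induction s using Finset.induction_on with
  | empty => simp
  | @insert i t hi ih =>
    rw [Finset.sum_insert hi, Finset.sup_insert]
    have hd : Disjoint (W i) (t.sup W) := by
      refine (h i).mono_right (Finset.sup_le fun j hj => ?_)
      exact le_iSup₂_of_le j (fun e => hi (e ▸ hj)) le_rfl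
    have e := Submodule.finrank_sup_add_finrank_inf_eq (W i) (t.sup W)
    rw [hd.eq_bot, finrank_bot] at e
    omega

theorem finrank_sup_le {V ι : Type*} [AddCommGroup V] [Module F V] [FiniteDimensional F V]
    (W : ι → Submodule F V) (s : Finset ι) :
    finrank F (s.sup W : Submodule F V) ≤ ∑ i ∈ s, finrank F (W i) := by
  classical
  induction s using Finset.induction_on with
  | empty => simp
  | @insert i t hi ih =>
    rw [Finset.sum_insert hi, Finset.sup_insert]
    exact (Submodule.finrank_add_le_finrank_add_finrank _ _).trans (by omega)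

/-- The eigenspace of a matrix in `GL`. -/
noncomputable def eig (A : GL (Fin n) F) (c : F) : Submodule F (Fin n → F) :=
  Module.End.eigenspace (Matrix.toLin' (A : Matrix (Fin n) (Fin n) F)) c

theorem mem_eig {A : GL (Fin n) F} {c : F} {v : Fin n → F} :
    v ∈ eig A c ↔ (A : Matrix (Fin n) (Fin n) F).mulVec v = c • v := by
  rw [eig, Module.End.mem_eigenspace_iff, Matrix.toLin'_apply]

theorem mulVec_mul (A B : GL (Fin n) F) (v : Fin n → F) :
    ((A * B : GL (Fin n) F) : Matrix (Fin n) (Fin n) F).mulVec v =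
      (A : Matrix (Fin n) (Fin n) F).mulVec ((B : Matrix (Fin n) (Fin n) F).mulVec v) := by
  rw [Units.val_mul, Matrix.mulVec_mulVec]

theorem mulVec_injective (A : GL (Fin n) F) : Function.Injective (A : Matrix (Fin n) (Fin n) F).mulVec :=
  Matrix.mulVec_injective_iff_isUnit.2 A.isUnit

theorem eig_zero (A : GL (Fin n) F) : eig A 0 = ⊥ := by
  rw [eq_bot_iff]
  intro v hv
  rw [mem_eig, zero_smul] at hv
  exact mulVec_injective A (hv.trans (Matrix.mulVec_zero _).symm)

/-- An invertible matrix does not increase the dimension of a subspace. -/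
theorem finrank_le_of_mapsTo (x : GL (Fin n) F) {U U' : Submodule F (Fin n → F)}
    (h : ∀ v ∈ U, (x : Matrix (Fin n) (Fin n) F).mulVec v ∈ U') : finrank F U ≤ finrank F U' :=
  LinearMap.finrank_le_finrank_of_injective
    (f := (Matrix.toLin' (x : Matrix (Fin n) (Fin n) F)).restrict (fun v hv => by
      rw [Matrix.toLin'_apply]; exact h v hv))
    fun a b e => Subtype.ext (mulVec_injective x (by simpa using congrArg Subtype.val e))

/-- If `z y = η y z` with `η` a primitive `r`-th root of unity, the eigenspaces of `y` are small. -/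
theorem card_mul_finrank_eig_le {r : ℕ} (hr : r ≠ 0) {η : F} (hη : IsPrimitiveRoot η r) {y z : GL (Fin n) F}
    (h : (z : Matrix (Fin n) (Fin n) F) * y = η • ((y : Matrix (Fin n) (Fin n) F) * z)) (c : F) :
    r * finrank F (eig y c) ≤ n := by
  rcases eq_or_ne c 0 with rfl | hc
  · rw [eig_zero, finrank_bot, mul_zero]; exact Nat.zero_le n
  have hη0 : η ≠ 0 := hη.ne_zero hr
  have hstep : ∀ i : ℕ, finrank F (eig y c) ≤ finrank F (eig y (c * η⁻¹ ^ i)) := by
    intro i
    induction i with
    | zero => rw [pow_zero, mul_one]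
    | succ i ih =>
      refine ih.trans (finrank_le_of_mapsTo z fun v hv => ?_)
      rw [mem_eig] at hv ⊢
      have h1 := congrArg (fun M : Matrix (Fin n) (Fin n) F => M.mulVec v) h
      simp only [← Matrix.mulVec_mulVec, Matrix.smul_mulVec, hv, Matrix.mulVec_smul] at h1
      have h2 := congrArg (fun w => η⁻¹ • w) h1
      simp only [smul_smul, inv_mul_cancel₀ hη0, one_smul] at h2
      rw [← h2, pow_succ]; congr 1; ring
  have hinj : Function.Injective fun i : Fin r => c * η⁻¹ ^ (i : ℕ) := fun i j e =>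
    Fin.ext (hη.inv.pow_inj i.2 j.2 (mul_left_cancel₀ hc e))
  have hind : iSupIndep fun i : Fin r => eig y (c * η⁻¹ ^ (i : ℕ)) :=
    (Module.End.eigenspaces_iSupIndep (Matrix.toLin' (y : Matrix (Fin n) (Fin n) F))).comp hinj
  calc r * finrank F (eig y c) = ∑ _i : Fin r, finrank F (eig y c) := by simp
    _ ≤ ∑ i : Fin r, finrank F (eig y (c * η⁻¹ ^ (i : ℕ))) := Finset.sum_le_sum fun i _ => hstep i
    _ ≤ finrank F (⊤ : Submodule F (Fin n → F)) := sum_finrank_le_of_indep hind _ fun i _ => le_top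
    _ = n := by simp

/-- The sum `Σ μ^i y^i`. -/
noncomputable def proj (r : ℕ) (μ : F) (y : GL (Fin n) F) : Matrix (Fin n) (Fin n) F :=
  ∑ i ∈ Finset.range r, μ ^ i • (y : Matrix (Fin n) (Fin n) F) ^ i

section roots

variable {r : ℕ} (hr : r.Prime) {ρ : F} (hρ : IsPrimitiveRoot ρ r) {y : GL (Fin n) F} (hy : y ^ r = 1)

include hr hy in
theorem mul_proj {μ : F} (hμ : μ ^ r = 1) :
    (y : Matrix (Fin n) (Fin n) F) * proj r μ y = μ⁻¹ • proj r μ y := by
  have hμ0 : μ ≠ 0 := fun e => by rw [e, zero_pow hr.ne_zero] at hμ; exact zero_ne_one hμ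
  have h1 : μ • ((y : Matrix (Fin n) (Fin n) F) * proj r μ y) = proj r μ y := by
    rw [proj, Finset.mul_sum, Finset.smul_sum]
    have hterm : ∀ i, μ • ((y : Matrix (Fin n) (Fin n) F) * (μ ^ i • (y : Matrix (Fin n) (Fin n) F) ^ i)) =
        μ ^ (i + 1) • (y : Matrix (Fin n) (Fin n) F) ^ (i + 1) := fun i => by
      rw [Algebra.mul_smul_comm, smul_smul, ← pow_succ', ← pow_succ']
    simp only [hterm]
    have h2 := Finset.sum_range_succ' (fun i => μ ^ i • (y : Matrix (Fin n) (Fin n) F) ^ i) r
    have h3 := Finset.sum_range_succ (fun i => μ ^ i • (y : Matrix (Fin n) (Fin n) F) ^ i) r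
    rw [h2] at h3
    have h4 : μ ^ r • (y : Matrix (Fin n) (Fin n) F) ^ r = μ ^ 0 • (y : Matrix (Fin n) (Fin n) F) ^ 0 := by
      rw [hμ, ← Units.val_pow_eq_pow_val, hy]; simp
    rw [h4] at h3
    exact add_right_cancel h3
  conv_rhs => rw [← h1, smul_smul, inv_mul_cancel₀ hμ0, one_smul]

include hr hy in
theorem proj_mem_eig {μ : F} (hμ : μ ^ r = 1) (v : Fin n → F) :
    (proj r μ y).mulVec v ∈ eig y μ⁻¹ := by
  rw [mem_eig, Matrix.mulVec_mulVec, mul_proj hr hy hμ, Matrix.smul_mulVec]

include hr hρ in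
theorem sum_proj (y : GL (Fin n) F) : ∑ k ∈ Finset.range r, proj r (ρ ^ k) y = (r : F) • (1 : Matrix (Fin n) (Fin n) F) := by
  simp only [proj]
  rw [Finset.sum_comm]
  simp only [← Finset.sum_smul]
  rw [Finset.sum_eq_single_of_mem 0 (Finset.mem_range.2 hr.pos)]
  · simp
  · intro i hi hi0
    have hne : ρ ^ i ≠ 1 := hρ.pow_ne_one_of_pos_of_lt hi0 (Finset.mem_range.1 hi)
    have hg : ∑ k ∈ Finset.range r, (ρ ^ i) ^ k = 0 := by
      rw [geom_sum_eq hne, ← pow_mul, mul_comm, pow_mul, hρ.pow_eq_one, one_pow, sub_self, zero_div]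
    have : ∑ k ∈ Finset.range r, (ρ ^ k) ^ i = 0 := by
      rw [← hg]; exact Finset.sum_congr rfl fun k _ => by rw [← pow_mul, ← pow_mul, mul_comm]
    rw [this, zero_smul]

include hr hρ in
theorem natCast_ne_zero : (r : F) ≠ 0 := by
  haveI : NeZero r := ⟨hr.ne_zero⟩
  haveI := hρ.neZero'
  exact NeZero.ne _

theorem proj_mulVec_comm {g : GL (Fin n) F} {l : F}
    (hgy : (g : Matrix (Fin n) (Fin n) F) * y = l • ((y : Matrix (Fin n) (Fin n) F) * g)) (μ : F) :
    (g : Matrix (Fin n) (Fin n) F) * proj r μ y = proj r (μ * l) y * g := by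
  have hpow : ∀ i : ℕ, (g : Matrix (Fin n) (Fin n) F) * (y : Matrix (Fin n) (Fin n) F) ^ i =
      l ^ i • ((y : Matrix (Fin n) (Fin n) F) ^ i * g) := by
    intro i
    induction i with
    | zero => simp
    | succ i ih =>
      rw [pow_succ, ← mul_assoc, ih, Algebra.smul_mul_assoc, mul_assoc _ (g : Matrix (Fin n) (Fin n) F), hgy,
        Algebra.mul_smul_comm, smul_smul, ← mul_assoc, ← pow_succ]
  rw [proj, proj, Finset.mul_sum, Finset.sum_mul]
  refine Finset.sum_congr rfl fun i _ => ?_
  rw [Algebra.mul_smul_comm, hpow, smul_smul, ← mul_pow, Algebra.smul_mul_assoc]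

include hr hρ hy in
/-- If `g` permutes the eigenspaces of `y` in a cycle of length `r`, its eigenspaces are small. -/
theorem finrank_eig_le_of_twist {g : GL (Fin n) F}
    (hgy : (g : Matrix (Fin n) (Fin n) F) * y = ρ • ((y : Matrix (Fin n) (Fin n) F) * g)) (c : F) :
    finrank F (eig g c) ≤ finrank F (eig y 1) := by
  rcases eq_or_ne c 0 with rfl | hc
  · rw [eig_zero, finrank_bot]; exact Nat.zero_le _
  refine LinearMap.finrank_le_finrank_of_injective
    (f := LinearMap.codRestrict (eig y 1)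
      ((Matrix.toLin' (proj r 1 y)).domRestrict (eig g c)) fun v => ?_) ?_
  · have := proj_mem_eig hr hy (μ := (1 : F)) (one_pow r) (v : Fin n → F)
    simpa using this
  · rw [← LinearMap.ker_eq_bot, LinearMap.ker_eq_bot']
    rintro ⟨v, hv⟩ h0
    have hv0 : (proj r 1 y).mulVec v = 0 := by simpa using congrArg Subtype.val h0
    rw [mem_eig] at hv
    have hall : ∀ k : ℕ, (proj r (ρ ^ k) y).mulVec v = 0 := by
      intro k
      induction k with
      | zero => rwa [pow_zero]
      | succ k ih =>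
        have h1 := congrArg (fun M : Matrix (Fin n) (Fin n) F => M.mulVec v) (proj_mulVec_comm (r := r) hgy (ρ ^ k))
        simp only [← Matrix.mulVec_mulVec, ih, Matrix.mulVec_zero, hv, Matrix.mulVec_smul, ← pow_succ] at h1
        exact (smul_eq_zero.1 h1.symm).resolve_left hc
    have h2 := congrArg (fun M : Matrix (Fin n) (Fin n) F => M.mulVec v) (sum_proj hr hρ y)
    simp only [Matrix.sum_mulVec, hall, Finset.sum_const_zero, Matrix.smul_mulVec, Matrix.one_mulVec] at h2
    exact Subtype.ext ((smul_eq_zero.1 h2.symm).resolve_left (natCast_ne_zero hr hρ))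

include hr hρ hy in
/-- An eigenspace of a matrix commuting with `y` splits along the eigenspaces of `y`. -/
theorem finrank_eig_le_sum {g : GL (Fin n) F}
    (hgy : (g : Matrix (Fin n) (Fin n) F) * y = (1 : F) • ((y : Matrix (Fin n) (Fin n) F) * g)) (c : F) :
    finrank F (eig g c) ≤ ∑ k ∈ Finset.range r, finrank F ↥(eig g c ⊓ eig y (ρ ^ k)⁻¹) := by
  refine le_trans (Submodule.finrank_mono ?_) (finrank_sup_le _ _)
  intro v hv
  have h2 := congrArg (fun M : Matrix (Fin n) (Fin n) F => M.mulVec v) (sum_proj hr hρ y)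
  simp only [Matrix.sum_mulVec, Matrix.smul_mulVec, Matrix.one_mulVec] at h2
  have h3 : v = (r : F)⁻¹ • ∑ k ∈ Finset.range r, (proj r (ρ ^ k) y).mulVec v := by
    rw [h2, smul_smul, inv_mul_cancel₀ (natCast_ne_zero hr hρ), one_smul]
  rw [h3]
  refine Submodule.smul_mem _ _ (Submodule.sum_mem _ fun k hk => ?_)
  refine Finset.le_sup (f := fun k => eig g c ⊓ eig y (ρ ^ k)⁻¹) hk ⟨?_, proj_mem_eig hr hy ?_ v⟩
  · rw [SetLike.mem_coe, mem_eig]
    have h1 := congrArg (fun M : Matrix (Fin n) (Fin n) F => M.mulVec v) (proj_mulVec_comm (r := r) hgy (ρ ^ k))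
    rw [mem_eig] at hv
    simp only [← Matrix.mulVec_mulVec, hv, Matrix.mulVec_smul, mul_one] at h1
    exact h1
  · rw [← pow_mul, mul_comm, pow_mul, hρ.pow_eq_one, one_pow]

end roots

end CfsgLib.EigBound
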