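import Mathlib
import Cfsg.Agent.Lib.Extraspecial.OuterAut

/-!
The faithful real representation of dimension `2 ^ n` of the extraspecial `2`-group of plus type,
and orthogonal intertwiners for its automorphisms.
-/

set_option autoImplicit false
set_option linter.style.haveILetI false

open Matrix

namespace CfsgLib.Extraspecial.PlusRep

variable {n : ℕ}

/-- The sign. -/
noncomputable def sg (a : ZMod 2) : ℝ := if a = 0 then 1 else -1

theorem sg_add (a b : ZMod 2) : sg (a + b) = sg a * sg b := by
  rcases zmod_two_cases a with rfl | rfl <;> rcases zmod_two_cases b with rfl | rfl <;>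
    simp [sg, show (1 + 1 : ZMod 2) = 0 from rfl]

theorem sg_sq (a : ZMod 2) : sg a * sg a = 1 := by
  rw [← sg_add, CharTwo.add_self_eq_zero]; simp [sg]

/-- First components. -/
def fstC (v : Coord n) : Fin n → ZMod 2 := fun i => (v i).1

/-- Second components. -/
def sndC (v : Coord n) : Fin n → ZMod 2 := fun i => (v i).2

/-- The matrix of an element. -/
noncomputable def repMat (x : Model (0 : Fin n → ZMod 2)) :
    Matrix (Fin n → ZMod 2) (Fin n → ZMod 2) ℝ :=
  Matrix.of fun k l => if l = k + fstC x.v then sg (x.a + sndC x.v ⬝ᵥ k) else 0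

theorem repMat_apply (x : Model (0 : Fin n → ZMod 2)) (k l : Fin n → ZMod 2) :
    repMat x k l = if l = k + fstC x.v then sg (x.a + sndC x.v ⬝ᵥ k) else 0 := rfl

theorem repMat_one : repMat (1 : Model (0 : Fin n → ZMod 2)) = 1 := by
  ext k l
  rw [repMat_apply, show fstC (1 : Model (0 : Fin n → ZMod 2)).v = 0 from rfl,
    show sndC (1 : Model (0 : Fin n → ZMod 2)).v = 0 from rfl, Model.one_a, zero_dotProduct,
    add_zero, Matrix.one_apply]
  simp [sg, eq_comm]

theorem repMat_mul (x y : Model (0 : Fin n → ZMod 2)) : repMat (x * y) = repMat x * repMat y := by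
  ext k l
  rw [Matrix.mul_apply, Finset.sum_eq_single (k + fstC x.v)
    (fun m _ hm => by rw [repMat_apply, if_neg hm, zero_mul]) (by simp), repMat_apply, repMat_apply,
    repMat_apply, if_pos rfl]
  have h1 : fstC (x * y).v = fstC x.v + fstC y.v := rfl
  have h2 : sndC (x * y).v = sndC x.v + sndC y.v := rfl
  have h3 : cocycle (0 : Fin n → ZMod 2) x.v y.v = sndC y.v ⬝ᵥ fstC x.v := by
    simp [cocycle, planeForm, dotProduct, fstC, sndC, mul_comm]
  rw [h1, h2, ← add_assoc]
  split_ifs with h
  · rw [← sg_add, Model.mul_a, h3, add_dotProduct, dotProduct_add]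
    congr 1
    ring
  · rw [mul_zero]

theorem repMat_mul_transpose (x : Model (0 : Fin n → ZMod 2)) :
    repMat x * (repMat x)ᵀ = 1 := by
  ext k l
  rw [Matrix.mul_apply, Finset.sum_eq_single (k + fstC x.v)
    (fun m _ hm => by rw [repMat_apply, if_neg hm, zero_mul]) (by simp), Matrix.transpose_apply,
    repMat_apply, repMat_apply, if_pos rfl, Matrix.one_apply]
  by_cases h : k = l
  · subst h
    rw [if_pos rfl, if_pos rfl, sg_sq]
  · rw [if_neg h, if_neg (fun e => h (add_right_cancel e)), mul_zero]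

theorem repMat_mem (x : Model (0 : Fin n → ZMod 2)) :
    repMat x ∈ Matrix.orthogonalGroup (Fin n → ZMod 2) ℝ :=
  (Matrix.mem_orthogonalGroup_iff (Fin n → ZMod 2) ℝ).mpr (repMat_mul_transpose x)

theorem transpose_eq (x : Model (0 : Fin n → ZMod 2)) : (repMat x)ᵀ = repMat x⁻¹ := by
  calc (repMat x)ᵀ = repMat x⁻¹ * (repMat x * (repMat x)ᵀ) := by
        rw [← mul_assoc, ← repMat_mul, inv_mul_cancel, repMat_one, one_mul]
    _ = repMat x⁻¹ := by rw [repMat_mul_transpose, mul_one]

/-- The representation. -/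
noncomputable def repHom :
    Model (0 : Fin n → ZMod 2) →* Matrix.orthogonalGroup (Fin n → ZMod 2) ℝ where
  toFun x := ⟨repMat x, repMat_mem x⟩
  map_one' := Subtype.ext repMat_one
  map_mul' x y := Subtype.ext (repMat_mul x y)

theorem repHom_injective : Function.Injective (repHom (n := n)) := by
  refine (injective_iff_map_eq_one _).mpr fun x hx => ?_
  have h : repMat x = 1 := congrArg Subtype.val hx
  have h0 := congrFun (congrFun h 0) 0
  rw [repMat_apply, Matrix.one_apply_eq] at h0
  have hf : fstC x.v = 0 := by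
    by_contra hne
    rw [if_neg (fun e => hne (by rw [zero_add] at e; exact e.symm))] at h0
    exact zero_ne_one h0
  have hk : ∀ k, sg (x.a + sndC x.v ⬝ᵥ k) = 1 := fun k => by
    have := congrFun (congrFun h k) k
    rwa [repMat_apply, if_pos (by rw [hf, add_zero]), Matrix.one_apply_eq] at this
  have hz : ∀ a : ZMod 2, sg a = 1 → a = 0 := fun a ha => by
    rcases zmod_two_cases a with rfl | rfl
    · rfl
    · simp [sg] at ha; norm_num at ha
  have ha : x.a = 0 := by simpa using hz _ (hk 0)
  refine Model.ext (funext fun i => Prod.ext (congrFun hf i) ?_) ha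
  have := hz _ (hk (Pi.single i 1))
  rw [ha, zero_add, dotProduct_single, mul_one] at this
  exact this

theorem trace_eq_zero (x : Model (0 : Fin n → ZMod 2)) (hx : x.v ≠ 0) : (repMat x).trace = 0 := by
  simp only [Matrix.trace, Matrix.diag, repMat_apply]
  by_cases hf : fstC x.v = 0
  · obtain ⟨j, hj⟩ : ∃ j, sndC x.v j = 1 := by
      by_contra hno
      push Not at hno
      exact hx (funext fun i => Prod.ext (congrFun hf i)
        ((zmod_two_cases (sndC x.v i)).resolve_right (hno i)))
    simp only [hf, add_zero, if_true]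
    have h : ∑ k, sg (x.a + sndC x.v ⬝ᵥ k) = -∑ k, sg (x.a + sndC x.v ⬝ᵥ k) := by
      rw [← Finset.sum_neg_distrib]
      refine Fintype.sum_equiv (Equiv.addRight (Pi.single j 1)) _ _ fun k => ?_
      rw [Equiv.coe_addRight, dotProduct_add, dotProduct_single, hj, mul_one, ← add_assoc,
        sg_add _ 1]
      simp [sg]
    linarith
  · exact Finset.sum_eq_zero fun k _ => if_neg fun e => hf (by simpa using e)

theorem eq_scalar_of_commute (C : Matrix (Fin n → ZMod 2) (Fin n → ZMod 2) ℝ)
    (h : ∀ x : Model (0 : Fin n → ZMod 2), C * repMat x = repMat x * C) :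
    C = (C 0 0) • (1 : Matrix (Fin n → ZMod 2) (Fin n → ZMod 2) ℝ) := by
  have happ : ∀ (x : Model (0 : Fin n → ZMod 2)) (k m : Fin n → ZMod 2),
      C k m * sg (x.a + sndC x.v ⬝ᵥ m) =
        sg (x.a + sndC x.v ⬝ᵥ k) * C (k + fstC x.v) (m + fstC x.v) := by
    intro x k m
    have := congrFun (congrFun (h x) k) (m + fstC x.v)
    rwa [Matrix.mul_apply, Matrix.mul_apply, Finset.sum_eq_single m
      (fun l _ hl => by rw [repMat_apply, if_neg (fun e => hl (add_right_cancel e).symm), mul_zero])
      (by simp), Finset.sum_eq_single (k + fstC x.v)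
      (fun l _ hl => by rw [repMat_apply, if_neg hl, zero_mul]) (by simp),
      repMat_apply, repMat_apply, if_pos rfl, if_pos rfl] at this
  ext k m
  rw [Matrix.smul_apply, Matrix.one_apply, smul_eq_mul]
  by_cases hkm : k = m
  · subst hkm
    rw [if_pos rfl, mul_one]
    have := happ ⟨fun i => (k i, 0), 0⟩ 0 0
    have h1 : fstC (fun i => ((k i, 0) : ZMod 2 × ZMod 2)) = k := rfl
    have h2 : sndC (fun i => ((k i, 0) : ZMod 2 × ZMod 2)) = 0 := rfl
    simp only [h1, h2, zero_dotProduct, zero_add, add_zero, sg, if_true, one_mul, mul_one] at this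
    exact this.symm
  · rw [if_neg hkm, mul_zero]
    obtain ⟨j, hj⟩ := Function.ne_iff.mp hkm
    have := happ ⟨fun i => (0, (Pi.single j (1 : ZMod 2) : Fin n → ZMod 2) i), 0⟩ k m
    have h1 : fstC (fun i => ((0, (Pi.single j (1 : ZMod 2) : Fin n → ZMod 2) i) :
        ZMod 2 × ZMod 2)) = 0 := rfl
    have h2 : sndC (fun i => ((0, (Pi.single j (1 : ZMod 2) : Fin n → ZMod 2) i) :
        ZMod 2 × ZMod 2)) = Pi.single j 1 := rfl
    simp only [h1, h2, single_dotProduct, one_mul, zero_add, add_zero] at this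
    rcases zmod_two_cases (k j) with hk | hk <;> rcases zmod_two_cases (m j) with hm | hm
    · exact absurd (hk.trans hm.symm) hj
    · simp only [hk, hm, sg, one_ne_zero, if_false, if_true, mul_neg, mul_one, one_mul] at this
      linarith
    · simp only [hk, hm, sg, one_ne_zero, if_false, if_true, neg_mul, mul_one, one_mul] at this
      linarith
    · exact absurd (hk.trans hm.symm) hj

theorem exists_intertwiner (α : MulAut (Model (0 : Fin n → ZMod 2))) :
    ∃ M : Matrix.orthogonalGroup (Fin n → ZMod 2) ℝ, ∀ x, M * repHom x = repHom (α x) * M := by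
  classical
  haveI : Fintype (Model (0 : Fin n → ZMod 2)) := Fintype.ofFinite _
  let F : Matrix (Fin n → ZMod 2) (Fin n → ZMod 2) ℝ →
      Matrix (Fin n → ZMod 2) (Fin n → ZMod 2) ℝ :=
    fun A => ∑ x, repMat (α x) * A * repMat x⁻¹
  have hF : ∀ A y, F A * repMat y = repMat (α y) * F A := by
    intro A y
    simp only [F, Finset.sum_mul, Finset.mul_sum]
    refine (Fintype.sum_equiv (Equiv.mulLeft y) _ _ fun x => ?_).symm
    rw [Equiv.coe_mulLeft, map_mul, _root_.mul_inv_rev, repMat_mul, repMat_mul]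
    simp only [mul_assoc, ← repMat_mul, inv_mul_cancel, mul_one]
    rw [repMat_mul, mul_assoc]
  obtain ⟨A, k₀, l₀, hA⟩ : ∃ A k l, F A k l ≠ 0 := by
    by_contra hno
    push Not at hno
    have hsum : ∑ x, (repMat (α x)).trace * (repMat x⁻¹).trace = 0 := by
      calc ∑ x, (repMat (α x)).trace * (repMat x⁻¹).trace
          = ∑ i, ∑ j, F (Matrix.single j i 1) j i := by
            simp only [F, Matrix.sum_apply, Matrix.trace, Matrix.diag, Finset.sum_mul,
              Finset.mul_sum]
            rw [Finset.sum_comm]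
            refine Finset.sum_congr rfl fun i _ => ?_
            rw [Finset.sum_comm]
            refine Finset.sum_congr rfl fun j _ => Finset.sum_congr rfl fun x _ => ?_
            simp [Matrix.mul_apply, Matrix.single_apply, Finset.sum_mul, ite_and]
        _ = 0 := by simp [hno]
    have hnn : ∀ x, 0 ≤ (repMat (α x)).trace * (repMat x⁻¹).trace := by
      intro x
      by_cases hx : x.v = 0
      · obtain ⟨v, a⟩ := x
        subst hx
        have hinv : (⟨0, a⟩ : Model (0 : Fin n → ZMod 2))⁻¹ = ⟨0, a⟩ := by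
          refine Model.ext rfl ?_
          show a + cocycle (0 : Fin n → ZMod 2) 0 0 = a
          rw [cocycle_zero_left, add_zero]
        rw [hinv, Model.aut_fix_center]
        exact mul_self_nonneg _
      · rw [trace_eq_zero x⁻¹ (show x.v ≠ 0 from hx), mul_zero]
    have h1 := (Finset.sum_eq_zero_iff_of_nonneg fun x _ => hnn x).mp hsum 1 (Finset.mem_univ _)
    rw [map_one, inv_one, repMat_one, Matrix.trace_one, mul_self_eq_zero, Nat.cast_eq_zero] at h1
    exact Fintype.card_ne_zero h1
  set N := F A with hN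
  have hT : ∀ y, Nᵀ * repMat (α y) = repMat y * Nᵀ := by
    intro y
    have := congrArg Matrix.transpose (hF A y⁻¹)
    rw [Matrix.transpose_mul, Matrix.transpose_mul, transpose_eq, transpose_eq, map_inv,
      inv_inv, inv_inv] at this
    exact this.symm
  have hC : N * Nᵀ = ((N * Nᵀ) 0 0) • (1 : Matrix (Fin n → ZMod 2) (Fin n → ZMod 2) ℝ) := by
    refine eq_scalar_of_commute _ fun x => ?_
    obtain ⟨y, rfl⟩ := α.surjective x
    rw [mul_assoc, hT, ← mul_assoc, hF, mul_assoc]
  set c := (N * Nᵀ) 0 0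
  have hc : 0 < c := by
    have h := congrFun (congrFun hC k₀) k₀
    rw [Matrix.smul_apply, Matrix.one_apply_eq, smul_eq_mul, mul_one, Matrix.mul_apply] at h
    rw [← h]
    simp only [Matrix.transpose_apply]
    exact lt_of_lt_of_le (mul_self_pos.mpr hA)
      (Finset.single_le_sum (f := fun l => N k₀ l * N k₀ l) (fun l _ => mul_self_nonneg _)
        (Finset.mem_univ l₀))
  have hmem : (Real.sqrt c)⁻¹ • N ∈ Matrix.orthogonalGroup (Fin n → ZMod 2) ℝ := by
    rw [Matrix.mem_orthogonalGroup_iff, Matrix.transpose_smul, Matrix.smul_mul, Matrix.mul_smul,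
      smul_smul, hC, smul_smul, ← mul_inv, Real.mul_self_sqrt hc.le, inv_mul_cancel₀ hc.ne',
      one_smul]
  refine ⟨⟨_, hmem⟩, fun x => Subtype.ext ?_⟩
  show (Real.sqrt c)⁻¹ • N * repMat x = repMat (α x) * ((Real.sqrt c)⁻¹ • N)
  rw [Matrix.smul_mul, Matrix.mul_smul, hF]

theorem mem_range_of_commute (M : Matrix.orthogonalGroup (Fin n → ZMod 2) ℝ)
    (h : ∀ x, M * repHom x = repHom x * M) : ∃ x, repHom x = M := by
  have hs := eq_scalar_of_commute M.1 fun x => congrArg Subtype.val (h x)
  set c := M.1 0 0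
  have hc : c * c = 1 := by
    have hm := congrFun (congrFun ((Matrix.mem_orthogonalGroup_iff (Fin n → ZMod 2) ℝ).mp M.2) 0) 0
    rw [hs, Matrix.transpose_smul, Matrix.smul_mul, Matrix.mul_smul, smul_smul,
      Matrix.transpose_one, one_mul, Matrix.smul_apply, Matrix.one_apply_eq, smul_eq_mul,
      mul_one] at hm
    exact hm
  rcases mul_self_eq_one_iff.mp hc with h1 | h1
  · refine ⟨1, Subtype.ext ?_⟩
    show repMat 1 = M.1
    rw [repMat_one, hs, h1, one_smul]
  · refine ⟨⟨0, 1⟩, Subtype.ext ?_⟩
    show repMat ⟨0, 1⟩ = M.1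
    rw [hs, h1]
    ext k l
    rw [repMat_apply, show fstC (0 : Coord n) = 0 from rfl, show sndC (0 : Coord n) = 0 from rfl]
    simp [sg, Matrix.one_apply, eq_comm]

end CfsgLib.Extraspecial.PlusRep
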