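import Cfsg.Agent.Lib.Extraspecial.SingularJoin

/-!
The join of the cores of a singular subgroup: its action on the subgroup and on the joint core.
-/

set_option autoImplicit false

open Cfsg

namespace CfsgLib.Extraspecial.Symm

variable {G : Type*} [Group G]

theorem zcomm {P : Subgroup G} {a : G} (d : Zdata P a) (hle : ∀ q ∈ P, q * a = a * q) {q : G} (hq : q ∈ P) :
    q * a * q⁻¹ = a := by
  rw [hle q hq, mul_inv_cancel_right]

theorem comm_or_move {P : Subgroup G} {a : G} (d : Zdata P a) {q x : G} (hq : q ∈ P) (hx : x ∈ P) :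
    q * x * q⁻¹ = x ∨ q * x * q⁻¹ = a * x := by
  rcases d.comm q hq x hx with e | e
  · exact Or.inl (by rw [e, mul_inv_cancel_right])
  · exact Or.inr (by rw [e]; group)

/-- What centralizes the centralizer of a set lies in the subgroup it generates with the centre. -/
theorem double_centralizer {P : Subgroup G} {a : G} (d : Zdata P a) (hle : ∀ q ∈ P, q * a = a * q) :
    ∀ (L : List G), (∀ b ∈ L, b ∈ P) → ∀ x ∈ P,
      (∀ q ∈ P, (∀ b ∈ L, q * b * q⁻¹ = b) → q * x * q⁻¹ = x) →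
      x ∈ Subgroup.closure (insert a {b | b ∈ L}) := by
  intro L
  induction L with
  | nil =>
    intro _ x hx h
    have hab : ∀ b ∈ P, x * b = b * x := fun b hb =>
      (mul_inv_eq_iff_eq_mul.1 (h b hb (by simp))).symm
    rcases d.cases x hx hab with rfl | rfl
    · exact one_mem _
    · exact Subgroup.subset_closure (Set.mem_insert _ _)
  | cons b L ih =>
    intro hL x hx h
    have hbP := hL b List.mem_cons_self
    have hLP : ∀ c ∈ L, c ∈ P := fun c hc => hL c (List.mem_cons_of_mem _ hc)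
    have hmono : Subgroup.closure (insert a {c | c ∈ L}) ≤ Subgroup.closure (insert a {c | c ∈ b :: L}) :=
      Subgroup.closure_mono (Set.insert_subset_insert fun c hc => List.mem_cons_of_mem _ hc)
    by_cases hb : ∀ q ∈ P, (∀ c ∈ L, q * c * q⁻¹ = c) → q * b * q⁻¹ = b
    · exact hmono (ih hLP x hx fun q hq hqL => h q hq fun c hc => by
        rcases List.mem_cons.1 hc with rfl | hc
        exacts [hb q hq hqL, hqL c hc])
    push Not at hb
    obtain ⟨c, hc, hcL, hcb⟩ := hb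
    have hcb' : c * b * c⁻¹ = a * b := (comm_or_move d hc hbP).resolve_left hcb
    obtain ⟨e, he, hce, hxe⟩ : ∃ e, (e = 1 ∨ e = b) ∧ c * (x * e) * c⁻¹ = x * e ∧ x * e ∈ P := by
      rcases comm_or_move d hc hx with e | e
      · exact ⟨1, Or.inl rfl, by rw [mul_one]; exact e, by rwa [mul_one]⟩
      · refine ⟨b, Or.inr rfl, ?_, mul_mem hx hbP⟩
        calc c * (x * b) * c⁻¹ = (c * x * c⁻¹) * (c * b * c⁻¹) := by group
          _ = a * (x * a) * b := by rw [e, hcb']; group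
          _ = a * (a * x) * b := by rw [hle x hx]
          _ = x * b := by rw [← mul_assoc a a x, d.two, one_mul]
    have hfix : ∀ q ∈ P, (∀ y ∈ L, q * y * q⁻¹ = y) → q * b * q⁻¹ = b → q * (x * e) * q⁻¹ = x * e := by
      intro q hq hqL hqb
      have hqx := h q hq fun y hy => by
        rcases List.mem_cons.1 hy with rfl | hy
        exacts [hqb, hqL y hy]
      rcases he with rfl | rfl
      · rw [mul_one]; exact hqx
      · calc q * (x * e) * q⁻¹ = (q * x * q⁻¹) * (q * e * q⁻¹) := by group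
          _ = _ := by rw [hqx, hqb]
    have hmem : x * e ∈ Subgroup.closure (insert a {y | y ∈ L}) := by
      refine ih hLP _ hxe fun q hq hqL => ?_
      rcases comm_or_move d hq hbP with e1 | e1
      · exact hfix q hq hqL e1
      · have hcq := hfix (c * q) (mul_mem hc hq)
          (fun y hy => by
            calc c * q * y * (c * q)⁻¹ = c * (q * y * q⁻¹) * c⁻¹ := by group
              _ = y := by rw [hqL y hy, hcL y hy])
          (by
            calc c * q * b * (c * q)⁻¹ = c * (q * b * q⁻¹) * c⁻¹ := by group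
              _ = (c * a * c⁻¹) * (c * b * c⁻¹) := by rw [e1]; group
              _ = b := by rw [zcomm d hle hc, hcb', ← mul_assoc, d.two, one_mul])
        calc q * (x * e) * q⁻¹ = c⁻¹ * (c * q * (x * e) * (c * q)⁻¹) * c := by group
          _ = c⁻¹ * (c * (x * e) * c⁻¹) * c := by rw [hcq, hce]
          _ = _ := by group
    have he' : e ∈ Subgroup.closure (insert a {y | y ∈ b :: L}) := by
      rcases he with rfl | rfl
      · exact one_mem _
      · exact Subgroup.subset_closure (Set.mem_insert_of_mem _ List.mem_cons_self)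
    have := mul_mem (hmono hmem) (inv_mem he')
    rwa [mul_inv_cancel_right] at this

/-- The setting of a singular subgroup. -/
structure Singular (Q : G → Subgroup G) (U : Subgroup G) : Prop where
  inv : ∀ u ∈ U, u * u = 1
  data : ∀ a ∈ U, a ≠ 1 → Zdata (Q a) a
  le : ∀ y, ∀ q ∈ Q y, q * y = y * q
  eqv : ∀ h y, ∀ q ∈ Q y, h * q * h⁻¹ ∈ Q (h * y * h⁻¹)
  orth : ∀ u ∈ U, ∀ v ∈ U, u ≠ 1 → v ≠ 1 → v ∈ Q u

theorem singular_of [Finite G] (Q : G → Subgroup G)
    (hQ : ∀ x : G, Q x = (Cfsg.pCore 2 ↥(Subgroup.centralizer ({x} : Set G))).map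
      (Subgroup.centralizer ({x} : Set G)).subtype)
    (z : G) (hz : orderOf z = 2) (hE : IsExtraspecial 2 ↥(Q z))
    (hC : Subgroup.centralizer ((Q z : Subgroup G) : Set G) ≤ Q z)
    (U : Subgroup G) (hU2 : ∀ u ∈ U, u * u = 1) (hS : ∀ u ∈ U, u ≠ 1 → ∃ g : G, g * z * g⁻¹ = u)
    (hO : ∀ u ∈ U, ∀ v ∈ U, u ≠ 1 → v ≠ 1 → v ∈ Q u) : Singular Q U := by
  have hle : ∀ y, ∀ q ∈ Q y, q * y = y * q := fun y q hq => by
    rw [hQ] at hq
    obtain ⟨a, -, rfl⟩ := Subgroup.mem_map.1 hq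
    exact Subgroup.mem_centralizer_singleton_iff.1 a.2
  have heqv : ∀ h y, ∀ q ∈ Q y, h * q * h⁻¹ ∈ Q (h * y * h⁻¹) := fun h y q hq => by
    rw [hQ] at hq ⊢
    exact conj_mem_core 2 h y hq
  have hne : z ≠ 1 := fun e => by rw [e, orderOf_one] at hz; norm_num at hz
  have hzm : z ∈ Q z := hC (Subgroup.mem_centralizer_iff.2 fun q hq => hle z q hq)
  have dz := zdata_of hE hzm hne fun b hb => (hle z b hb).symm
  refine ⟨hU2, fun a ha ha1 => ?_, hle, heqv, hO⟩
  obtain ⟨g, rfl⟩ := hS a ha ha1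
  exact zdata_conj Q heqv dz g

namespace Singular

variable {Q : G → Subgroup G} {U : Subgroup G} (s : Singular Q U)
include s

theorem le_core {a : G} (ha : a ∈ U) (ha1 : a ≠ 1) : U ≤ Q a := fun v hv => by
  by_cases hv1 : v = 1
  · rw [hv1]; exact one_mem _
  · exact s.orth a ha v hv ha1 hv1

theorem le_inf : U ≤ ⨅ u ∈ ((U : Set G) \ {1}), Q u :=
  le_iInf₂ fun _ hu => s.le_core hu.1 hu.2

theorem conj_mem {a q v : G} (ha : a ∈ U) (ha1 : a ≠ 1) (hq : q ∈ Q a) (hv : v ∈ U) : q * v * q⁻¹ ∈ U := by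
  rcases comm_or_move (s.data a ha ha1) hq (s.le_core ha ha1 hv) with e | e <;> rw [e]
  exacts [hv, mul_mem ha hv]

theorem sup_le_normalizer [Finite G] :
    (⨆ u ∈ ((U : Set G) \ {1}), Q u) ≤ Subgroup.normalizer (U : Set G) :=
  iSup₂_le fun _ ha _ hq => Subgroup.mem_normalizer_fintype fun _ hv => s.conj_mem ha.1 ha.2 hq hv

theorem conj_mem_inf {g x : G} (hg : g ∈ Subgroup.normalizer (U : Set G))
    (hx : x ∈ ⨅ u ∈ ((U : Set G) \ {1}), Q u) : g * x * g⁻¹ ∈ ⨅ u ∈ ((U : Set G) \ {1}), Q u := by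
  simp only [Subgroup.mem_iInf] at hx ⊢
  intro u hu
  have hu' : g⁻¹ * u * g ∈ U := by
    have := (Subgroup.mem_normalizer_iff.1 (inv_mem hg) u).1 hu.1
    rwa [inv_inv] at this
  have hne : g⁻¹ * u * g ≠ 1 := fun e => hu.2 (show u = 1 by
    calc u = g * (g⁻¹ * u * g) * g⁻¹ := by group
      _ = 1 := by rw [e]; group)
  have := s.eqv g _ x (hx _ ⟨hu', hne⟩)
  rwa [show g * (g⁻¹ * u * g) * g⁻¹ = u by group] at this

theorem commutator_mem [Finite G] : ∀ g ∈ ⨆ u ∈ ((U : Set G) \ {1}), Q u,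
    ∀ x ∈ ⨅ u ∈ ((U : Set G) \ {1}), Q u, g * x * g⁻¹ * x⁻¹ ∈ U := by
  let K : Subgroup G :=
    { carrier := {g | g ∈ Subgroup.normalizer (U : Set G) ∧
        ∀ x ∈ ⨅ u ∈ ((U : Set G) \ {1}), Q u, g * x * g⁻¹ * x⁻¹ ∈ U}
      one_mem' := ⟨one_mem _, fun x _ => by simp⟩
      mul_mem' := by
        rintro g h ⟨hg, hg'⟩ ⟨hh, hh'⟩
        refine ⟨mul_mem hg hh, fun x hx => ?_⟩
        have h1 := (Subgroup.mem_normalizer_iff.1 hg _).1 (hh' x hx)
        rw [show g * h * x * (g * h)⁻¹ * x⁻¹ = (g * (h * x * h⁻¹ * x⁻¹) * g⁻¹) * (g * x * g⁻¹ * x⁻¹) by group]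
        exact mul_mem h1 (hg' x hx)
      inv_mem' := by
        rintro g ⟨hg, hg'⟩
        refine ⟨inv_mem hg, fun x hx => ?_⟩
        have := hg' _ (s.conj_mem_inf (inv_mem hg) hx)
        rw [show g⁻¹ * x * g⁻¹⁻¹ * x⁻¹ = (g * (g⁻¹ * x * g⁻¹⁻¹) * g⁻¹ * (g⁻¹ * x * g⁻¹⁻¹)⁻¹)⁻¹ by group]
        exact inv_mem this }
  suffices h : (⨆ u ∈ ((U : Set G) \ {1}), Q u) ≤ K from fun g hg => (h hg).2
  refine iSup₂_le fun a ha q hq => ⟨Subgroup.mem_normalizer_fintype fun v hv => s.conj_mem ha.1 ha.2 hq hv,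
    fun x hx => ?_⟩
  simp only [Subgroup.mem_iInf] at hx
  rcases comm_or_move (s.data a ha.1 ha.2) hq (hx a ha) with e | e <;> rw [e]
  · rw [mul_inv_cancel]; exact one_mem _
  · rw [mul_inv_cancel_right]; exact ha.1

theorem exists_move [Finite G] {W : Subgroup G} (hW : W ≤ U) {a x : G} (ha : a ∈ U) (ha1 : a ≠ 1) (hx : x ∈ Q a)
    (hxW : ∀ w ∈ W, x ≠ w ∧ x ≠ w * a) :
    ∃ q ∈ Q a, (∀ w ∈ W, q * w * q⁻¹ = w) ∧ q * x * q⁻¹ = a * x := by
  classical
  by_contra hno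
  push Not at hno
  haveI := Fintype.ofFinite W
  have hxm := double_centralizer (s.data a ha ha1) (s.le a) (((Finset.univ : Finset W).toList).map (↑))
    (fun b hb => by
      obtain ⟨w, -, rfl⟩ := List.mem_map.1 hb
      exact s.le_core ha ha1 (hW w.2)) x hx
    (fun q hq hqW => (comm_or_move (s.data a ha ha1) hq hx).resolve_right
      (hno q hq fun w hw => hqW w (List.mem_map.2 ⟨⟨w, hw⟩, by simp, rfl⟩)))
  have hcomm : ∀ w ∈ W, a * w = w * a := fun w hw => by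
    have h := s.inv _ (mul_mem ha (hW hw))
    calc a * w = a * w * (a * w) * (w⁻¹ * a⁻¹) := by group
      _ = w⁻¹ * a⁻¹ := by rw [h, one_mul]
      _ = w * a := by rw [inv_eq_of_mul_eq_one_right (s.inv w (hW hw)), inv_eq_of_mul_eq_one_right (s.inv a ha)]
  have key : ∀ y ∈ Subgroup.closure (insert a {b | b ∈ ((Finset.univ : Finset W).toList).map ((↑) : W → G)}),
      y ∈ W ∨ ∃ w ∈ W, y = w * a := by
    intro y hy
    induction hy using Subgroup.closure_induction with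
    | mem y hy =>
      rcases hy with rfl | hy
      · exact Or.inr ⟨1, one_mem W, (one_mul _).symm⟩
      · obtain ⟨w, -, rfl⟩ := List.mem_map.1 hy
        exact Or.inl w.2
    | one => exact Or.inl (one_mem W)
    | inv y _ h =>
      rcases h with h | ⟨w, hw, rfl⟩
      · exact Or.inl (inv_mem h)
      · refine Or.inr ⟨w⁻¹, inv_mem hw, ?_⟩
        rw [mul_inv_rev, inv_eq_of_mul_eq_one_right (s.inv a ha), hcomm _ (inv_mem hw)]
    | mul y y' _ _ h h' =>
      rcases h with h | ⟨w, hw, rfl⟩ <;> rcases h' with h' | ⟨w', hw', rfl⟩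
      · exact Or.inl (mul_mem h h')
      · exact Or.inr ⟨y * w', mul_mem h hw', by group⟩
      · exact Or.inr ⟨w * y', mul_mem hw h', by rw [mul_assoc, hcomm _ h', ← mul_assoc]⟩
      · refine Or.inl ?_
        rw [show w * a * (w' * a) = w * (a * w') * a by group, hcomm _ hw',
          show w * (w' * a) * a = w * w' * (a * a) by group, s.inv a ha, mul_one]
        exact mul_mem hw hw'
  rcases key x hxm with h | ⟨w, hw, h⟩
  · exact (hxW x h).1 rfl
  · exact (hxW w hw).2 h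

theorem exists_full [Finite G] (φ : ↥U ≃* ↥U) :
    ∃ g ∈ ⨆ u ∈ ((U : Set G) \ {1}), Q u, ∀ u : ↥U, g * (u : G) * g⁻¹ = ((φ u : ↥U) : G) := by
  classical
  let good : Subgroup G → Prop := fun W => W ≤ U ∧
    ∃ g ∈ ⨆ u ∈ ((U : Set G) \ {1}), Q u, ∀ u : ↥U, (u : G) ∈ W → g * (u : G) * g⁻¹ = ((φ u : ↥U) : G)
  obtain ⟨W, ⟨hWU, g, hg, hgW⟩, hmax⟩ := Set.Finite.exists_maximal (Set.toFinite {W | good W})
    ⟨⊥, bot_le, 1, one_mem _, fun u hu => by
      rw [Subgroup.mem_bot] at hu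
      have : u = 1 := Subtype.ext hu
      subst this; simp⟩
  refine ⟨g, hg, fun v => hgW v ?_⟩
  by_contra hv
  have hgN := s.sup_le_normalizer hg
  have hv' : g⁻¹ * ((φ v : ↥U) : G) * g ∈ U := by
    have := (Subgroup.mem_normalizer_iff.1 (inv_mem hgN) _).1 (φ v).2
    rwa [inv_inv] at this
  have hv'W : g⁻¹ * ((φ v : ↥U) : G) * g ∉ W := fun h => by
    have e := hgW ⟨_, hv'⟩ h
    rw [show g * ((⟨_, hv'⟩ : ↥U) : G) * g⁻¹ = ((φ v : ↥U) : G) by simp [mul_assoc]] at e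
    exact hv (show (v : G) ∈ W by rw [φ.injective (Subtype.ext e)]; exact h)
  obtain ⟨h, hh, hhW, hhv⟩ : ∃ h ∈ ⨆ u ∈ ((U : Set G) \ {1}), Q u,
      (∀ w ∈ W, h * w * h⁻¹ = w) ∧ h * (v : G) * h⁻¹ = g⁻¹ * ((φ v : ↥U) : G) * g := by
    by_cases he : (v : G) = g⁻¹ * ((φ v : ↥U) : G) * g
    · exact ⟨1, one_mem _, fun w _ => by simp, by simpa using he⟩
    set v' := g⁻¹ * ((φ v : ↥U) : G) * g
    have ha : v' * (v : G) ∈ U := mul_mem hv' v.2
    have ha1 : v' * (v : G) ≠ 1 := fun e => he (by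
      rw [mul_eq_one_iff_eq_inv.1 e, inv_eq_of_mul_eq_one_right (s.inv _ v.2)])
    obtain ⟨q, hq, hqW, hqv⟩ := s.exists_move hWU ha ha1 (s.le_core ha ha1 v.2) fun w hw => by
      refine ⟨fun e => hv (e ▸ hw), fun e => hv'W ?_⟩
      have e' : (1 : G) = w * v' := by
        calc (1 : G) = (v : G) * (v : G) := (s.inv _ v.2).symm
          _ = w * (v' * v) * v := by rw [← e]
          _ = w * v' * ((v : G) * v) := by group
          _ = w * v' := by rw [s.inv _ v.2, mul_one]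
      rw [eq_inv_of_mul_eq_one_right e'.symm]
      exact inv_mem hw
    refine ⟨q, Subgroup.mem_iSup_of_mem _ (Subgroup.mem_iSup_of_mem ⟨ha, ha1⟩ hq), hqW, ?_⟩
    rw [hqv, mul_assoc, s.inv _ v.2, mul_one]
  let E : Subgroup G :=
    { carrier := {y | ∃ hy : y ∈ U, g * h * y * (g * h)⁻¹ = ((φ ⟨y, hy⟩ : ↥U) : G)}
      one_mem' := ⟨one_mem U, by
        rw [show (⟨1, one_mem U⟩ : ↥U) = 1 from rfl, map_one, OneMemClass.coe_one]; group⟩
      mul_mem' := by
        rintro y y' ⟨hy, e⟩ ⟨hy', e'⟩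
        refine ⟨mul_mem hy hy', ?_⟩
        rw [show (⟨y * y', mul_mem hy hy'⟩ : ↥U) = ⟨y, hy⟩ * ⟨y', hy'⟩ from rfl, map_mul, Subgroup.coe_mul,
          ← e, ← e']
        group
      inv_mem' := by
        rintro y ⟨hy, e⟩
        refine ⟨inv_mem hy, ?_⟩
        rw [show (⟨y⁻¹, inv_mem hy⟩ : ↥U) = (⟨y, hy⟩ : ↥U)⁻¹ from rfl, map_inv, Subgroup.coe_inv, ← e]
        group }
  have hWE : W ≤ E := fun w hw => ⟨hWU hw, by
    rw [← hgW ⟨w, hWU hw⟩ hw]
    calc g * h * w * (g * h)⁻¹ = g * (h * w * h⁻¹) * g⁻¹ := by group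
      _ = _ := by rw [hhW w hw]⟩
  have hvE : (v : G) ∈ E := ⟨v.2, by
    calc g * h * (v : G) * (g * h)⁻¹ = g * (h * (v : G) * h⁻¹) * g⁻¹ := by group
      _ = _ := by rw [hhv]; group⟩
  have hgood : good E := ⟨fun y hy => hy.1, g * h, mul_mem hg hh, fun u hu => hu.2⟩
  exact hv (hmax hgood hWE hvE)

theorem exists_conj_eq_mul [Finite G] {x u : G} (hx : x ∈ ⨅ u ∈ ((U : Set G) \ {1}), Q u) (hxU : x ∉ U)
    (hu : u ∈ U) : ∃ g ∈ (⨆ u ∈ ((U : Set G) \ {1}), Q u) ⊓ Subgroup.centralizer (U : Set G),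
      g * x * g⁻¹ = x * u := by
  by_cases hu1 : u = 1
  · exact ⟨1, one_mem _, by simp [hu1]⟩
  simp only [Subgroup.mem_iInf] at hx
  have hxu := hx u ⟨hu, hu1⟩
  obtain ⟨q, hq, hqU, hqx⟩ := s.exists_move le_rfl hu hu1 hxu fun w hw =>
    ⟨fun e => hxU (e ▸ hw), fun e => hxU (e ▸ mul_mem hw hu)⟩
  refine ⟨q, ⟨Subgroup.mem_iSup_of_mem _ (Subgroup.mem_iSup_of_mem ⟨hu, hu1⟩ hq),
    Subgroup.mem_centralizer_iff.2 fun w hw => (mul_inv_eq_iff_eq_mul.1 (hqU w hw)).symm⟩, ?_⟩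
  rw [hqx, s.le u x hxu]

end Singular

end CfsgLib.Extraspecial.Symm
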