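import Cfsg.Agent.Lib.Extraspecial.Symmetry

/-!
The joint core of a singular subgroup is cut out by any generating set.
-/

set_option autoImplicit false

open Cfsg

namespace CfsgLib.Extraspecial.Symm

variable {G : Type*} [Group G]

theorem mem_mul_of_mem (Q : G → Subgroup G) (hle : ∀ y, ∀ q ∈ Q y, q * y = y * q)
    (heqv : ∀ h y, ∀ q ∈ Q y, h * q * h⁻¹ ∈ Q (h * y * h⁻¹))
    {a b x : G} (da : Zdata (Q a) a) (hb : b ∈ Q a) (hb1 : b ≠ 1) (hba : b ≠ a) (hab : a ∈ Q (a * b))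
    (hxa : x ∈ Q a) (hxb : x ∈ Q b) : x ∈ Q (a * b) := by
  obtain ⟨u, hu, hub⟩ : ∃ u ∈ Q a, u * b * u⁻¹ = a * b := by
    by_contra hno
    push Not at hno
    rcases da.cases b hb (fun q hq => by
      rcases da.comm q hq b hb with e | e
      · exact e.symm
      · exact absurd (by rw [e]; group) (hno q hq)) with e | e
    · exact hb1 e
    · exact hba e
  have hmem := heqv u b x hxb
  rw [hub] at hmem
  rcases da.comm u hu x hxa with e | e
  · rwa [e, mul_inv_cancel_right] at hmem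
  · rw [e, ← mul_assoc, mul_inv_cancel_right] at hmem
    exact (Subgroup.mul_mem_cancel_left _ hab).1 hmem

theorem zdata_conj (Q : G → Subgroup G)
    (heqv : ∀ h y, ∀ q ∈ Q y, h * q * h⁻¹ ∈ Q (h * y * h⁻¹))
    {z : G} (dz : Zdata (Q z) z) (g : G) : Zdata (Q (g * z * g⁻¹)) (g * z * g⁻¹) := by
  have hgeq : ∀ q ∈ Q (g * z * g⁻¹), g⁻¹ * q * g ∈ Q z := fun q hq => by
    have := heqv g⁻¹ _ q hq
    rw [inv_inv] at this
    rwa [show g⁻¹ * (g * z * g⁻¹) * g = z by group] at this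
  refine ⟨heqv g z z dz.mem, ?_, fun e => dz.ne (by simpa using conj_eq_one_iff.1 e), ?_, ?_, ?_⟩
  · calc g * z * g⁻¹ * (g * z * g⁻¹) = g * (z * z) * g⁻¹ := by group
      _ = 1 := by rw [dz.two]; group
  · intro a ha hab
    rcases dz.cases _ (hgeq a ha) (fun b hb => by
      have h := hab _ (heqv g z b hb)
      calc g⁻¹ * a * g * b = g⁻¹ * (a * (g * b * g⁻¹)) * g := by group
        _ = _ := by rw [h]; group) with h | h
    · exact Or.inl (calc a = g * (g⁻¹ * a * g) * g⁻¹ := by group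
        _ = 1 := by rw [h]; group)
    · exact Or.inr (calc a = g * (g⁻¹ * a * g) * g⁻¹ := by group
        _ = _ := by rw [h])
  · intro a ha
    have e : a * a = g * ((g⁻¹ * a * g) * (g⁻¹ * a * g)) * g⁻¹ := by group
    rcases dz.sq _ (hgeq a ha) with h | h
    · exact Or.inl (by rw [e, h]; group)
    · exact Or.inr (by rw [e, h])
  · intro a ha b hb
    have e : a * b = g * ((g⁻¹ * a * g) * (g⁻¹ * b * g)) * g⁻¹ := by group
    rcases dz.comm _ (hgeq a ha) _ (hgeq b hb) with h | h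
    · exact Or.inl (by rw [e, h]; group)
    · exact Or.inr (by rw [e, h]; group)

theorem joint_core_from_generators [Finite G] (Q : G → Subgroup G)
    (hQ : ∀ x : G, Q x = (Cfsg.pCore 2 ↥(Subgroup.centralizer ({x} : Set G))).map
      (Subgroup.centralizer ({x} : Set G)).subtype)
    (z : G) (hz : orderOf z = 2) (hE : IsExtraspecial 2 ↥(Q z))
    (hC : Subgroup.centralizer ((Q z : Subgroup G) : Set G) ≤ Q z)
    (U : Subgroup G) (hU2 : ∀ u ∈ U, u * u = 1) (hS : ∀ u ∈ U, u ≠ 1 → ∃ g : G, g * z * g⁻¹ = u)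
    (hO : ∀ u ∈ U, ∀ v ∈ U, u ≠ 1 → v ≠ 1 → v ∈ Q u)
    (T : Set G) (hT : Subgroup.closure T = U) (hT1 : (1 : G) ∉ T) :
    (⨅ u ∈ ((U : Set G) \ {1}), Q u) = ⨅ t ∈ T, Q t := by
  have hle : ∀ y, ∀ q ∈ Q y, q * y = y * q := fun y q hq => by
    rw [hQ] at hq
    obtain ⟨a, -, rfl⟩ := Subgroup.mem_map.1 hq
    exact Subgroup.mem_centralizer_singleton_iff.1 a.2
  have heqv : ∀ h y, ∀ q ∈ Q y, h * q * h⁻¹ ∈ Q (h * y * h⁻¹) := fun h y q hq => by
    rw [hQ] at hq ⊢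
    exact conj_mem_core 2 h y hq
  have hne : z ≠ 1 := fun e => by rw [e, orderOf_one] at hz; norm_num at hz
  have hzm : z ∈ Q z := hC (Subgroup.mem_centralizer_iff.2 fun q hq => hle z q hq)
  have dz := zdata_of hE hzm hne fun b hb => (hle z b hb).symm
  have hTU : T ⊆ U := hT ▸ Subgroup.subset_closure
  refine le_antisymm (le_iInf₂ fun t ht => iInf₂_le (f := fun u (_ : u ∈ (U : Set G) \ {1}) => Q u) t
    ⟨hTU ht, fun e => hT1 ((show t = 1 from e) ▸ ht)⟩) ?_
  refine le_iInf₂ fun u hu => fun x hx => ?_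
  simp only [Subgroup.mem_iInf] at hx
  suffices h : ∀ v ∈ Subgroup.closure T, v ∈ U ∧ (v ≠ 1 → x ∈ Q v) from
    (h u (hT.symm ▸ hu.1)).2 hu.2
  intro v hv
  induction hv using Subgroup.closure_induction with
  | mem t ht => exact ⟨hTU ht, fun _ => hx t ht⟩
  | one => exact ⟨one_mem U, fun h => absurd rfl h⟩
  | inv a _ ha =>
    rw [inv_eq_of_mul_eq_one_right (hU2 a ha.1)]
    exact ha
  | mul a b _ _ ha hb =>
    refine ⟨mul_mem ha.1 hb.1, fun hab => ?_⟩
    by_cases ha1 : a = 1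
    · rw [ha1, one_mul] at hab ⊢; exact hb.2 hab
    by_cases hb1 : b = 1
    · rw [hb1, mul_one] at hab ⊢; exact ha.2 hab
    have hba : b ≠ a := fun e => hab (by rw [e]; exact hU2 a ha.1)
    obtain ⟨g, rfl⟩ := hS a ha.1 ha1
    exact mem_mul_of_mem Q hle heqv (zdata_conj Q heqv dz g) (hO _ ha.1 _ hb.1 ha1 hb1) hb1 hba
      (hO _ (mul_mem ha.1 hb.1) _ ha.1 hab ha1) (ha.2 ha1) (hb.2 hb1)

end CfsgLib.Extraspecial.Symm
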